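import Groth.Agent.FlatInjLib.Main
import Groth.Agent.FibAssLib.Basic
import Mathlib

/-!
# Flatness at the associated points of the fibre
-/

set_option autoImplicit false
set_option linter.style.haveILetI false

universe u

open IsLocalRing
open scoped TensorProduct

namespace FlatInjLib

/-- A localisation of a flat module over an algebra is flat over the base. -/
theorem flat_of_isLocalizedModule {R S M M' : Type u} [CommRing R] [CommRing S] [Algebra R S] [AddCommGroup M]
    [Module R M] [Module S M] [IsScalarTower R S M] [AddCommGroup M'] [Module R M'] [Module S M'] [IsScalarTower R S M']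
    (T : Submonoid S) (f : M →ₗ[S] M') [IsLocalizedModule T f] [Module.Flat R M] : Module.Flat R M' := by
  refine Module.Flat.iff_lTensor_injectiveₛ.2 fun P _ _ N => ?_
  rw [← TensorProduct.AlgebraTensorModule.coe_lTensor (A := S)]
  have h := IsLocalizedModule.map_injective T (TensorProduct.AlgebraTensorModule.rTensor R N f)
    (TensorProduct.AlgebraTensorModule.rTensor R P f) (TensorProduct.AlgebraTensorModule.lTensor S M N.subtype)
    (Module.Flat.iff_lTensor_injectiveₛ.1 ‹_› N)
  rwa [IsLocalizedModule.map_lTensor] at h

variable {R S : Type u} [CommRing R] [CommRing S] [Algebra R S] {N : Type u} [AddCommGroup N] [Module S N]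
  [Module R N] [IsScalarTower R S N]

theorem flatAt_of_le {q q' : Ideal S} [q.IsPrime] [q'.IsPrime] (hle : q' ≤ q) (h : FlatCA.FlatAt R q N) :
    FlatCA.FlatAt R q' N := by
  haveI : Module.Flat R (LocalizedModule q.primeCompl N) := h
  exact flat_of_isLocalizedModule q'.primeCompl (IsLocalizedModule.liftOfLE q.primeCompl q'.primeCompl
    (fun _ hs hq => hs (hle hq)) (LocalizedModule.mkLinearMap q.primeCompl N) (LocalizedModule.mkLinearMap q'.primeCompl N))

/-- An associated prime of the fibre module is the extension of the prime of `S` under it. -/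
theorem fiberIdeal_comap (p : Ideal R) [p.IsPrime] (Q : Ideal (p.Fiber S)) [Q.IsPrime] :
    FlatCA.fiberIdeal p (Q.comap (FibAssLib.incl S p)) = Q := by
  refine le_antisymm Ideal.map_comap_le fun f hf => ?_
  obtain ⟨t, ht, s, hs⟩ := FibAssLib.exists_incl_eq p f
  have hs' : s ∈ Q.comap (FibAssLib.incl S p) := Ideal.mem_comap.2 (hs ▸ Q.mul_mem_left _ hf)
  exact (Ideal.unit_mul_mem_iff_mem _ (FibAssLib.isUnit_incl p ht)).1 (hs ▸ Ideal.mem_map_of_mem _ hs')

theorem comap_incl_liesOver (p : Ideal R) [p.IsPrime] (Q : Ideal (p.Fiber S)) [Q.IsPrime] :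
    (Q.comap (FibAssLib.incl S p)).LiesOver p := by
  refine ⟨le_antisymm (fun r hr => ?_) fun r hr => ?_⟩
  · show (Algebra.TensorProduct.includeRight (R := R) (A := p.ResidueField) (B := S)) (algebraMap R S r) ∈ Q
    rw [AlgHom.commutes, IsScalarTower.algebraMap_apply R p.ResidueField (p.Fiber S),
      Ideal.algebraMap_residueField_eq_zero.2 hr, map_zero]
    exact zero_mem _
  · by_contra h
    exact Ideal.IsPrime.ne_top inferInstance (Ideal.eq_top_of_isUnit_mem Q hr (FibAssLib.isUnit_incl p h))

/-- Flatness at the associated points of the fibre which generalise `q` gives flatness at `q`. -/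
theorem flatAt_of_ass [Algebra.FiniteType R S] [Module.Finite S N] (p : Ideal R) [p.IsPrime] (q : Ideal S) [q.IsPrime]
    [q.LiesOver p] (h : ∀ Q ∈ associatedPrimes (p.Fiber S) (FlatCA.fiberMod p S N), ∀ [Q.IsPrime],
      Q.comap (FibAssLib.incl S p) ≤ q → FlatCA.FlatAt R (Q.comap (FibAssLib.incl S p)) N) :
    FlatCA.FlatAt R q N := by
  classical
  haveI : IsNoetherianRing (p.Fiber S) := Algebra.FiniteType.isNoetherianRing p.ResidueField _
  haveI : Module.Finite (p.Fiber S) (FlatCA.fiberMod p S N) := by
    letI : Algebra S (p.Fiber S) := Algebra.TensorProduct.rightAlgebra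
    exact Module.Finite.base_change S (p.Fiber S) N
  let A := Localization.AtPrime p
  let B := Localization.AtPrime q
  letI : Algebra A B := (Localization.localRingHom p q (algebraMap R S) (Ideal.over_def q p)).toAlgebra
  haveI : IsScalarTower R A B := IsScalarTower.of_algebraMap_eq fun x => by
    rw [RingHom.algebraMap_toAlgebra, Localization.localRingHom_to_map, ← IsScalarTower.algebraMap_apply]
  haveI : IsLocalHom (algebraMap A B) :=
    Localization.isLocalHom_localRingHom p q (algebraMap R S) (Ideal.over_def q p)
  haveI : Algebra.EssFiniteType R B := Algebra.EssFiniteType.comp R S B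
  haveI : Algebra.EssFiniteType A B := Algebra.EssFiniteType.of_comp R A B
  let Nq := LocalizedModule q.primeCompl N
  letI : Module A Nq := Module.compHom Nq (algebraMap A B)
  haveI : IsScalarTower A B Nq := IsScalarTower.of_compHom _ _ _
  haveI : IsScalarTower R A Nq := IsScalarTower.of_algebraMap_smul fun x y => by
    show algebraMap A B (algebraMap R _ x) • y = x • y
    rw [← IsScalarTower.algebraMap_apply, IsScalarTower.algebraMap_apply R S B, algebraMap_smul, algebraMap_smul]
  let T := {Q : associatedPrimes (p.Fiber S) (FlatCA.fiberMod p S N) //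
    (Q : Ideal (p.Fiber S)).comap (FibAssLib.incl S p) ≤ q}
  haveI : Finite (associatedPrimes (p.Fiber S) (FlatCA.fiberMod p S N)) :=
    (associatedPrimes.finite (p.Fiber S) (FlatCA.fiberMod p S N)).to_subtype
  haveI : Fintype T := Fintype.ofFinite T
  haveI hQ (Q : T) : (Q.1 : Ideal (p.Fiber S)).IsPrime := IsAssociatedPrime.isPrime Q.1.2
  let q' (Q : T) : Ideal S := (Q.1 : Ideal (p.Fiber S)).comap (FibAssLib.incl S p)
  haveI hq' (Q : T) : (q' Q).IsPrime := Ideal.IsPrime.comap _
  let g (Q : T) : B →+* Localization.AtPrime (q' Q) := IsLocalization.lift (M := q.primeCompl)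
    (g := algebraMap S (Localization.AtPrime (q' Q)))
    fun s => IsLocalization.map_units _ (⟨s, fun hs => s.2 (Q.2 hs)⟩ : (q' Q).primeCompl)
  letI (Q : T) : Module B (LocalizedModule (q' Q).primeCompl N) := Module.compHom _ (g Q)
  letI (Q : T) : Module A (LocalizedModule (q' Q).primeCompl N) := Module.compHom _ (algebraMap A B)
  haveI (Q : T) : IsScalarTower A B (LocalizedModule (q' Q).primeCompl N) := IsScalarTower.of_compHom _ _ _
  haveI (Q : T) : IsScalarTower S B (LocalizedModule (q' Q).primeCompl N) := IsScalarTower.of_algebraMap_smul fun x y => by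
    show g Q (algebraMap S B x) • y = x • y
    rw [IsLocalization.lift_eq, algebraMap_smul]
  haveI (Q : T) : IsScalarTower R A (LocalizedModule (q' Q).primeCompl N) := IsScalarTower.of_algebraMap_smul fun x y => by
    show algebraMap A B (algebraMap R A x) • y = x • y
    rw [← IsScalarTower.algebraMap_apply, IsScalarTower.algebraMap_apply R S B, algebraMap_smul, algebraMap_smul]
  haveI hfl (Q : T) : Module.Flat A (LocalizedModule (q' Q).primeCompl N) :=
    (Module.flat_iff_of_isLocalization A p.primeCompl _).2 (h _ Q.1.2 Q.2)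
  haveI : Module.Flat A (∀ Q : T, LocalizedModule (q' Q).primeCompl N) :=
    Module.Flat.of_linearEquiv
      (DirectSum.linearEquivFunOnFintype A T fun Q : T => LocalizedModule (q' Q).primeCompl N).symm
  let u : Nq →ₗ[B] (∀ Q : T, LocalizedModule (q' Q).primeCompl N) := LinearMap.pi fun Q =>
    (IsLocalizedModule.liftOfLE q.primeCompl (q' Q).primeCompl (fun _ hs hq => hs (Q.2 hq))
      (LocalizedModule.mkLinearMap q.primeCompl N)
      (LocalizedModule.mkLinearMap (q' Q).primeCompl N)).extendScalarsOfIsLocalization q.primeCompl B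
  have key : Module.Flat A Nq := by
    refine flat_of_injective_mod u fun x hx => ?_
    rw [← Localization.AtPrime.map_eq_maximalIdeal, ← mem_smul_top_iff_map] at hx ⊢
    induction x using LocalizedModule.induction_on with
    | h n s =>
      have hkill : ∀ Q : T, ∃ t : S, t ∉ q' Q ∧ t • n ∈ p.map (algebraMap R S) • (⊤ : Submodule S N) := by
        intro Q
        let pr : (∀ Q : T, LocalizedModule (q' Q).primeCompl N) →ₗ[R] LocalizedModule (q' Q).primeCompl N :=
          LinearMap.proj Q
        have h1 : pr (u (LocalizedModule.mk n s)) ∈ p • (⊤ : Submodule R (LocalizedModule (q' Q).primeCompl N)) := by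
          have := Submodule.mem_map_of_mem (f := pr) hx
          rw [Submodule.map_smul''] at this
          exact Submodule.smul_mono le_rfl le_top this
        have h2 : LocalizedModule.mk n (⟨s, fun hs => s.2 (Q.2 hs)⟩ : (q' Q).primeCompl) ∈
            p.map (algebraMap R S) • (⊤ : Submodule S (LocalizedModule (q' Q).primeCompl N)) := by
          refine (mem_smul_top_iff_map p _).1 ?_
          convert h1 using 1
          show _ = IsLocalizedModule.liftOfLE q.primeCompl (q' Q).primeCompl (fun _ hs hq => hs (Q.2 hq)) _ _ (LocalizedModule.mk n s)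
          simp only [IsLocalizedModule.mk_eq_mk', IsLocalizedModule.liftOfLE_mk']
        have h3 : ∀ y ∈ p.map (algebraMap R S) • (⊤ : Submodule S (LocalizedModule (q' Q).primeCompl N)),
            ∃ t ∉ q' Q, ∃ m ∈ p.map (algebraMap R S) • (⊤ : Submodule S N), t • y = LocalizedModule.mk m 1 := by
          intro y hy
          refine Submodule.smul_induction_on hy (fun a ha z _ => ?_) ?_
          · induction z using LocalizedModule.induction_on with
            | h m t =>
              refine ⟨t, t.2, a • m, Submodule.smul_mem_smul ha trivial, ?_⟩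
              rw [LocalizedModule.smul'_mk, LocalizedModule.smul'_mk, ← Submonoid.smul_def, LocalizedModule.mk_cancel]
          · rintro y z ⟨t, ht, m, hm, e⟩ ⟨t', ht', m', hm', e'⟩
            refine ⟨t * t', (hq' Q).mul_notMem ht ht', t' • m + t • m',
              add_mem (Submodule.smul_mem _ _ hm) (Submodule.smul_mem _ _ hm'), ?_⟩
            have hmk : ∀ (c : S) (w : N), LocalizedModule.mk (c • w) (1 : (q' Q).primeCompl) = c • LocalizedModule.mk w 1 :=
              fun c w => (LocalizedModule.smul'_mk _ _ _).symm
            rw [smul_add, ← LocalizedModule.mkLinearMap_apply, map_add, LocalizedModule.mkLinearMap_apply,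
              LocalizedModule.mkLinearMap_apply, hmk, hmk, ← e, ← e', ← mul_smul, ← mul_smul, mul_comm t' t]
        obtain ⟨t, ht, m, hm, e⟩ := h3 _ h2
        rw [LocalizedModule.smul'_mk] at e
        obtain ⟨c, hc⟩ := LocalizedModule.mk_eq.1 e
        refine ⟨(c : S) * t, (hq' Q).mul_notMem c.2 ht, ?_⟩
        simp only [one_smul, Submonoid.smul_def] at hc
        rw [mul_smul, hc]
        exact Submodule.smul_mem _ _ (Submodule.smul_mem _ _ hm)
      let nb := FlatCA.toFiberMod p S N n
      let J : Ideal (p.Fiber S) := Module.annihilator (p.Fiber S) (Submodule.span (p.Fiber S) {nb})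
      have hJ : ∀ f : p.Fiber S, f ∈ J ↔ f • nb = 0 := fun f => Submodule.mem_annihilator_span_singleton nb f
      obtain ⟨s', hs'q, hs'⟩ : ∃ s' : S, s' ∉ q ∧ s' • nb = 0 := by
        by_contra hno
        push Not at hno
        have hdis : Disjoint (J : Set (p.Fiber S)) (Submonoid.map (FibAssLib.incl S p).toMonoidHom q.primeCompl : Set (p.Fiber S)) := by
          refine Set.disjoint_left.2 fun f hf hf' => ?_
          obtain ⟨s', hs', rfl⟩ := hf'
          exact hno s' hs' (by rw [FibAssLib.smul_eq]; exact (hJ _).1 hf)
        obtain ⟨Q₁, hQ₁, hJQ, hQdis⟩ := Ideal.exists_le_prime_disjoint J _ hdis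
        haveI := hQ₁
        obtain ⟨P, hP, hPQ⟩ := Ideal.exists_minimalPrimes_le hJQ
        haveI : Module.Finite (p.Fiber S) (Submodule.span (p.Fiber S) {nb}) :=
          Module.Finite.iff_fg.2 (Submodule.fg_span_singleton _)
        have hPass : P ∈ associatedPrimes (p.Fiber S) (FlatCA.fiberMod p S N) :=
          associatedPrimes.subset_of_injective (Submodule.injective_subtype _)
            (Module.associatedPrimes.minimalPrimes_annihilator_subset_associatedPrimes _ _ hP)
        have hPq : P.comap (FibAssLib.incl S p) ≤ q := fun y hy => by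
          by_contra hyq
          exact Set.disjoint_left.1 hQdis (hPQ hy) ⟨y, hyq, rfl⟩
        let Q : T := ⟨⟨P, hPass⟩, hPq⟩
        obtain ⟨t, ht, htn⟩ := hkill Q
        refine ht (hP.1.2 ((hJ _).2 ?_))
        rw [← FibAssLib.smul_eq, ← map_smul]
        exact FibAssLib.toFiberMod_map_eq_zero p htn
      obtain ⟨t, ht, htz⟩ := FibAssLib.exists_smul_eq_zero_of_β p
        (z := (Submodule.Quotient.mk (s' • n) : FibAssLib.quot (S := S) N p))
        (by show FlatCA.toFiberMod p S N (s' • n) = 0; rw [map_smul]; exact hs')
      rw [← Submodule.Quotient.mk_smul, Submodule.Quotient.mk_eq_zero, ← algebraMap_smul S t, ← mul_smul] at htz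
      have htq : algebraMap R S t ∉ q := fun hh => ht (by rw [Ideal.over_def q p]; exact hh)
      let c : q.primeCompl := ⟨algebraMap R S t * s', Ideal.IsPrime.mul_notMem inferInstance htq hs'q⟩
      have h4 : LocalizedModule.mk ((c : S) • n) (1 : q.primeCompl) ∈ p.map (algebraMap R S) • (⊤ : Submodule S Nq) := by
        have := Submodule.mem_map_of_mem (f := LocalizedModule.mkLinearMap q.primeCompl N) htz
        rw [Submodule.map_smul''] at this
        exact Submodule.smul_mono le_rfl le_top this
      rw [← mem_smul_top_iff_map, mem_smul_top_iff_map (B := B)] at h4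
      have h5 := Submodule.smul_mem _ (IsLocalization.mk' B (1 : S) (c * s)) h4
      rw [mem_smul_top_iff_map (B := B)]
      convert h5 using 1
      rw [← Localization.mk_eq_mk']
      exact ((LocalizedModule.mk_smul_mk _ _ _ _).trans (by rw [one_smul, mul_one, ← Submonoid.smul_def, LocalizedModule.mk_cancel_common_left])).symm
  exact (Module.flat_iff_of_isLocalization A p.primeCompl Nq).1 key

end FlatInjLib
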