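import Groth.Agent.FlatInjLib.FibreBasis
import Mathlib

/-!
# The fibre basis criterion over a general base
-/

set_option autoImplicit false
set_option linter.style.haveILetI false

universe u

open IsLocalRing
open scoped TensorProduct

namespace FlatInjLib

/-- Nakayama: a map surjective at the residue field is surjective at the localisation. -/
theorem surjective_map_of_baseChange {S : Type u} [CommRing S] (pS : Ideal S) [pS.IsPrime] {F N : Type u} [AddCommGroup F]
    [Module S F] [AddCommGroup N] [Module S N] [Module.Finite S N] (α : F →ₗ[S] N)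
    (hα : Function.Surjective (α.baseChange pS.ResidueField)) :
    Function.Surjective (LocalizedModule.map pS.primeCompl α) := by
  let Bp := Localization.AtPrime pS
  let up := LocalizedModule.map pS.primeCompl α
  rw [← LinearMap.range_eq_top, ← IsLocalRing.map_mkQ_eq_top]
  rw [eq_top_iff]
  rintro x -
  obtain ⟨x, rfl⟩ := Submodule.mkQ_surjective _ x
  induction x using LocalizedModule.induction_on with
  | h n s =>
    obtain ⟨w, hw⟩ := hα ((1 : pS.ResidueField) ⊗ₜ[S] n)
    let ψ : TensorProduct S Bp N →ₗ[Bp] LocalizedModule pS.primeCompl N :=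
      (IsLocalizedModule.isBaseChange pS.primeCompl Bp (LocalizedModule.mkLinearMap pS.primeCompl N)).equiv.toLinearMap
    obtain ⟨w', hw'⟩ := LinearMap.rTensor_surjective F (g := (IsScalarTower.toAlgHom S Bp pS.ResidueField).toLinearMap)
      IsLocalRing.residue_surjective w
    have hz : ∀ y : TensorProduct S Bp N, (IsScalarTower.toAlgHom S Bp pS.ResidueField).toLinearMap.rTensor N y = 0 →
        ψ y ∈ maximalIdeal Bp • (⊤ : Submodule Bp (LocalizedModule pS.primeCompl N)) := by
      intro y hy
      obtain ⟨c, rfl⟩ := (rTensor_exact N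
        (LinearMap.exact_subtype_ker_map (IsScalarTower.toAlgHom S Bp pS.ResidueField).toLinearMap)
        IsLocalRing.residue_surjective y).1 hy
      clear hy
      induction c using TensorProduct.induction_on with
      | zero => simp
      | tmul a b =>
        rw [LinearMap.rTensor_tmul, show ((LinearMap.ker _).subtype a : Bp) ⊗ₜ[S] b = (a : Bp) • ((1 : Bp) ⊗ₜ[S] b) by
          rw [TensorProduct.smul_tmul', smul_eq_mul, mul_one]; rfl, map_smul]
        exact Submodule.smul_mem_smul ((IsLocalRing.residue_eq_zero_iff (a : Bp)).1 a.2) trivial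
      | add a b ha hb => rw [map_add, map_add]; exact add_mem ha hb
    have hd0 : (IsScalarTower.toAlgHom S Bp pS.ResidueField).toLinearMap.rTensor N
        ((1 : Bp) ⊗ₜ[S] n - α.lTensor Bp w') = 0 := by
      rw [map_sub, LinearMap.rTensor_tmul, ← LinearMap.comp_apply _ (α.lTensor Bp), LinearMap.rTensor_comp_lTensor,
        ← LinearMap.lTensor_comp_rTensor, LinearMap.comp_apply, hw']
      show (algebraMap Bp pS.ResidueField 1) ⊗ₜ[S] n - _ = 0
      rw [map_one, sub_eq_zero]
      exact hw.symm
    have h5 := hz _ hd0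
    have hrange : ∀ y : TensorProduct S Bp F, ψ (α.lTensor Bp y) ∈ LinearMap.range up := by
      intro y
      induction y using TensorProduct.induction_on with
      | zero => simp
      | tmul a b =>
        rw [LinearMap.lTensor_tmul, show a ⊗ₜ[S] α b = a • ((1 : Bp) ⊗ₜ[S] α b) by
          rw [TensorProduct.smul_tmul', smul_eq_mul, mul_one], map_smul]
        refine Submodule.smul_mem _ a ⟨LocalizedModule.mk b 1, ?_⟩
        show up _ = (IsLocalizedModule.isBaseChange pS.primeCompl Bp (LocalizedModule.mkLinearMap pS.primeCompl N)).equiv _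
        rw [IsBaseChange.equiv_tmul, one_smul]
        exact LocalizedModule.map_mk ..
      | add a b ha hb => rw [map_add, map_add]; exact add_mem ha hb
    rw [map_sub, ← Submodule.Quotient.mk_eq_zero, Submodule.Quotient.mk_sub, sub_eq_zero] at h5
    have hn : ψ ((1 : Bp) ⊗ₜ[S] n) = LocalizedModule.mk n 1 := by
      show (IsLocalizedModule.isBaseChange pS.primeCompl Bp (LocalizedModule.mkLinearMap pS.primeCompl N)).equiv _ = _
      rw [IsBaseChange.equiv_tmul, one_smul]
      rfl
    rw [hn] at h5
    rw [show LocalizedModule.mk n s = IsLocalization.mk' Bp (1 : S) s • LocalizedModule.mk n 1 by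
      rw [← Localization.mk_eq_mk']
      exact ((LocalizedModule.mk_smul_mk _ _ _ _).trans (by rw [one_smul, mul_one])).symm, map_smul]
    refine Submodule.smul_mem _ _ ⟨ψ (α.lTensor Bp w'), hrange w', ?_⟩
    exact h5.symm

variable {R S : Type u} [CommRing R] [CommRing S] [Algebra R S] [Algebra.FiniteType R S] [Module.Flat R S]

/-- Nonzero elements of `S^r ⊗ Q` do not die at some extended prime. -/
theorem exists_map_annihilator_le (hd : ∀ (p : Ideal R) [p.IsPrime], IsDomain (p.ResidueField ⊗[R] S)) (r : ℕ)
    (Q : Type u) [AddCommGroup Q] [Module R Q] (T : Submonoid S) (z : (Fin r → S) ⊗[R] Q) (hz : ∀ t ∈ T, t • z ≠ 0) :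
    ∃ (q' : Ideal S) (_ : q'.IsPrime), q' ≤ (q'.comap (algebraMap R S)).map (algebraMap R S) ∧
      Disjoint (q' : Set S) (T : Set S) ∧ ∀ s : S, s • z = 0 → s ∈ q' := by
  classical
  haveI : Module.Flat R (Fin r → S) :=
    Module.Flat.of_linearEquiv ((Finsupp.linearEquivFunOnFinite R S (Fin r)).symm.trans (finsuppLequivDFinsupp R))
  obtain ⟨P, hP, hle, hPT⟩ := Ideal.exists_le_prime_disjoint (Submodule.span S {z}).annihilator T
    (Set.disjoint_left.2 fun s hs hsT => hz s hsT ((Submodule.mem_annihilator_span_singleton _ _).1 hs))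
  haveI := hP
  obtain ⟨q', hq', hq'P⟩ := Ideal.exists_minimalPrimes_le hle
  haveI : q'.IsPrime := hq'.1.1
  let p' := q'.comap (algebraMap R S)
  haveI : q'.LiesOver p' := ⟨rfl⟩
  obtain ⟨W, hW, hWq⟩ := mem_associatedPrimes_of_mem_minimalPrimes p' q'
    (flat_of_isLocalizedModule q'.primeCompl (LocalizedModule.mkLinearMap q'.primeCompl (Fin r → S))) Q z hq'
  haveI : W.IsPrime := IsAssociatedPrime.isPrime hW
  refine ⟨q', inferInstance, le_map_of_mem_associatedPrimes p' (hd p') q' r ?_, hPT.mono_left hq'P,
    fun s hs => hq'.1.2 ((Submodule.mem_annihilator_span_singleton _ _).2 hs)⟩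
  rw [show FlatCA.fiberIdeal p' q' = W from (congrArg (FlatCA.fiberIdeal p') hWq.symm).trans (fiberIdeal_comap p' W)]
  exact hW

variable {N : Type u} [AddCommGroup N] [Module S N] [Module R N] [IsScalarTower R S N]

/-- Universal injectivity of a localised map from isomorphisms at the extended primes. -/
theorem univInj_map_of_bijective (hd : ∀ (p : Ideal R) [p.IsPrime], IsDomain (p.ResidueField ⊗[R] S)) {r : ℕ}
    (α : (Fin r → S) →ₗ[S] N) (T : Submonoid S)
    (h : ∀ (q' : Ideal S) [q'.IsPrime], q' ≤ (q'.comap (algebraMap R S)).map (algebraMap R S) →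
      Disjoint (q' : Set S) (T : Set S) →
      ∃ U : Submonoid S, Disjoint (q' : Set S) (U : Set S) ∧ Function.Bijective (LocalizedModule.map U α)) :
    FlatCA.UnivInj R ((LocalizedModule.map T α).restrictScalars R) := by
  intro Q _ _
  rw [LinearMap.lTensor_inj_iff_rTensor_inj]
  refine (injective_iff_map_eq_zero _).2 fun w hw => ?_
  let fF := LocalizedModule.mkLinearMap T (Fin r → S)
  let fN := LocalizedModule.mkLinearMap T N
  let ℓF := TensorProduct.AlgebraTensorModule.rTensor R Q fF
  let ℓN := TensorProduct.AlgebraTensorModule.rTensor R Q fN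
  let αQ := TensorProduct.AlgebraTensorModule.rTensor R Q α
  let m := TensorProduct.AlgebraTensorModule.rTensor R Q ((LocalizedModule.map T α).restrictScalars S)
  obtain ⟨⟨z, t⟩, hzt⟩ := IsLocalizedModule.surj T ℓF w
  have hcomm : ∀ y, m (ℓF y) = ℓN (αQ y) := fun y => by
    induction y using TensorProduct.induction_on with
    | zero => simp
    | tmul a b =>
      show (LocalizedModule.map T α (LocalizedModule.mk a 1)) ⊗ₜ[R] b = LocalizedModule.mk (α a) 1 ⊗ₜ[R] b
      rw [show LocalizedModule.map T α (LocalizedModule.mk a 1) = LocalizedModule.mk (α a) 1 from LocalizedModule.map_mk ..]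
    | add a b ha hb => simp only [map_add, ha, hb]
  have h0 : ℓN (αQ z) = 0 := by
    rw [← hcomm, ← hzt]
    show m ((t : S) • w) = 0
    rw [map_smul]
    exact (congrArg _ hw).trans (smul_zero _)
  obtain ⟨c, hc⟩ := (IsLocalizedModule.eq_zero_iff T ℓN).1 h0
  suffices hzero : ℓF z = 0 from
    (Module.End.isUnit_iff _).1 (IsLocalizedModule.map_units ℓF t) |>.1 ((hzt.trans hzero).trans (map_zero _).symm)
  by_contra hne
  have hne' : ∀ s ∈ T, s • z ≠ 0 := fun s hs hsz => hne ((IsLocalizedModule.eq_zero_iff T ℓF).2 ⟨⟨s, hs⟩, hsz⟩)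
  obtain ⟨q', hq', hmap, hdis, hann⟩ := exists_map_annihilator_le hd r Q T z hne'
  obtain ⟨U, hU, hbij⟩ := h q' hmap hdis
  let kF := TensorProduct.AlgebraTensorModule.rTensor R Q (LocalizedModule.mkLinearMap U (Fin r → S))
  let kN := TensorProduct.AlgebraTensorModule.rTensor R Q (LocalizedModule.mkLinearMap U N)
  let e := (LinearEquiv.ofBijective _ hbij).restrictScalars R
  have hk : ∀ y, LinearMap.rTensor Q e.toLinearMap (kF y) = kN (αQ y) := fun y => by
    induction y using TensorProduct.induction_on with
    | zero => simp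
    | tmul a b =>
      show (LocalizedModule.map U α (LocalizedModule.mk a 1)) ⊗ₜ[R] b = LocalizedModule.mk (α a) 1 ⊗ₜ[R] b
      rw [show LocalizedModule.map U α (LocalizedModule.mk a 1) = LocalizedModule.mk (α a) 1 from LocalizedModule.map_mk ..]
    | add a b ha hb => simp only [map_add, ha, hb]
  have h1 : kF ((c : S) • z) = 0 := by
    apply (LinearEquiv.rTensor Q e).injective
    show LinearMap.rTensor Q e.toLinearMap _ = LinearMap.rTensor Q e.toLinearMap 0
    rw [hk, map_smul αQ, map_zero (LinearMap.rTensor Q e.toLinearMap), show (c : S) • αQ z = 0 from hc, map_zero]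
  obtain ⟨u, hu⟩ := (IsLocalizedModule.eq_zero_iff U kF).1 h1
  rw [Submonoid.smul_def, ← mul_smul] at hu
  exact (hq'.mem_or_mem (hann _ hu)).elim (fun h' => Set.disjoint_left.1 hU h' u.2) (fun h' => Set.disjoint_left.1 hdis h' c.2)

end FlatInjLib
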