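import Groth.Agent.FlatInjLib.Inj
import Mathlib

/-!
# Universal injectivity, flatness and finite presentation from injectivity modulo the maximal ideal
-/

set_option autoImplicit false
set_option linter.style.haveILetI false

universe u

open IsLocalRing
open scoped TensorProduct

namespace FlatInjLib

variable {A B : Type u} [CommRing A] [CommRing B] [IsLocalRing A] [IsLocalRing B] [Algebra A B]
  [IsLocalHom (algebraMap A B)] [Algebra.EssFiniteType A B] {N M : Type u} [AddCommGroup N] [Module B N] [Module A N]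
  [IsScalarTower A B N] [Module.Finite B N] [AddCommGroup M] [Module B M] [Module A M] [IsScalarTower A B M]
  [Module.Flat A M]

attribute [local instance] Algebra.TensorProduct.rightAlgebra in
theorem lTensor_injective_of_retraction (u : N →ₗ[B] M)
    (hu : ∀ x : N, u x ∈ maximalIdeal A • (⊤ : Submodule A M) → x ∈ maximalIdeal A • (⊤ : Submodule A N))
    (Q : Type u) [AddCommGroup Q] [Module A Q] (E : Type u) [CommRing E] [IsLocalRing E] [Algebra A E] (f : E →ₐ[A] A)
    (hunitE : ∀ e, IsUnit e ↔ IsUnit (f e)) (hsqE : ∀ x y, f x = 0 → f y = 0 → x * y = 0)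
    (i : Q →ₗ[A] E) (sd : E →ₗ[A] Q) (hsi : sd.comp i = LinearMap.id) :
    Function.Injective ((u.restrictScalars A).lTensor Q) := by
  classical
  let C := E ⊗[A] B
  let pr : C →ₐ[A] B := Algebra.TensorProduct.lift ((Algebra.ofId A B).comp f)
    (AlgHom.id A B) fun _ _ => Commute.all _ _
  have hmem : ∀ e : E, e ∈ maximalIdeal E ↔ f e ∈ maximalIdeal A := fun e => by
    rw [mem_maximalIdeal, mem_maximalIdeal, mem_nonunits_iff, mem_nonunits_iff, hunitE]
  let K : Ideal C := (RingHom.ker f.toRingHom).map (algebraMap E C)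
  have hd : ∀ c : C, c - (1 : E) ⊗ₜ[A] pr c ∈ K := fun c => by
    induction c using TensorProduct.induction_on with
    | zero => rw [map_zero, TensorProduct.tmul_zero, sub_zero]; exact zero_mem _
    | tmul e b =>
      have e0 : pr (e ⊗ₜ[A] b) = f e • b := by
        rw [Algebra.TensorProduct.lift_tmul, Algebra.smul_def]
        rfl
      rw [e0, ← TensorProduct.smul_tmul, ← TensorProduct.sub_tmul]
      have e1 : f (e - f e • (1 : E)) = 0 := by rw [map_sub, map_smul, map_one, smul_eq_mul, mul_one, sub_self]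
      rw [show (e - f e • (1 : E)) ⊗ₜ[A] b = algebraMap E C (e - f e • (1 : E)) * ((1 : E) ⊗ₜ[A] b) by
        rw [Algebra.TensorProduct.algebraMap_apply, Algebra.TensorProduct.tmul_mul_tmul, mul_one, one_mul]; rfl]
      exact Ideal.mul_mem_right _ _ (Ideal.mem_map_of_mem _ e1)
    | add x y hx hy => rw [map_add, TensorProduct.tmul_add, add_sub_add_comm]; exact add_mem hx hy
  have hKm : RingHom.ker f.toRingHom ≤ maximalIdeal E := fun e he => (hmem e).2 ((show f e = 0 from he) ▸ zero_mem _)
  have hdec : ∀ c : C, c - (1 : E) ⊗ₜ[A] pr c ∈ (maximalIdeal E).map (algebraMap E C) := fun c =>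
    Ideal.map_mono hKm (hd c)
  have hsq : ∀ c : C, pr c = 0 → c * c = 0 := fun c hc => by
    have h1 := hd c
    rw [hc, TensorProduct.tmul_zero, sub_zero] at h1
    have h2 := Ideal.mul_mem_mul h1 h1
    rw [← Ideal.map_mul, show RingHom.ker f.toRingHom * RingHom.ker f.toRingHom = ⊥ from
      eq_bot_iff.2 (Ideal.mul_le.2 fun x hx y hy => (Ideal.mem_bot).2 (hsqE x y hx hy)), Ideal.map_bot, Ideal.mem_bot] at h2
    exact h2
  have hunit : ∀ c : C, IsUnit (pr c) → IsUnit c := fun c hc => by
    obtain ⟨b, hb⟩ := isUnit_iff_exists_inv.1 hc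
    have h0 : pr (1 - c * ((1 : E) ⊗ₜ[A] b)) = 0 := by
      rw [map_sub, map_mul, map_one, Algebra.TensorProduct.lift_tmul]
      simp [hb]
    have h1 := IsNilpotent.isUnit_one_sub (r := 1 - c * ((1 : E) ⊗ₜ[A] b)) ⟨2, by rw [pow_two]; exact hsq _ h0⟩
    rw [sub_sub_cancel] at h1
    exact isUnit_of_mul_isUnit_left h1
  haveI : Nontrivial C := pr.toRingHom.domain_nontrivial
  haveI : IsLocalRing C := by
    refine IsLocalRing.of_nonunits_add fun a b ha hb h => ?_
    have h' := h.map pr
    rw [map_add] at h'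
    rcases IsLocalRing.isUnit_or_isUnit_of_isUnit_add h' with h1 | h1
    · exact ha (hunit _ h1)
    · exact hb (hunit _ h1)
  haveI : IsLocalHom (algebraMap E C) := ⟨fun e he => by
    have h := he.map pr
    rw [Algebra.TensorProduct.algebraMap_apply, Algebra.TensorProduct.lift_tmul] at h
    rw [hunitE]
    exact IsUnit.of_map (algebraMap A B) _ (by simpa using h)⟩
  haveI : Algebra.EssFiniteType E C := inferInstance
  haveI : Module.Finite C (C ⊗[B] N) := inferInstance
  haveI : Module.Flat E (C ⊗[B] M) := Module.Flat.of_linearEquiv (Algebra.IsPushout.cancelBaseChange A E B C M)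
  let uC : C ⊗[B] N →ₗ[C] C ⊗[B] M := u.baseChange C
  -- projections
  letI : Algebra C B := pr.toRingHom.toAlgebra
  have hprB : ∀ b : B, pr ((1 : E) ⊗ₜ[A] b) = b := fun b => by rw [Algebra.TensorProduct.lift_tmul, map_one, one_mul]; rfl
  let projM : C ⊗[B] M →ₗ[B] M := TensorProduct.lift
    (LinearMap.mk₂ B (fun (c : C) (x : M) => pr c • x) (fun c c' x => by simp [add_smul])
      (fun b c x => by
        rw [Algebra.smul_def, map_mul, mul_smul]
        show pr ((1 : E) ⊗ₜ[A] b) • _ = _
        rw [hprB])
      (fun c x y => smul_add _ _ _) (fun b c x => smul_comm _ _ _))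
  have hproj : ∀ x ∈ maximalIdeal E • (⊤ : Submodule E (C ⊗[B] M)), projM x ∈ maximalIdeal A • (⊤ : Submodule A M) := by
    intro x hx
    refine Submodule.smul_induction_on hx (fun e he y hy0 => ?_) fun y y' hy hy' => by rw [map_add]; exact add_mem hy hy'
    clear hy0
    induction y using TensorProduct.induction_on with
    | zero => rw [smul_zero, map_zero]; exact zero_mem _
    | tmul c m =>
      rw [TensorProduct.smul_tmul']
      show pr (e • c) • m ∈ _
      rw [Algebra.smul_def, map_mul, Algebra.TensorProduct.algebraMap_apply, Algebra.TensorProduct.lift_tmul, map_one,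
        mul_one, mul_smul]
      show algebraMap A B (f e) • pr c • m ∈ _
      rw [algebraMap_smul]
      exact Submodule.smul_mem_smul ((hmem e).1 he) trivial
    | add y y' hy hy' => rw [smul_add, map_add]; exact add_mem hy hy'
  have hdecN : ∀ z : C ⊗[B] N, ∃ x : N, z - (1 : C) ⊗ₜ[B] x ∈ maximalIdeal E • (⊤ : Submodule E (C ⊗[B] N)) := by
    intro z
    induction z using TensorProduct.induction_on with
    | zero => exact ⟨0, by rw [TensorProduct.tmul_zero, sub_zero]; exact zero_mem _⟩
    | tmul c x =>
      refine ⟨pr c • x, ?_⟩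
      rw [← TensorProduct.smul_tmul, show pr c • (1 : C) = (1 : E) ⊗ₜ[A] pr c by rw [Algebra.smul_def, mul_one]; rfl,
        ← TensorProduct.sub_tmul, mem_smul_top_iff_map (B := C), ← mul_one (c - _), ← smul_eq_mul, ← TensorProduct.smul_tmul']
      exact Submodule.smul_mem_smul (hdec c) trivial
    | add y y' hy hy' =>
      obtain ⟨x, hx⟩ := hy
      obtain ⟨x', hx'⟩ := hy'
      exact ⟨x + x', by rw [TensorProduct.tmul_add, add_sub_add_comm]; exact add_mem hx hx'⟩
  have hinj : Function.Injective uC := by
    refine injective_of_injective_mod (A := E) uC fun z hz => ?_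
    obtain ⟨x, hx⟩ := hdecN z
    have h1 : uC z - uC ((1 : C) ⊗ₜ[B] x) ∈ maximalIdeal E • (⊤ : Submodule E (C ⊗[B] M)) := by
      rw [← map_sub]
      have := Submodule.mem_map_of_mem (f := uC.restrictScalars E) hx
      rw [Submodule.map_smul''] at this
      exact Submodule.smul_mono le_rfl le_top this
    have h2 := hproj _ (sub_mem hz h1)
    rw [sub_sub_cancel, LinearMap.baseChange_tmul] at h2
    have h3 : x ∈ maximalIdeal A • (⊤ : Submodule A N) := hu x (by
      have e : projM ((1 : C) ⊗ₜ[B] u x) = pr 1 • u x := rfl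
      rwa [e, map_one, one_smul] at h2)
    have h4 : (1 : C) ⊗ₜ[B] x ∈ maximalIdeal E • (⊤ : Submodule E (C ⊗[B] N)) := by
      refine Submodule.smul_induction_on h3 (fun a ha y _ => ?_) fun y y' hy hy' => by
        rw [TensorProduct.tmul_add]; exact add_mem hy hy'
      rw [← algebraMap_smul B a y, TensorProduct.tmul_smul, algebraMap_smul, ← algebraMap_smul E a ((1 : C) ⊗ₜ[B] y)]
      refine Submodule.smul_mem_smul ((hmem _).2 ?_) trivial
      rw [AlgHom.commutes]
      exact ha
    rw [← sub_add_cancel z ((1 : C) ⊗ₜ[B] x)]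
    exact add_mem hx h4
  -- the summand `Q ⊗ N`
  let eN := (Algebra.IsPushout.cancelBaseChange A E B C N).restrictScalars A
  let ι : Q ⊗[A] N →ₗ[A] C ⊗[B] N :=
    eN.symm.toLinearMap.comp (LinearMap.rTensor N i)
  let κ : Q ⊗[A] M →ₗ[A] C ⊗[B] M :=
    ((Algebra.IsPushout.cancelBaseChange A E B C M).restrictScalars A).symm.toLinearMap.comp
      (LinearMap.rTensor M i)
  have hcomm : ∀ ξ, uC (ι ξ) = κ ((u.restrictScalars A).lTensor Q ξ) := fun ξ => by
    induction ξ using TensorProduct.induction_on with
    | zero => simp only [map_zero]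
    | tmul q x =>
      simp [ι, κ, eN, uC, Algebra.IsPushout.cancelBaseChange_symm_tmul, LinearMap.baseChange_tmul]
    | add y y' hy hy' => simp only [map_add, hy, hy']
  have hι : Function.Injective ι := by
    refine eN.symm.injective.comp (Function.HasLeftInverse.injective
      ⟨LinearMap.rTensor N sd, fun ξ => ?_⟩)
    rw [← LinearMap.comp_apply, ← LinearMap.rTensor_comp, hsi, LinearMap.rTensor_id, LinearMap.id_apply]
  intro a b hab
  refine hι (hinj ?_)
  rw [hcomm, hcomm, hab]

/-- Universal injectivity. -/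
theorem lTensor_injective_of_injective_mod (u : N →ₗ[B] M)
    (hu : ∀ x : N, u x ∈ maximalIdeal A • (⊤ : Submodule A M) → x ∈ maximalIdeal A • (⊤ : Submodule A N))
    (Q : Type u) [AddCommGroup Q] [Module A Q] : Function.Injective ((u.restrictScalars A).lTensor Q) := by
  letI : Module Aᵐᵒᵖ Q := Module.compHom Q (RingEquiv.toOpposite A).symm.toRingHom
  haveI : IsCentralScalar A Q := ⟨fun a q => rfl⟩
  haveI : IsLocalRing (TrivSqZeroExt A Q) := IsLocalRing.of_nonunits_add fun a b ha hb => by
    simp only [mem_nonunits_iff, TrivSqZeroExt.isUnit_iff_isUnit_fst] at ha hb ⊢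
    exact IsLocalRing.nonunits_add ha hb
  refine lTensor_injective_of_retraction u hu Q (TrivSqZeroExt A Q) (TrivSqZeroExt.fstHom A A Q)
    (fun e => TrivSqZeroExt.isUnit_iff_isUnit_fst) (fun x y hx hy => ?_)
    ((TrivSqZeroExt.inrHom A Q).restrictScalars A) ((TrivSqZeroExt.sndHom A Q).restrictScalars A)
    (LinearMap.ext fun q => by simp)
  have hx' : x.fst = 0 := hx
  have hy' : y.fst = 0 := hy
  ext <;> simp [hx', hy']

/-- Injectivity modulo the maximal ideal gives flatness. -/
theorem flat_of_injective_mod (u : N →ₗ[B] M)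
    (hu : ∀ x : N, u x ∈ maximalIdeal A • (⊤ : Submodule A M) → x ∈ maximalIdeal A • (⊤ : Submodule A N)) :
    Module.Flat A N := by
  refine Module.Flat.iff_lTensor_injective.2 fun I _ => ?_
  let u' := u.restrictScalars A
  have h1 : Function.Injective (u'.rTensor I) :=
    (LinearMap.lTensor_inj_iff_rTensor_inj I u').1 (lTensor_injective_of_injective_mod u hu I)
  intro a b hab
  refine h1 (Module.Flat.lTensor_preserves_injective_linearMap (M := M) I.subtype I.injective_subtype ?_)
  simp only [← LinearMap.comp_apply, LinearMap.lTensor_comp_rTensor]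
  simp only [← LinearMap.rTensor_comp_lTensor, LinearMap.comp_apply, hab]

/-- The finite presentation of the source. -/
theorem finitePresentation_of_injective_mod (u : N →ₗ[B] M)
    (hu : ∀ x : N, u x ∈ maximalIdeal A • (⊤ : Submodule A M) → x ∈ maximalIdeal A • (⊤ : Submodule A N)) :
    Module.FinitePresentation B N := by
  classical
  obtain ⟨r, e, he⟩ := Module.Finite.exists_fin (R := B) (M := N)
  let p : (Fin r → B) →ₗ[B] N := Fintype.linearCombination B e
  have hp : Function.Surjective p := by
    rw [← LinearMap.range_eq_top, Fintype.range_linearCombination, he]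
  let J := (maximalIdeal A).map (algebraMap A B)
  haveI : Algebra.EssFiniteType (A ⧸ maximalIdeal A) (B ⧸ J) :=
    Algebra.EssFiniteType.of_comp A (A ⧸ maximalIdeal A) (B ⧸ J)
  haveI : IsNoetherianRing (A ⧸ maximalIdeal A) :=
    letI := Ideal.Quotient.field (maximalIdeal A)
    inferInstance
  haveI : IsNoetherianRing (B ⧸ J) := Algebra.EssFiniteType.isNoetherianRing (A ⧸ maximalIdeal A) (B ⧸ J)
  let π : (Fin r → B) →ₗ[B] (Fin r → B ⧸ J) := LinearMap.pi fun i => (Algebra.linearMap B (B ⧸ J)).comp (LinearMap.proj i)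
  obtain ⟨S, hS, hSspan⟩ := Submodule.fg_span_iff_fg_span_finset_subset (R := B ⧸ J) (π '' (LinearMap.ker p : Set (Fin r → B))) |>.1
    (IsNoetherian.noetherian _)
  let eS := S.equivFin
  choose gl hgl hglπ using fun l : Fin S.card => hS (eS.symm l).2
  let L : Submodule B (Fin r → B) := Submodule.span B (Set.range gl)
  have hL : L ≤ LinearMap.ker p := Submodule.span_le.2 fun z ⟨l, hl⟩ => hl ▸ hgl l
  have hπker : ∀ x, π x = 0 → x ∈ J • (⊤ : Submodule B (Fin r → B)) := fun x hx =>
    mem_smul_top_of_components J LinearMap.id x fun j => Ideal.Quotient.eq_zero_iff_mem.1 (congrFun hx j)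
  have hK : ∀ x ∈ LinearMap.ker p, ∃ l ∈ L, x - l ∈ J • (⊤ : Submodule B (Fin r → B)) := fun x hx => by
    have h1 : π x ∈ Submodule.span (B ⧸ J) (Set.range fun l => π (gl l)) := by
      have h0 : π x ∈ Submodule.span (B ⧸ J) (S : Set (Fin r → B ⧸ J)) :=
        hSspan.le (Submodule.subset_span (Set.mem_image_of_mem π hx))
      refine Submodule.span_mono (show (S : Set (Fin r → B ⧸ J)) ⊆ Set.range fun l => π (gl l) from fun z hz => ⟨eS ⟨z, hz⟩, ?_⟩) h0
      show π (gl (eS ⟨z, hz⟩)) = z
      rw [hglπ, Equiv.symm_apply_apply]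
    obtain ⟨cb, hc⟩ := (Submodule.mem_span_range_iff_exists_fun _).1 h1
    choose c hcb using fun l => Ideal.Quotient.mk_surjective (cb l)
    refine ⟨∑ l, c l • gl l, sum_mem fun l _ => Submodule.smul_mem _ _ (Submodule.subset_span ⟨l, rfl⟩), hπker _ ?_⟩
    rw [map_sub, map_sum, ← hc, sub_eq_zero]
    exact Finset.sum_congr rfl fun l _ => by rw [map_smul, ← hcb]; rfl
  let N' := (Fin r → B) ⧸ L
  let q : N' →ₗ[B] N := L.liftQ p hL
  haveI : Module.FinitePresentation B N' :=
    Module.finitePresentation_of_surjective L.mkQ L.mkQ_surjective (by rw [Submodule.ker_mkQ]; exact ⟨Finset.univ.image gl, by simp [L]⟩)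
  have hinj : Function.Injective (u.comp q) := by
    refine injective_of_injective_mod (A := A) (u.comp q) fun z hz => ?_
    obtain ⟨x, rfl⟩ := L.mkQ_surjective z
    have h1 : p x ∈ maximalIdeal A • (⊤ : Submodule A N) := hu _ hz
    rw [mem_smul_top_iff_map (B := B)] at h1 ⊢
    have h2 : p x ∈ (J • (⊤ : Submodule B (Fin r → B))).map p := by
      rwa [Submodule.map_smul'', Submodule.map_top, LinearMap.range_eq_top.2 hp]
    obtain ⟨y, hy, hyx⟩ := Submodule.mem_map.1 h2
    obtain ⟨l, hl, hxl⟩ := hK (x - y) (by rw [LinearMap.mem_ker, map_sub, hyx, sub_self])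
    have h3 : L.mkQ x = L.mkQ (x - y - l) + L.mkQ y := by
      rw [← map_add, show x - y - l + y = x - l by abel, map_sub, show L.mkQ l = 0 from (Submodule.Quotient.mk_eq_zero L).2 hl,
        sub_zero]
    rw [h3]
    have hmk : ∀ w ∈ J • (⊤ : Submodule B (Fin r → B)), L.mkQ w ∈ J • (⊤ : Submodule B N') := fun w hw => by
      have := Submodule.mem_map_of_mem (f := L.mkQ) hw
      rwa [Submodule.map_smul'', Submodule.map_top, Submodule.range_mkQ] at this
    exact add_mem (hmk _ hxl) (hmk _ hy)
  have hqs : Function.Surjective q := fun z => (hp z).elim fun x hx => ⟨L.mkQ x, hx⟩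
  exact Module.FinitePresentation.of_equiv (LinearEquiv.ofBijective q ⟨(show Function.Injective (⇑u ∘ ⇑q) from hinj).of_comp, hqs⟩)

end FlatInjLib

namespace FlatInjLib

open IsLocalRing in
/-- The two forms of injectivity modulo the maximal ideal. -/
theorem mem_of_lTensor_injective {A : Type u} [CommRing A] [IsLocalRing A] {N M : Type u} [AddCommGroup N]
    [Module A N] [AddCommGroup M] [Module A M] (u : N →ₗ[A] M)
    (h : Function.Injective (u.lTensor (ResidueField A))) (x : N)
    (hx : u x ∈ maximalIdeal A • (⊤ : Submodule A M)) : x ∈ maximalIdeal A • (⊤ : Submodule A N) := by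
  have h1 : TensorProduct.mk A (ResidueField A) M 1 (u x) = 0 := by
    rw [← LinearMap.mem_ker]
    exact (LinearMap.ker_tensorProductMk (R := A) (Q := M) (I := maximalIdeal A)).ge hx
  refine (LinearMap.ker_tensorProductMk (R := A) (Q := N) (I := maximalIdeal A)).le (LinearMap.mem_ker.2 ?_)
  exact h ((LinearMap.lTensor_tmul _ u 1 x).trans (h1.trans (map_zero _).symm))

end FlatInjLib

namespace FlatInjLib

/-- The cokernel of a universally injective map to a flat module is flat. -/
theorem flat_quotient_range {A : Type u} [CommRing A] {N M : Type u} [AddCommGroup N] [Module A N]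
    [AddCommGroup M] [Module A M] [Module.Flat A M] (u : N →ₗ[A] M)
    (h : ∀ (Q : Type u) [AddCommGroup Q] [Module A Q], Function.Injective (u.lTensor Q)) :
    Module.Flat A (M ⧸ LinearMap.range u) := by
  refine Module.Flat.iff_lTensor_injective.2 fun I _ => ?_
  refine (injective_iff_map_eq_zero _).2 fun z hz => ?_
  obtain ⟨w, rfl⟩ := LinearMap.rTensor_surjective I (g := (LinearMap.range u).mkQ) (Submodule.mkQ_surjective _) z
  let e := TensorProduct.rid A M
  have hw : (LinearMap.range u).mkQ (e (I.subtype.lTensor M w)) = 0 := by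
    have h1 := congrArg (TensorProduct.rid A (M ⧸ LinearMap.range u)) hz
    rw [map_zero, ← LinearMap.comp_apply (I.subtype.lTensor _), LinearMap.lTensor_comp_rTensor,
      ← LinearMap.rTensor_comp_lTensor, LinearMap.comp_apply] at h1
    rw [← h1]
    induction I.subtype.lTensor M w using TensorProduct.induction_on with
    | zero => simp only [map_zero]
    | tmul m a => simp [e]
    | add p q hp hq => simp only [map_add, hp, hq]
  obtain ⟨x, hx⟩ := (Submodule.Quotient.mk_eq_zero _).1 hw
  have hIM : e (I.subtype.lTensor M w) ∈ I • (⊤ : Submodule A M) := by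
    clear hw hx hz
    induction w using TensorProduct.induction_on with
    | zero => simp only [map_zero]; exact zero_mem _
    | tmul m a =>
      show (a : A) • m ∈ _
      exact Submodule.smul_mem_smul a.2 trivial
    | add p q hp hq => simp only [map_add]; exact add_mem hp hq
  have hxI : x ∈ I • (⊤ : Submodule A N) := by
    refine (LinearMap.ker_tensorProductMk (R := A) (Q := N) (I := I)).le (LinearMap.mem_ker.2 (h (A ⧸ I) ?_))
    rw [map_zero, TensorProduct.mk_apply, LinearMap.lTensor_tmul, hx, ← TensorProduct.mk_apply, ← LinearMap.mem_ker]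
    exact (LinearMap.ker_tensorProductMk (R := A) (Q := M) (I := I)).ge hIM
  obtain ⟨v, hv⟩ : ∃ v : N ⊗[A] I, TensorProduct.rid A N (I.subtype.lTensor N v) = x := by
    refine Submodule.smul_induction_on hxI (fun a ha y _ => ⟨y ⊗ₜ ⟨a, ha⟩, by simp⟩) fun p q ⟨vp, hp⟩ ⟨vq, hq⟩ =>
      ⟨vp + vq, by rw [map_add, map_add, hp, hq]⟩
  have hwv : w = u.rTensor I v := by
    refine Module.Flat.lTensor_preserves_injective_linearMap (M := M) I.subtype I.injective_subtype (e.injective ?_)
    rw [← hx, ← hv]
    clear hv hx hIM hw hz hxI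
    induction v using TensorProduct.induction_on with
    | zero => simp only [map_zero]
    | tmul y a => simp [e]
    | add p q hp hq => simp only [map_add, hp, hq]
  rw [hwv, ← LinearMap.comp_apply, ← LinearMap.rTensor_comp,
    show (LinearMap.range u).mkQ.comp u = 0 from LinearMap.ext fun y =>
      (Submodule.Quotient.mk_eq_zero _).2 ⟨y, rfl⟩, LinearMap.rTensor_zero, LinearMap.zero_apply]

end FlatInjLib
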