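import Mathlib.RingTheory.Flat.Basic
import Mathlib.LinearAlgebra.TensorProduct.Vanishing
import Mathlib.LinearAlgebra.TensorProduct.RightExactness
import Mathlib.LinearAlgebra.Matrix.NonsingularInverse
import Mathlib.Algebra.Module.Projective
import Mathlib.LinearAlgebra.Basis.VectorSpace
import Mathlib.RingTheory.Ideal.Maximal
import Mathlib.LinearAlgebra.TensorProduct.Prod

/-!
# Universal injectivity of maps from projective to flat modules, and content ideals
-/

set_option autoImplicit false

universe u

open scoped TensorProduct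

namespace FlatInjLib

variable {A : Type u} [CommRing A]

theorem eq_zero_of_sum_tmul {s : Type*} [Fintype s] {Q M : Type u} [AddCommGroup Q] [Module A Q]
    [AddCommGroup M] [Module A M] [Module.Flat A M] (q : s → Q) (w : s → M)
    (hind : ∀ (m : Ideal A), m.IsMaximal → ∀ c : s → A,
      ∑ a, c a • w a ∈ m • (⊤ : Submodule A M) → ∀ a, c a ∈ m)
    (h : ∑ a, q a ⊗ₜ[A] w a = 0) (a₀ : s) : q a₀ = 0 := by
  classical
  by_contra hne
  let J : Ideal A := (Submodule.span A {q a₀}).annihilator
  have hJ : J ≠ ⊤ := fun h1 => hne (by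
    have h2 : (1 : A) ∈ J := by rw [h1]; exact Submodule.mem_top
    simp only [J] at h2
    simpa [Submodule.mem_annihilator_span_singleton] using h2)
  obtain ⟨m, hm, hle⟩ := Ideal.exists_le_maximal J hJ
  obtain ⟨k, c, y, hy, hc⟩ := TensorProduct.vanishesTrivially_of_sum_tmul_eq_zero_of_rTensor_injective A
    (Module.Flat.rTensor_preserves_injective_linearMap _ Subtype.val_injective) h
  letI := Ideal.Quotient.field m
  let φ : (s → A ⧸ m) →ₗ[A ⧸ m] (Fin k → A ⧸ m) :=
    Matrix.vecMulLinear (Matrix.of fun a j => Ideal.Quotient.mk m (c a j))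
  have hφ : LinearMap.ker φ = ⊥ := by
    refine LinearMap.ker_eq_bot'.2 fun x hx => ?_
    choose x' hx' using fun a => Ideal.Quotient.mk_surjective (x a)
    have hj : ∀ j, ∑ a, x' a * c a j ∈ m := fun j => by
      rw [← Ideal.Quotient.eq_zero_iff_mem, map_sum]
      have := congrFun hx j
      simpa [φ, Matrix.vecMul, dotProduct, ← hx'] using this
    have h1 : ∑ a, x' a • w a ∈ m • (⊤ : Submodule A M) := by
      simp_rw [hy, Finset.smul_sum, ← mul_smul]
      rw [Finset.sum_comm]
      simp_rw [← Finset.sum_smul]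
      exact Submodule.sum_mem _ fun j _ => Submodule.smul_mem_smul (hj j) Submodule.mem_top
    funext a
    rw [← hx', Pi.zero_apply, Ideal.Quotient.eq_zero_iff_mem]
    exact hind m hm x' h1 a
  obtain ⟨g, hg⟩ := φ.exists_leftInverse_of_injective hφ
  choose L hL using fun (j : Fin k) (b : s) =>
    Ideal.Quotient.mk_surjective (I := m) (g (Pi.single j 1) b)
  let P : Matrix s s A := Matrix.of c * Matrix.of L
  have hP : P.map (Ideal.Quotient.mk m) = 1 := by
    ext a b
    have h2 := congrFun (LinearMap.congr_fun hg (Pi.single a 1)) b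
    simp only [LinearMap.comp_apply, LinearMap.id_apply] at h2
    have h3 : φ (Pi.single a 1) = ∑ j, Ideal.Quotient.mk m (c a j) • Pi.single j 1 := by
      funext j
      simp [φ, Matrix.vecMul, dotProduct, Pi.single_apply, Finset.sum_apply]
    rw [h3, map_sum] at h2
    simp only [map_smul, Finset.sum_apply, Pi.smul_apply, smul_eq_mul, ← hL, ← map_mul,
      ← map_sum] at h2
    simp only [Matrix.map_apply, P, Matrix.mul_apply, Matrix.of_apply, h2]
    simp [Matrix.one_apply, Pi.single_apply, eq_comm]
  have hd : P.det ∉ m := fun hd => by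
    have h2 : Ideal.Quotient.mk m P.det = 1 := by
      rw [RingHom.map_det, RingHom.mapMatrix_apply, hP, Matrix.det_one]
    rw [Ideal.Quotient.eq_zero_iff_mem.2 hd] at h2
    exact zero_ne_one h2
  refine hd (hle ((Submodule.mem_annihilator_span_singleton _ _).2 ?_))
  have hsum : ∑ a, (P * P.adjugate) a a₀ • q a = 0 := by
    simp only [P, Matrix.mul_assoc]
    simp only [Matrix.mul_apply (M := Matrix.of c), Matrix.of_apply, Finset.sum_smul]
    rw [Finset.sum_comm]
    refine Finset.sum_eq_zero fun j _ => ?_
    simp_rw [mul_comm (c _ j), mul_smul, ← Finset.smul_sum]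
    rw [hc j, smul_zero]
  rw [Matrix.mul_adjugate] at hsum
  simpa [Matrix.smul_apply, Matrix.one_apply, ite_smul, smul_eq_mul] using hsum

theorem flat_prod {M N : Type u} [AddCommGroup M] [AddCommGroup N]
    [Module A M] [Module A N] [Module.Flat A M] [Module.Flat A N] : Module.Flat A (M × N) := by
  rw [Module.Flat.iff_lTensor_injectiveₛ]
  intro P _ _ Q
  let e := TensorProduct.prodLeft A A M N Q
  let e' := TensorProduct.prodLeft A A M N P
  have h : ∀ z, e' (Q.subtype.lTensor (M × N) z) =
      Prod.map (Q.subtype.lTensor M) (Q.subtype.lTensor N) (e z) := by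
    intro z
    induction z using TensorProduct.induction_on with
    | zero => simp [Prod.map, Prod.ext_iff]
    | tmul m q => obtain ⟨a, b⟩ := m; simp [e, e']
    | add a b ha hb => simp [map_add, ha, hb, Prod.map]
  intro a b hab
  refine e.injective ?_
  have := congr_arg e' hab
  rw [h, h] at this
  exact (Function.Injective.prodMap (Module.Flat.lTensor_preserves_injective_linearMap _
    Q.subtype_injective) (Module.Flat.lTensor_preserves_injective_linearMap _
      Q.subtype_injective)) this

theorem univInj_of_projective_of_flat {N M : Type u} [AddCommGroup N] [Module A N]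
    [Module.Projective A N] [AddCommGroup M] [Module A M] [Module.Flat A M] (v : N →ₗ[A] M)
    (hv : ∀ (m : Ideal A), m.IsMaximal → ∀ x, v x ∈ m • (⊤ : Submodule A M) →
      x ∈ m • (⊤ : Submodule A N))
    (Q : Type u) [AddCommGroup Q] [Module A Q] : Function.Injective (v.lTensor Q) := by
  classical
  let π : (N →₀ A) →ₗ[A] N := Finsupp.linearCombination A id
  obtain ⟨i, hi⟩ := Module.projective_def'.1 (inferInstance : Module.Projective A N)
  haveI : Module.Flat A (M × (N →₀ A)) := flat_prod
  let v' : (N →₀ A) →ₗ[A] M × (N →₀ A) := (v ∘ₗ π).prod (LinearMap.id - i ∘ₗ π)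
  have hvi : v' ∘ₗ i = (LinearMap.inl A M (N →₀ A)) ∘ₗ v := LinearMap.ext fun x => by
    have hx : π (i x) = x := LinearMap.congr_fun hi x
    simp [v', hx]
  refine (injective_iff_map_eq_zero _).2 fun z hz => ?_
  have hz' : v'.lTensor Q (i.lTensor Q z) = 0 := by
    rw [← LinearMap.comp_apply, ← LinearMap.lTensor_comp, hvi, LinearMap.lTensor_comp,
      LinearMap.comp_apply, hz, map_zero]
  suffices hw : i.lTensor Q z = 0 by
    have h1 := congrArg (π.lTensor Q) hw
    rwa [← LinearMap.comp_apply, ← LinearMap.lTensor_comp, hi, LinearMap.lTensor_id,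
      LinearMap.id_apply, map_zero] at h1
  generalize i.lTensor Q z = z' at hz' ⊢
  obtain ⟨g, rfl⟩ := (TensorProduct.finsuppScalarRight A A Q N).symm.surjective z'
  have hg : (TensorProduct.finsuppScalarRight A A Q N).symm g =
      ∑ a ∈ g.support, g a ⊗ₜ[A] Finsupp.single a (1 : A) := by
    conv_lhs => rw [← g.sum_single]
    simp [Finsupp.sum, TensorProduct.finsuppScalarRight_symm_apply_single]
  rw [hg] at hz' ⊢
  rw [map_sum] at hz'
  simp only [LinearMap.lTensor_tmul] at hz'
  rw [← Finset.sum_coe_sort] at hz' ⊢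
  refine Finset.sum_eq_zero fun a _ => ?_
  rw [eq_zero_of_sum_tmul (fun a : g.support => g a) (fun a => v' (Finsupp.single (a : N) 1))
    (fun m hm c hc b => ?_) hz' a, TensorProduct.zero_tmul]
  let C : N →₀ A := ∑ b : g.support, Finsupp.single (b : N) (c b)
  have hC : ∑ b, c b • v' (Finsupp.single (b : N) 1) = v' C := by
    simp [C, ← map_smul]
  rw [hC] at hc
  have h1 : v (π C) ∈ m • (⊤ : Submodule A M) :=
    Submodule.smul_mono le_rfl le_top ((Submodule.map_smul'' _ _ (LinearMap.fst A M (N →₀ A))).le
      (Submodule.mem_map_of_mem hc))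
  have h2 : C - i (π C) ∈ m • (⊤ : Submodule A (N →₀ A)) :=
    Submodule.smul_mono le_rfl le_top ((Submodule.map_smul'' _ _ (LinearMap.snd A M (N →₀ A))).le
      (Submodule.mem_map_of_mem hc))
  have h3 : i (π C) ∈ m • (⊤ : Submodule A (N →₀ A)) :=
    Submodule.smul_mono le_rfl le_top
      ((Submodule.map_smul'' _ _ i).le (Submodule.mem_map_of_mem (hv m hm _ h1)))
  have h4 : C ∈ m • (⊤ : Submodule A (N →₀ A)) := by simpa using add_mem h2 h3
  have h5 := (Submodule.map_smul'' _ _ (Finsupp.lapply (R := A) (M := A) (b : N))).le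
    (Submodule.mem_map_of_mem h4)
  have h6 : C b ∈ m := by
    have h7 : m • (⊤ : Submodule A A) ≤ m := fun x hx => by
      refine Submodule.smul_induction_on hx (fun r hr y _ => ?_) fun x y hx hy => add_mem hx hy
      exact Ideal.mul_mem_right y m hr
    exact h7 (Submodule.smul_mono le_rfl le_top h5)
  have h8 : C (b : N) = c b := by
    rw [Finsupp.finsetSum_apply, Finset.sum_eq_single b]
    · exact Finsupp.single_eq_same
    · exact fun d _ hd => Finsupp.single_eq_of_ne fun h => hd (Subtype.ext h.symm)
    · exact fun h => absurd (Finset.mem_univ b) h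
  rwa [h8] at h6

theorem exists_content_of_projective {N : Type u} [AddCommGroup N] [Module A N]
    [Module.Projective A N] (y : N) :
    ∃ I : Ideal A, y ∈ I • (⊤ : Submodule A N) ∧
      ∀ J : Ideal A, y ∈ J • (⊤ : Submodule A N) → I ≤ J := by
  classical
  let π : (N →₀ A) →ₗ[A] N := Finsupp.linearCombination A id
  obtain ⟨i, hi⟩ := Module.projective_def'.1 (inferInstance : Module.Projective A N)
  refine ⟨Ideal.span (Set.range (i y)), ?_, fun J hJ => ?_⟩
  · have hy : π (i y) = y := LinearMap.congr_fun hi y
    have h9 : π (i y) ∈ Ideal.span (Set.range (i y)) • (⊤ : Submodule A N) := by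
      rw [Finsupp.linearCombination_apply]
      exact Submodule.sum_mem _ fun a _ => Submodule.smul_mem_smul (N := (⊤ : Submodule A N))
        (Ideal.subset_span (Set.mem_range_self a)) Submodule.mem_top
    rwa [hy] at h9
  · rw [Ideal.span_le]
    rintro _ ⟨a, rfl⟩
    let f : N →ₗ[A] A := Finsupp.lapply a ∘ₗ i
    have h1 : f y ∈ J • (⊤ : Submodule A N).map f :=
      (Submodule.map_smul'' J ⊤ f).le (Submodule.mem_map_of_mem hJ)
    have h7 : J • (⊤ : Submodule A A) ≤ J := fun x hx => by
      refine Submodule.smul_induction_on hx (fun r hr y _ => ?_) fun x y hx hy => add_mem hx hy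
      exact Ideal.mul_mem_right y J hr
    exact h7 (Submodule.smul_mono le_rfl le_top h1)

/-- `x ∈ I N` can be checked after a universally injective map. -/
theorem mem_smul_top_of_univInj {N N' : Type u} [AddCommGroup N] [Module A N] [AddCommGroup N']
    [Module A N'] (g : N' →ₗ[A] N)
    (hg : ∀ (Q : Type u) [AddCommGroup Q] [Module A Q], Function.Injective (g.lTensor Q))
    (I : Ideal A) (y : N') (hy : g y ∈ I • (⊤ : Submodule A N)) : y ∈ I • (⊤ : Submodule A N') := by
  have h1 : g y ∈ LinearMap.ker (TensorProduct.mk A (A ⧸ I) N 1) :=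
    (LinearMap.ker_tensorProductMk (R := A) (Q := N) (I := I)).ge hy
  refine (LinearMap.ker_tensorProductMk (R := A) (Q := N') (I := I)).le (LinearMap.mem_ker.2 ?_)
  refine hg (A ⧸ I) ?_
  rw [map_zero]
  exact (LinearMap.lTensor_tmul _ _ _ _).trans (LinearMap.mem_ker.1 h1)

end FlatInjLib
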