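import Groth.Agent.FlatInjLib.Inj

/-! The local extension over an unramified flat extension of the base stays essentially of finite type. -/

set_option autoImplicit false
set_option linter.style.haveILetI false

universe u

open IsLocalRing
open scoped TensorProduct

namespace FlatInjLib

attribute [local instance] Algebra.TensorProduct.rightAlgebra

/-- Local extension `B'` of `B` over `A'`. -/
theorem exists_local_extension_ess {A A' B : Type u} [CommRing A] [CommRing A'] [CommRing B] [IsLocalRing A]
    [IsLocalRing A'] [IsLocalRing B] [Algebra A A'] [Algebra A B] [Module.Flat A A'] [IsLocalHom (algebraMap A B)] [Algebra.EssFiniteType A B]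
    (hmax : maximalIdeal A' = (maximalIdeal A).map (algebraMap A A'))
    (hres : ∀ a' : A', ∃ a : A, a' - algebraMap A A' a ∈ maximalIdeal A') :
    ∃ (B' : Type u) (_ : CommRing B') (_ : IsLocalRing B') (_ : Algebra A' B') (_ : Algebra B B') (_ : Algebra A B')
      (_ : IsScalarTower A A' B') (_ : IsScalarTower A B B') (_ : SMulCommClass B A' B'),
      IsLocalHom (algebraMap A' B') ∧ Module.FaithfullyFlat B B' ∧ Algebra.EssFiniteType A' B' ∧
      ∀ (M : Type u) [AddCommGroup M] [Module B M] [Module A M] [IsScalarTower A B M] [Module.Flat A M],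
        Module.Flat A' (B' ⊗[B] M) := by
  classical
  let C := A' ⊗[A] B
  let kB := ResidueField B
  have hloc : maximalIdeal A ≤ RingHom.ker ((residue B).comp (algebraMap A B)) := fun a ha =>
    (residue_eq_zero_iff _).2 (map_nonunit _ _ ha)
  -- the residue map of `A'` to that of `B`
  choose c hc using hres
  have hcu : ∀ a' a, a' - algebraMap A A' a ∈ maximalIdeal A' →
      residue B (algebraMap A B (c a')) = residue B (algebraMap A B a) := fun a' a h => by
    rw [← sub_eq_zero, ← map_sub, ← map_sub]
    refine hloc ?_
    by_contra hn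
    have hu := ((IsLocalRing.notMem_maximalIdeal.1 hn).map (algebraMap A A'))
    rw [map_sub] at hu
    have := sub_mem h (hc a')
    rw [sub_sub_sub_cancel_left] at this
    exact (mem_maximalIdeal _).1 this hu
  let ρ : A' →ₐ[A] kB :=
    { toFun := fun a' => residue B (algebraMap A B (c a'))
      map_one' := (hcu 1 1 (by rw [map_one, sub_self]; exact zero_mem _)).trans (by rw [map_one, map_one])
      map_mul' := fun x y => by
        rw [hcu (x * y) (c x * c y) ?_, map_mul, map_mul]
        rw [map_mul, show x * y - algebraMap A A' (c x) * algebraMap A A' (c y) =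
          (x - algebraMap A A' (c x)) * y + algebraMap A A' (c x) * (y - algebraMap A A' (c y)) by ring]
        exact add_mem (Ideal.mul_mem_right _ _ (hc x)) (Ideal.mul_mem_left _ _ (hc y))
      map_zero' := (hcu 0 0 (by rw [map_zero, sub_self]; exact zero_mem _)).trans (by rw [map_zero, map_zero])
      map_add' := fun x y => by
        rw [hcu (x + y) (c x + c y) ?_, map_add, map_add]
        rw [map_add, add_sub_add_comm]
        exact add_mem (hc x) (hc y)
      commutes' := fun a => hcu (algebraMap A A' a) a (by rw [sub_self]; exact zero_mem _) }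
  let ε : C →ₐ[A] kB := Algebra.TensorProduct.lift ρ (IsScalarTower.toAlgHom A B kB) fun _ _ => Commute.all _ _
  let q : Ideal C := RingHom.ker ε.toRingHom
  haveI : q.IsPrime := RingHom.ker_isPrime _
  let B' := Localization.AtPrime q
  haveI : Module.Flat B C :=
    Module.Flat.isBaseChange (R := A) (M := A') B C (Algebra.IsPushout.out (R := A) (S := B) (R' := A') (S' := C))
  haveI : Module.Flat C B' := IsLocalization.flat B' q.primeCompl
  haveI : Module.Flat B B' := Module.Flat.trans B C B'
  haveI : IsLocalHom (algebraMap B B') := ⟨fun b hb => by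
    by_contra h
    have h1 : algebraMap B C b ∈ q := by
      show ε ((1 : A') ⊗ₜ[A] b) = 0
      rw [Algebra.TensorProduct.lift_tmul, map_one, one_mul]
      exact (residue_eq_zero_iff _).2 ((mem_maximalIdeal _).2 h)
    have h2 : algebraMap B B' b ∈ maximalIdeal B' := by
      rw [IsScalarTower.algebraMap_apply B C B', ← Localization.AtPrime.map_eq_maximalIdeal]
      exact Ideal.mem_map_of_mem _ h1
    exact (mem_maximalIdeal _).1 h2 hb⟩
  refine ⟨B', inferInstance, inferInstance, inferInstance, inferInstance, inferInstance, inferInstance, inferInstance,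
    inferInstance, ⟨fun a' ha' => ?_⟩, Module.FaithfullyFlat.of_flat_of_isLocalHom,
    haveI : Algebra.EssFiniteType C B' := Algebra.EssFiniteType.of_isLocalization B' q.primeCompl
    Algebra.EssFiniteType.comp A' C B', fun M _ _ _ _ _ => ?_⟩
  · by_contra h
    have h1 : algebraMap A' C a' ∈ q := by
      show ε (a' ⊗ₜ[A] (1 : B)) = 0
      rw [Algebra.TensorProduct.lift_tmul, map_one, mul_one]
      show residue B (algebraMap A B (c a')) = 0
      refine hloc ?_
      by_contra hn
      have hu := (IsLocalRing.notMem_maximalIdeal.1 hn).map (algebraMap A A')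
      refine (mem_maximalIdeal _).1 ?_ hu
      have := sub_mem ((mem_maximalIdeal _).2 h) (hc a')
      rwa [sub_sub_cancel] at this
    have h2 : algebraMap A' B' a' ∈ maximalIdeal B' := by
      rw [IsScalarTower.algebraMap_apply A' C B', ← Localization.AtPrime.map_eq_maximalIdeal]
      exact Ideal.mem_map_of_mem _ h1
    exact (mem_maximalIdeal _).1 h2 ha'
  · haveI : Module.Flat A' (C ⊗[B] M) :=
      Module.Flat.of_linearEquiv (Algebra.IsPushout.cancelBaseChange A A' B C M)
    let φ : C ⊗[B] M →ₗ[C] B' ⊗[B] M :=
      TensorProduct.AlgebraTensorModule.rTensor B M (Algebra.linearMap C B')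
    exact FlatLib.flat_localized (R := A') (S := C) (M := C ⊗[B] M) (M' := B' ⊗[B] M) q.primeCompl φ

end FlatInjLib
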