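import Groth.Agent.FibAssLib.Basic
import Groth.Agent.EtaEtLib.Fibres
import Groth.Agent.CohenLib.Normalization
import Mathlib

/-!
# Fibres with a prime generic ideal and smooth of given dimension
-/

set_option autoImplicit false
set_option linter.style.haveILetI false

universe u

open CategoryTheory AlgebraicGeometry
open scoped TensorProduct

namespace FlatInjLib

variable {R D : Type u} [CommRing R] [CommRing D] [Algebra R D]

theorem exists_liesOver_of_geomIrred (h : FlatCA.GeomIrredFibres R D) (p : Ideal R) [p.IsPrime] :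
    ∃ Q : Ideal D, Q.IsPrime ∧ Q.comap (algebraMap R D) = p := by
  haveI : GeometricallyIrreducible (Spec.map (CommRingCat.ofHom (algebraMap R D))) := h
  obtain ⟨y, hy⟩ := (Spec.map (CommRingCat.ofHom (algebraMap R D))).surjective
    (⟨p, inferInstance⟩ : PrimeSpectrum R)
  exact ⟨y.asIdeal, y.isPrime, congrArg PrimeSpectrum.asIdeal hy⟩

theorem smoothRelDim_fibre {n : ℕ} (h : FlatCA.SmoothRelDim n R D) (p : Ideal R) [p.IsPrime] :
    SmoothOfRelativeDimension n
      (Spec.map (CommRingCat.ofHom (algebraMap p.ResidueField (p.Fiber D)))) := by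
  have h1 : RingHom.Locally (RingHom.IsStandardSmoothOfRelativeDimension n) (algebraMap R D) :=
    (HasRingHomProperty.Spec_iff (P := @SmoothOfRelativeDimension n)).1 h
  rw [HasRingHomProperty.Spec_iff (P := @SmoothOfRelativeDimension n)]
  letI : Algebra D (p.Fiber D) := Algebra.TensorProduct.rightAlgebra
  exact RingHom.locally_isStableUnderBaseChange
    RingHom.isStandardSmoothOfRelativeDimension_respectsIso
    (RingHom.isStandardSmoothOfRelativeDimension_isStableUnderBaseChange (n := n))
    R D p.ResidueField (p.Fiber D) h1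

theorem ringKrullDim_fibre_le {n : ℕ} (h : FlatCA.SmoothRelDim n R D) (p : Ideal R) [p.IsPrime] :
    ringKrullDim (p.Fiber D) ≤ (n : WithBot ℕ∞) := by
  haveI := smoothRelDim_fibre h p
  exact EtaEtLib.ringKrullDim_le_of_smooth p.ResidueField (p.Fiber D) n

theorem map_incl_eq_bot (p : Ideal R) [p.IsPrime] :
    (p.map (algebraMap R D)).map (FibAssLib.incl D p) = ⊥ := by
  rw [Ideal.map_map, Ideal.map_eq_bot_iff_le_ker]
  intro r hr
  show (Algebra.TensorProduct.includeRight (R := R) (A := p.ResidueField) (B := D)) (algebraMap R D r) = 0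
  rw [AlgHom.commutes, Algebra.TensorProduct.algebraMap_apply,
    Ideal.algebraMap_residueField_eq_zero.2 hr, TensorProduct.zero_tmul]

/-- When `pD` is prime and the fibre is non-empty, the fibre is a domain detecting elements off `pD`. -/
theorem fibre_isDomain (h : FlatCA.GeomIrredFibres R D) (p : Ideal R) [p.IsPrime]
    [(p.map (algebraMap R D)).IsPrime] :
    IsDomain (p.Fiber D) ∧ ∀ d : D, d ∉ p.map (algebraMap R D) → FibAssLib.incl D p d ≠ 0 := by
  obtain ⟨Q, hQ, hQp⟩ := exists_liesOver_of_geomIrred h p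
  let P := p.map (algebraMap R D)
  have hP : P.comap (algebraMap R D) = p := le_antisymm
    ((Ideal.comap_mono (Ideal.map_le_iff_le_comap.2 hQp.ge)).trans hQp.le) Ideal.le_comap_map
  let e := PrimeSpectrum.preimageEquivFiber R D ⟨p, inferInstance⟩
  let x : PrimeSpectrum.comap (algebraMap R D) ⁻¹' {(⟨p, inferInstance⟩ : PrimeSpectrum R)} :=
    ⟨⟨P, inferInstance⟩, PrimeSpectrum.ext hP⟩
  have hx : (e x).asIdeal.comap (FibAssLib.incl D p) = P :=
    congrArg (fun y => y.1.asIdeal) (e.symm_apply_apply x)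
  have hbot : (e x).asIdeal = ⊥ := by
    refine le_antisymm (fun f hf => ?_) bot_le
    obtain ⟨t, ht, s, hs⟩ := FibAssLib.exists_incl_eq p f
    have hs' : s ∈ P := hx ▸ (Ideal.mem_comap.2 (hs ▸ (e x).asIdeal.mul_mem_left _ hf))
    have h0 : FibAssLib.incl D p s = 0 := by
      have : FibAssLib.incl D p s ∈ P.map (FibAssLib.incl D p) := Ideal.mem_map_of_mem _ hs'
      rw [map_incl_eq_bot] at this
      exact this
    rw [h0, (FibAssLib.isUnit_incl p ht).mul_right_eq_zero] at hs
    exact hs
  haveI : (⊥ : Ideal (p.Fiber D)).IsPrime := hbot ▸ (e x).isPrime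
  refine ⟨IsDomain.of_bot_isPrime _, fun d hd h0 => hd ?_⟩
  show d ∈ P
  rw [← hx, Ideal.mem_comap, h0]
  exact zero_mem _

theorem ringKrullDim_quotient_lt {F : Type u} [CommRing F] [IsDomain F] {n : ℕ}
    (hF : ringKrullDim F ≤ (n : WithBot ℕ∞)) {j : F} (hj : j ≠ 0) :
    ringKrullDim (F ⧸ Ideal.span {j}) < (n : WithBot ℕ∞) := by
  have h := (ringKrullDim_quotient_succ_le_of_nonZeroDivisor (mem_nonZeroDivisors_of_ne_zero hj)).trans hF
  generalize ringKrullDim (F ⧸ Ideal.span {j}) = x at h
  induction x using WithBot.recBotCoe with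
  | bot => exact WithBot.bot_lt_coe _
  | coe y =>
    have h1 : y + 1 ≤ (n : ℕ∞) := WithBot.coe_le_coe.1 h
    refine WithBot.coe_lt_coe.2 ?_
    induction y using ENat.recTopCoe with
    | top => simp at h1
    | coe k => exact_mod_cast (Nat.lt_of_succ_le (by exact_mod_cast h1 : k + 1 ≤ n))

/-- Elements killing a module kill its fibre module. -/
theorem incl_smul_eq_zero {S : Type u} [CommRing S] [Algebra R S] {M : Type u} [AddCommGroup M]
    [Module S M] [Module R M] [IsScalarTower R S M] (p : Ideal R) [p.IsPrime] (s : S)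
    (hs : ∀ m : M, s • m = 0) (x : FlatCA.fiberMod p S M) : FibAssLib.incl S p s • x = 0 := by
  obtain ⟨t, ht, m, hm⟩ := FibAssLib.exists_smul_eq_toFiber p x
  refine FibAssLib.eq_zero_of_smul p ht ?_
  rw [← FibAssLib.smul_eq, smul_comm, hm, ← map_smul, hs, map_zero]

end FlatInjLib
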