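import Groth.Agent.FlatInjLib.FinWeakAssFT
import Mathlib

/-!
# Transfer of flatness at primes along flat local maps and finite maps
-/

set_option autoImplicit false
set_option linter.style.haveILetI false

universe u

open scoped TensorProduct

namespace FlatInjLib

/-- Flatness over `R` of a base change along a faithfully flat map of `R`-algebras. -/
theorem flat_baseChange_iff {R A B M : Type u} [CommRing R] [CommRing A] [CommRing B] [Algebra R A]
    [Algebra A B] [Algebra R B] [IsScalarTower R A B] [Module.FaithfullyFlat A B] [AddCommGroup M]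
    [Module A M] [Module R M] [IsScalarTower R A M] :
    Module.Flat R (B ⊗[A] M) ↔ Module.Flat R M := by
  rw [Module.Flat.iff_lTensor_injective, Module.Flat.iff_lTensor_injective]
  refine forall_congr' fun I => imp_congr_right fun _ => ?_
  let ψ : M ⊗[R] I →ₗ[A] M ⊗[R] R := TensorProduct.AlgebraTensorModule.lTensor A M I.subtype
  let eI := TensorProduct.AlgebraTensorModule.assoc R A A B M I
  let eR := TensorProduct.AlgebraTensorModule.assoc R A A B M R
  have h : ∀ z, eR (I.subtype.lTensor (B ⊗[A] M) z) = ψ.lTensor B (eI z) := by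
    intro z
    induction z using TensorProduct.induction_on with
    | zero => simp
    | add a b ha hb => simp only [map_add, ha, hb]
    | tmul x i =>
      induction x using TensorProduct.induction_on with
      | zero => simp
      | add a b ha hb => simp only [TensorProduct.add_tmul, map_add, ha, hb]
      | tmul b m => rfl
  have hfun : ⇑eR ∘ ⇑(I.subtype.lTensor (B ⊗[A] M)) = ⇑(ψ.lTensor B) ∘ ⇑eI := funext h
  calc Function.Injective (I.subtype.lTensor (B ⊗[A] M))
      ↔ Function.Injective (ψ.lTensor B ∘ eI) := by
        rw [← hfun]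
        exact (eR.injective.of_comp_iff _).symm
    _ ↔ Function.Injective (ψ.lTensor B) := Function.Injective.of_comp_iff' _ eI.bijective
    _ ↔ Function.Injective ψ := Module.FaithfullyFlat.lTensor_injective_iff_injective A B ψ
    _ ↔ _ := Iff.rfl

variable {R S S' : Type u} [CommRing R] [CommRing S] [CommRing S'] [Algebra R S] [Algebra S S']
  [Algebra R S'] [IsScalarTower R S S'] {N N' : Type u} [AddCommGroup N] [Module S N] [Module R N]
  [IsScalarTower R S N] [AddCommGroup N'] [Module S' N'] [Module S N'] [IsScalarTower S S' N']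
  [Module R N'] [IsScalarTower R S' N']

/-- Flatness at a prime is invariant under flat base change of the algebra. -/
theorem flatAt_iff_of_isBaseChange [Module.Flat S S'] (f : N →ₗ[S] N') (hf : IsBaseChange S' f)
    (q : Ideal S) [q.IsPrime] (q' : Ideal S') [q'.IsPrime] [q'.LiesOver q] :
    FlatCA.FlatAt R q' N' ↔ FlatCA.FlatAt R q N := by
  let A := Localization.AtPrime q
  let B := Localization.AtPrime q'
  letI : Algebra A B := (Localization.localRingHom q q' (algebraMap S S') (Ideal.over_def q' q)).toAlgebra
  haveI : IsScalarTower S A B := IsScalarTower.of_algebraMap_eq fun x => by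
    rw [RingHom.algebraMap_toAlgebra, Localization.localRingHom_to_map, ← IsScalarTower.algebraMap_apply]
  haveI : IsScalarTower R A B := IsScalarTower.of_algebraMap_eq fun x => by
    rw [IsScalarTower.algebraMap_apply R S A, ← IsScalarTower.algebraMap_apply S A B,
      ← IsScalarTower.algebraMap_apply R S B]
  haveI : IsLocalHom (algebraMap A B) :=
    Localization.isLocalHom_localRingHom q q' (algebraMap S S') (Ideal.over_def q' q)
  haveI : Module.Flat S B := Module.Flat.trans S S' B
  haveI : Module.Flat A B := (Module.flat_iff_of_isLocalization A q.primeCompl B).2 ‹_›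
  haveI : Module.FaithfullyFlat A B := Module.FaithfullyFlat.of_flat_of_isLocalHom
  let g := LocalizedModule.mkLinearMap q.primeCompl N
  let g' := LocalizedModule.mkLinearMap q'.primeCompl N'
  have hg : IsBaseChange A g := IsLocalizedModule.isBaseChange q.primeCompl A g
  have hg' : IsBaseChange B g' := IsLocalizedModule.isBaseChange q'.primeCompl B g'
  have hc : IsBaseChange B ((g'.restrictScalars S).comp f) := hf.comp hg'
  letI : Module A (LocalizedModule q'.primeCompl N') := Module.compHom _ (algebraMap A B)
  haveI : IsScalarTower A B (LocalizedModule q'.primeCompl N') := IsScalarTower.of_compHom _ _ _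
  haveI : IsScalarTower S A (LocalizedModule q'.primeCompl N') :=
    IsScalarTower.of_algebraMap_smul fun x y => by
      show algebraMap A B (algebraMap S A x) • y = x • y
      rw [← IsScalarTower.algebraMap_apply, IsScalarTower.algebraMap_apply S S' B, algebraMap_smul,
        algebraMap_smul]
  let k := hg.lift ((g'.restrictScalars S).comp f)
  have hk : IsBaseChange B k :=
    IsBaseChange.of_comp hg (by rw [hg.lift_comp]; exact hc)
  haveI : IsScalarTower R B (LocalizedModule q'.primeCompl N') :=
    IsScalarTower.of_algebraMap_smul fun x y => by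
      rw [IsScalarTower.algebraMap_apply R S' B, algebraMap_smul, algebraMap_smul]
  haveI : IsScalarTower R A (LocalizedModule q.primeCompl N) :=
    IsScalarTower.of_algebraMap_smul fun x y => by
      rw [IsScalarTower.algebraMap_apply R S A, algebraMap_smul, algebraMap_smul]
  exact ((Module.Flat.equiv_iff (hk.equiv.restrictScalars R)).symm).trans flat_baseChange_iff

omit [Algebra R S] [IsScalarTower R S S'] in
/-- If `z` is the only prime over `y` in an integral extension, elements off `z` divide elements off `y`. -/
theorem exists_dvd_of_unique {D C : Type u} [CommRing D] [CommRing C] [Algebra D C]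
    [Algebra.IsIntegral D C] (z : Ideal C) [z.IsPrime] (y : Ideal D) [y.IsPrime]
    (h : ∀ (z₁ : Ideal C) [z₁.IsPrime], z₁.LiesOver y → z₁ = z) (c : C) (hc : c ∉ z) :
    ∃ d : D, d ∉ y ∧ ∃ c' : C, algebraMap D C d = c * c' := by
  by_contra hno
  push Not at hno
  have hle : (Ideal.span {c}).comap (algebraMap D C) ≤ y := fun d hd => by
    by_contra hdy
    obtain ⟨c', hc'⟩ := Ideal.mem_span_singleton.1 (Ideal.mem_comap.1 hd)
    exact hno d hdy c' hc'
  obtain ⟨Q, hQ1, hQ2, hQ3⟩ := Ideal.exists_ideal_over_prime_of_isIntegral y (Ideal.span {c}) hle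
  have := h Q ⟨hQ3.symm⟩
  exact hc (this ▸ hQ1 (Ideal.mem_span_singleton_self c))

/-- Flatness at `z` and at `y` agree when `z` is the only prime over `y`. -/
theorem flatAt_iff_of_unique {D C G : Type u} [CommRing D] [CommRing C] [Algebra R D] [Algebra R C]
    [Algebra D C] [IsScalarTower R D C] [Algebra.IsIntegral D C] [AddCommGroup G] [Module C G]
    [Module D G] [IsScalarTower D C G] [Module R G] [IsScalarTower R C G] [IsScalarTower R D G]
    (z : Ideal C) [z.IsPrime] (y : Ideal D) [y.IsPrime] [z.LiesOver y]
    (h : ∀ (z₁ : Ideal C) [z₁.IsPrime], z₁.LiesOver y → z₁ = z) :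
    FlatCA.FlatAt R z G ↔ FlatCA.FlatAt R y G := by
  let f := (LocalizedModule.mkLinearMap z.primeCompl G).restrictScalars D
  have hy : ∀ d : y.primeCompl, algebraMap D C d ∈ z.primeCompl := fun d hd =>
    d.2 ((Ideal.over_def z y).symm ▸ (hd : (d : D) ∈ z.under D))
  haveI : IsLocalizedModule y.primeCompl f := by
    refine ⟨fun d => ?_, fun x => ?_, fun {m₁ m₂} hm => ?_⟩
    · have hu := IsLocalizedModule.map_units (LocalizedModule.mkLinearMap z.primeCompl G)
        (⟨_, hy d⟩ : z.primeCompl)
      rw [Module.End.isUnit_iff] at hu ⊢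
      convert hu using 1
      funext v
      show (d : D) • v = algebraMap D C (d : D) • v
      rw [algebraMap_smul]
    · obtain ⟨⟨m, c⟩, hmc⟩ := IsLocalizedModule.surj z.primeCompl (LocalizedModule.mkLinearMap z.primeCompl G) x
      obtain ⟨d, hd, c', hdc⟩ := exists_dvd_of_unique z y h c c.2
      refine ⟨(c' • m, ⟨d, hd⟩), ?_⟩
      show d • x = LocalizedModule.mkLinearMap z.primeCompl G (c' • m)
      rw [← algebraMap_smul C d x, hdc, mul_comm, mul_smul, map_smul]
      exact congrArg (c' • ·) hmc
    · obtain ⟨c, hc⟩ := IsLocalizedModule.exists_of_eq (S := z.primeCompl)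
        (f := LocalizedModule.mkLinearMap z.primeCompl G) hm
      obtain ⟨d, hd, c', hdc⟩ := exists_dvd_of_unique z y h c c.2
      refine ⟨⟨d, hd⟩, ?_⟩
      show d • m₁ = d • m₂
      rw [← algebraMap_smul C d m₁, ← algebraMap_smul C d m₂, hdc, mul_comm, mul_smul, mul_smul]
      exact congrArg (c' • ·) hc
  exact (Module.Flat.equiv_iff ((IsLocalizedModule.iso y.primeCompl f).restrictScalars R)).symm

omit [Algebra S S'] [IsScalarTower R S S'] in
/-- Flatness on a basic open is flatness at all its primes. -/
theorem flat_away_iff (g : S) :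
    Module.Flat R (LocalizedModule (Submonoid.powers g) N) ↔
      ∀ (q : Ideal S) [q.IsPrime], g ∉ q → FlatCA.FlatAt R q N := by
  refine ⟨fun h q _ hq => ?_, fun h => flat_away g h⟩
  haveI := h
  exact flat_of_isLocalizedModule q.primeCompl (IsLocalizedModule.liftOfLE (Submonoid.powers g) q.primeCompl
    (Submonoid.powers_le.2 hq) (LocalizedModule.mkLinearMap (Submonoid.powers g) N)
    (LocalizedModule.mkLinearMap q.primeCompl N))

end FlatInjLib
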