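import Groth.Agent.FlatInjLib.FinWeakAss
import Mathlib

/-!
# Finite type algebras over rings with finitely many weakly associated primes
-/

set_option autoImplicit false
set_option linter.style.haveILetI false

universe u

open scoped TensorProduct

namespace FlatInjLib

variable {R P S : Type u} [CommRing R] [CommRing P] [CommRing S] [Algebra R P] [Algebra R S] [Algebra P S]
  [IsScalarTower R P S] {N : Type u} [AddCommGroup N] [Module S N] [Module R N] [Module P N] [IsScalarTower R S N]
  [IsScalarTower R P N] [IsScalarTower P S N]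

theorem flatAt_comap_iff (hs : Function.Surjective (algebraMap P S)) (q : Ideal S) [q.IsPrime] :
    FlatCA.FlatAt R (q.comap (algebraMap P S)) N ↔ FlatCA.FlatAt R q N := by
  let p' := q.comap (algebraMap P S)
  let f := LocalizedModule.mkLinearMap q.primeCompl N
  haveI : IsLocalizedModule p'.primeCompl (f.restrictScalars P) := isLocalizedModule_restrict_prime hs q f
  exact Module.Flat.equiv_iff ((IsLocalizedModule.iso p'.primeCompl (f.restrictScalars P)).restrictScalars R)

theorem exists_away_fp_flat_of_surjective [Algebra.FinitePresentation R P] [Module.Finite S N]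
    (hs : Function.Surjective (algebraMap P S))
    (hR : (FlatCA.weakAss R R).Finite) (q : Ideal S) [q.IsPrime] (h : FlatCA.FlatAt R q N) :
    ∃ g : P, algebraMap P S g ∉ q ∧ (∀ (q' : Ideal S) [q'.IsPrime], algebraMap P S g ∉ q' → FlatCA.FlatAt R q' N) ∧
      Module.Flat R (LocalizedModule (Submonoid.powers (algebraMap P S g)) N) ∧
      Module.FinitePresentation (Localization.Away g) (LocalizedModule (Submonoid.powers g) N) := by
  haveI : Module.Finite P S := Module.Finite.of_surjective (Algebra.linearMap P S) hs
  haveI : Module.Finite P N := Module.Finite.trans S N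
  obtain ⟨g, hg, hflat, hfp, -⟩ := exists_away_fp_flat hR (q.comap (algebraMap P S)) ((flatAt_comap_iff hs q).2 h)
  have hflat' : ∀ (q' : Ideal S) [q'.IsPrime], algebraMap P S g ∉ q' → FlatCA.FlatAt R q' N :=
    fun q' _ hq' => (flatAt_comap_iff hs q').1 (hflat (q'.comap (algebraMap P S)) hq')
  exact ⟨g, hg, hflat', flat_away _ hflat', hfp⟩

/-- Relative finite presentation near a flat point. -/
theorem exists_relFinitePresentation [Algebra.FiniteType R S] [Module.Finite S N]
    (hR : (FlatCA.weakAss R R).Finite) (q : Ideal S) [q.IsPrime] (h : FlatCA.FlatAt R q N) :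
    ∃ g : S, g ∉ q ∧ (∀ (q' : Ideal S) [q'.IsPrime], g ∉ q' → FlatCA.FlatAt R q' N) ∧
      Module.Flat R (LocalizedModule (Submonoid.powers g) N) ∧
      FlatCA.RelFinitePresentation R (Localization.Away g) (LocalizedModule (Submonoid.powers g) N) := by
  obtain ⟨n, π, hπ⟩ := Algebra.FiniteType.iff_quotient_mvPolynomial''.1 (inferInstance : Algebra.FiniteType R S)
  let P := MvPolynomial (Fin n) R
  letI : Algebra P S := π.toRingHom.toAlgebra
  haveI : IsScalarTower R P S := IsScalarTower.of_algebraMap_eq fun x => (π.commutes x).symm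
  letI : Module P N := Module.compHom N (algebraMap P S)
  haveI : IsScalarTower P S N := IsScalarTower.of_compHom _ _ _
  haveI : IsScalarTower R P N := IsScalarTower.of_algebraMap_smul fun r x => by
    show algebraMap P S (algebraMap R P r) • x = r • x
    rw [← IsScalarTower.algebraMap_apply, algebraMap_smul]
  obtain ⟨g, hg, hflat', hfl, hfp⟩ := exists_away_fp_flat_of_surjective (P := P) (N := N) hπ hR q h
  refine ⟨algebraMap P S g, hg, hflat', hfl, ?_⟩
  let gS := algebraMap P S g
  let Pg := Localization.Away g
  let Sg := Localization.Away gS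
  let Ng := LocalizedModule (Submonoid.powers gS) N
  letI : Algebra Pg Sg := (IsLocalization.Away.map Pg Sg (algebraMap P S) g).toAlgebra
  haveI : IsScalarTower P Pg Sg := IsScalarTower.of_algebraMap_eq fun x => by
    rw [RingHom.algebraMap_toAlgebra, IsLocalization.Away.map, IsLocalization.map_eq]
    exact IsScalarTower.algebraMap_apply P S Sg x
  haveI : IsScalarTower R Pg Sg := IsScalarTower.of_algebraMap_eq fun x => by
    rw [IsScalarTower.algebraMap_apply R P Pg, ← IsScalarTower.algebraMap_apply P Pg Sg, ← IsScalarTower.algebraMap_apply]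
  have hPS : Function.Surjective (algebraMap Pg Sg) := fun y => by
    obtain ⟨s, ⟨_, k, rfl⟩, rfl⟩ := IsLocalization.exists_mk'_eq (Submonoid.powers gS) y
    obtain ⟨t, rfl⟩ := hπ s
    refine ⟨IsLocalization.mk' Pg t (⟨g ^ k, k, rfl⟩ : Submonoid.powers g), ?_⟩
    rw [RingHom.algebraMap_toAlgebra, IsLocalization.Away.map, IsLocalization.map_mk']
    congr 1
    exact Subtype.ext (map_pow (algebraMap P S) g k)
  letI : Module Pg Ng := Module.compHom Ng (algebraMap Pg Sg)
  haveI : IsScalarTower P Pg Ng := IsScalarTower.of_algebraMap_smul fun x y => by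
    show algebraMap Pg Sg (algebraMap P Pg x) • y = x • y
    rw [← IsScalarTower.algebraMap_apply, IsScalarTower.algebraMap_apply P S Sg, algebraMap_smul, algebraMap_smul]
  haveI : IsLocalizedModule (Algebra.algebraMapSubmonoid S (Submonoid.powers g))
      (LocalizedModule.mkLinearMap (Submonoid.powers gS) N) := by
    rw [Algebra.algebraMapSubmonoid_powers]
    infer_instance
  let f := (LocalizedModule.mkLinearMap (Submonoid.powers gS) N).restrictScalars P
  haveI : IsLocalizedModule (Submonoid.powers g) f := IsLocalizedModule.restrictScalars _ _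
  let e := IsLocalizedModule.iso (Submonoid.powers g) f
  let e' : LocalizedModule (Submonoid.powers g) N ≃ₗ[Pg] Ng :=
    LinearEquiv.extendScalarsOfIsLocalization (Submonoid.powers g) Pg e
  haveI : Module.FinitePresentation Pg Ng := Module.FinitePresentation.of_equiv e'
  haveI : Algebra.FinitePresentation P Pg := IsLocalization.Away.finitePresentation g
  haveI : Algebra.FinitePresentation R Pg := Algebra.FinitePresentation.trans R P Pg
  obtain ⟨m, ψ, hψ⟩ := Algebra.FiniteType.iff_quotient_mvPolynomial''.1 (inferInstance : Algebra.FiniteType R Pg)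
  refine ⟨m, (IsScalarTower.toAlgHom R Pg Sg).comp ψ, hPS.comp hψ, ?_⟩
  let T := MvPolynomial (Fin m) R
  letI algT : Algebra T Pg := ψ.toRingHom.toAlgebra
  letI : Module T Pg := algT.toModule
  letI : Module T Ng := Module.compHom Ng ((IsScalarTower.toAlgHom R Pg Sg).comp ψ).toRingHom
  haveI : IsScalarTower T Pg Ng := IsScalarTower.of_algebraMap_smul fun x y => rfl
  haveI : Module.FinitePresentation T Pg :=
    Module.finitePresentation_of_surjective (Algebra.linearMap T Pg) hψ
      (Algebra.FinitePresentation.ker_fG_of_surjective ψ hψ)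
  exact Module.FinitePresentation.trans T Ng Pg

end FlatInjLib
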