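import Groth.Agent.FlatInjLib.Main
import Groth.Agent.FibAssLib.Basic
import Mathlib

/-!
# Universal injectivity of maps of projective modules, multiplication by fibre nonzerodivisors
-/

set_option autoImplicit false
set_option linter.style.haveILetI false

universe u

open IsLocalRing
open scoped TensorProduct

namespace FlatInjLib

variable {R : Type u} [CommRing R] [IsLocalRing R]

theorem univInj_of_finsupp {ι κ : Type u} (v : (ι →₀ R) →ₗ[R] (κ →₀ R))
    (hv : Function.Injective (v.lTensor (ResidueField R))) (Q : Type u) [AddCommGroup Q] [Module R Q] :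
    Function.Injective (v.lTensor Q) := by
  classical
  refine (injective_iff_map_eq_zero _).2 fun z hz => ?_
  obtain ⟨T, hT⟩ := TensorProduct.exists_finset z
  let s : Finset ι := T.biUnion fun qx => qx.2.support
  let inc : (s →₀ R) →ₗ[R] (ι →₀ R) := Finsupp.lmapDomain R R Subtype.val
  let res : (ι →₀ R) →ₗ[R] (s →₀ R) := Finsupp.lcomapDomain Subtype.val Subtype.val_injective
  have hres : res ∘ₗ inc = LinearMap.id := LinearMap.ext fun x => by
    ext a
    show (Finsupp.mapDomain Subtype.val x) (a : ι) = x a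
    exact Finsupp.mapDomain_apply Subtype.val_injective x a
  have hfix : ∀ x : ι →₀ R, x.support ⊆ s → inc (res x) = x := fun x hx =>
    Finsupp.mapDomain_comapDomain Subtype.val Subtype.val_injective x fun a ha => ⟨⟨a, hx ha⟩, rfl⟩
  have hz1 : inc.lTensor Q (res.lTensor Q z) = z := by
    rw [hT, map_sum, map_sum]
    refine Finset.sum_congr rfl fun qx hqx => ?_
    rw [LinearMap.lTensor_tmul, LinearMap.lTensor_tmul, hfix _ (Finset.subset_biUnion_of_mem (fun qx => qx.2.support) hqx)]
  let t : Finset κ := Finset.univ.biUnion fun a : s => (v (Finsupp.single (a : ι) 1)).support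
  let inc' : (t →₀ R) →ₗ[R] (κ →₀ R) := Finsupp.lmapDomain R R Subtype.val
  let res' : (κ →₀ R) →ₗ[R] (t →₀ R) := Finsupp.lcomapDomain Subtype.val Subtype.val_injective
  have hfac : inc' ∘ₗ res' ∘ₗ v ∘ₗ inc = v ∘ₗ inc := by
    refine Finsupp.lhom_ext fun a b => ?_
    have h1 : inc' (res' (v (Finsupp.single (a : ι) 1))) = v (Finsupp.single (a : ι) 1) :=
      Finsupp.mapDomain_comapDomain Subtype.val Subtype.val_injective _
        fun c hc => ⟨⟨c, Finset.mem_biUnion.2 ⟨a, Finset.mem_univ _, hc⟩⟩, rfl⟩
    have h2 : inc (Finsupp.single a b) = b • Finsupp.single (a : ι) (1 : R) := by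
      show Finsupp.mapDomain Subtype.val (Finsupp.single a b) = _
      rw [Finsupp.mapDomain_single, Finsupp.smul_single, smul_eq_mul, mul_one]
    simp only [LinearMap.comp_apply, h2, map_smul, h1]
  have hinj : Function.Injective ((res' ∘ₗ v ∘ₗ inc).lTensor (ResidueField R)) := by
    have h1 : Function.Injective (inc.lTensor (ResidueField R)) := by
      refine Function.LeftInverse.injective (g := res.lTensor (ResidueField R)) fun x => ?_
      rw [← LinearMap.comp_apply, ← LinearMap.lTensor_comp, hres, LinearMap.lTensor_id, LinearMap.id_apply]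
    have h2 : Function.Injective ((inc' ∘ₗ res' ∘ₗ v ∘ₗ inc).lTensor (ResidueField R)) := by
      rw [hfac, LinearMap.lTensor_comp]
      exact hv.comp h1
    rw [show (inc' ∘ₗ res' ∘ₗ v ∘ₗ inc).lTensor (ResidueField R) =
      inc'.lTensor (ResidueField R) ∘ₗ (res' ∘ₗ v ∘ₗ inc).lTensor (ResidueField R) from LinearMap.lTensor_comp ..] at h2
    exact Function.Injective.of_comp (f := inc'.lTensor (ResidueField R)) h2
  obtain ⟨l, hl⟩ := (IsLocalRing.split_injective_iff_lTensor_residueField_injective _).2 hinj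
  have h0 : res.lTensor Q z = (l ∘ₗ res' ∘ₗ v ∘ₗ inc).lTensor Q (res.lTensor Q z) := by
    rw [hl, LinearMap.lTensor_id, LinearMap.id_apply]
  rw [← hz1]
  rw [LinearMap.lTensor_comp, LinearMap.lTensor_comp, LinearMap.lTensor_comp] at h0
  simp only [LinearMap.comp_apply, hz1, hz, map_zero] at h0
  rw [h0, map_zero]

/-- A map of projective modules over a local ring which is injective on the residue field is universally injective. -/
theorem univInj_of_projective {N M : Type u} [AddCommGroup N] [Module R N] [Module.Projective R N] [AddCommGroup M]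
    [Module R M] [Module.Projective R M] (u : N →ₗ[R] M) (hu : Function.Injective (u.lTensor (ResidueField R)))
    (Q : Type u) [AddCommGroup Q] [Module R Q] : Function.Injective (u.lTensor Q) := by
  let π : (N →₀ R) →ₗ[R] N := Finsupp.linearCombination R id
  let π' : (M →₀ R) →ₗ[R] M := Finsupp.linearCombination R id
  obtain ⟨i, hi⟩ := Module.projective_def'.1 (inferInstance : Module.Projective R N)
  obtain ⟨j, hj⟩ := Module.projective_def'.1 (inferInstance : Module.Projective R M)
  let e : ((M →₀ R) × (N →₀ R)) ≃ₗ[R] (M ⊕ N →₀ R) := (Finsupp.sumFinsuppLEquivProdFinsupp R).symm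
  let v : (N →₀ R) →ₗ[R] (M ⊕ N →₀ R) :=
    e.toLinearMap ∘ₗ LinearMap.prod (j ∘ₗ u ∘ₗ π) (LinearMap.id - i ∘ₗ π)
  let a : (M ⊕ N →₀ R) →ₗ[R] M := π' ∘ₗ LinearMap.fst R _ _ ∘ₗ e.symm.toLinearMap
  let b : (M ⊕ N →₀ R) →ₗ[R] (N →₀ R) := LinearMap.snd R _ _ ∘ₗ e.symm.toLinearMap
  have ha : a ∘ₗ v = u ∘ₗ π := LinearMap.ext fun x => by
    simp only [a, v, LinearMap.comp_apply, LinearEquiv.coe_coe, LinearEquiv.symm_apply_apply, LinearMap.prod_apply,
      Function.prod_apply, LinearMap.fst_apply]
    exact LinearMap.congr_fun hj _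
  have hb : b ∘ₗ v = LinearMap.id - i ∘ₗ π := LinearMap.ext fun x => by
    simp only [b, v, LinearMap.comp_apply, LinearEquiv.coe_coe, LinearEquiv.symm_apply_apply, LinearMap.prod_apply,
      Function.prod_apply, LinearMap.snd_apply]
  have hv : Function.Injective (v.lTensor (ResidueField R)) := by
    refine (injective_iff_map_eq_zero _).2 fun z hz => ?_
    have h1 := congrArg (a.lTensor (ResidueField R)) hz
    rw [← LinearMap.comp_apply, ← LinearMap.lTensor_comp, ha, LinearMap.lTensor_comp, LinearMap.comp_apply, map_zero,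
      map_eq_zero_iff _ hu] at h1
    have h2 := congrArg (b.lTensor (ResidueField R)) hz
    rw [← LinearMap.comp_apply, ← LinearMap.lTensor_comp, hb, LinearMap.lTensor_sub, LinearMap.sub_apply,
      LinearMap.lTensor_id, LinearMap.id_apply, LinearMap.lTensor_comp, LinearMap.comp_apply, h1, map_zero, sub_zero] at h2
    exact h2
  have hvQ := univInj_of_finsupp v hv Q
  refine (injective_iff_map_eq_zero _).2 fun z hz => ?_
  have hpi : π.lTensor Q (i.lTensor Q z) = z := by
    rw [← LinearMap.comp_apply, ← LinearMap.lTensor_comp, hi, LinearMap.lTensor_id, LinearMap.id_apply]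
  have h3 : v ∘ₗ i = e.toLinearMap ∘ₗ LinearMap.inl R _ _ ∘ₗ (j ∘ₗ u) := LinearMap.ext fun x => by
    have hx : π (i x) = x := LinearMap.congr_fun hi x
    simp only [v, LinearMap.comp_apply, LinearMap.prod_apply, Function.prod_apply, LinearMap.sub_apply,
      LinearMap.id_apply, hx, sub_self, LinearMap.inl_apply]
  have h4 : v.lTensor Q (i.lTensor Q z) = 0 := by
    rw [← LinearMap.comp_apply, ← LinearMap.lTensor_comp, h3]
    simp only [LinearMap.lTensor_comp, LinearMap.comp_apply, hz, map_zero]
  rw [← hpi, (map_eq_zero_iff _ hvQ).1 h4, map_zero]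

/-- Converse of `mem_of_lTensor_injective`. -/
theorem lTensor_injective_of_mem {N M : Type u} [AddCommGroup N] [Module R N] [AddCommGroup M] [Module R M]
    (u : N →ₗ[R] M) (h : ∀ x, u x ∈ maximalIdeal R • (⊤ : Submodule R M) → x ∈ maximalIdeal R • (⊤ : Submodule R N)) :
    Function.Injective (u.lTensor (ResidueField R)) := by
  refine (injective_iff_map_eq_zero _).2 fun z hz => ?_
  obtain ⟨x, rfl⟩ : ∃ x : N, (1 : ResidueField R) ⊗ₜ[R] x = z := by
    clear hz
    induction z using TensorProduct.induction_on with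
    | zero => exact ⟨0, TensorProduct.tmul_zero _ _⟩
    | tmul c x =>
      obtain ⟨r, rfl⟩ := IsLocalRing.residue_surjective c
      refine ⟨r • x, ?_⟩
      rw [← TensorProduct.smul_tmul, Algebra.smul_def, mul_one]
      rfl
    | add p q hp hq =>
      obtain ⟨x, rfl⟩ := hp
      obtain ⟨y, rfl⟩ := hq
      exact ⟨x + y, TensorProduct.tmul_add _ _ _⟩
  rw [LinearMap.lTensor_tmul] at hz
  have h1 : u x ∈ LinearMap.ker (TensorProduct.mk R (ResidueField R) M 1) := hz
  have h2 := h x ((LinearMap.ker_tensorProductMk (R := R) (Q := M) (I := maximalIdeal R)).le h1)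
  exact (LinearMap.ker_tensorProductMk (R := R) (Q := N) (I := maximalIdeal R)).ge h2

variable {S : Type u} [CommRing S] [Algebra R S] {N : Type u} [AddCommGroup N] [Module S N] [Module R N]
  [IsScalarTower R S N]

theorem toFiberMod_eq_zero_iff (n : N) :
    FlatCA.toFiberMod (maximalIdeal R) S N n = 0 ↔ n ∈ maximalIdeal R • (⊤ : Submodule R N) := by
  rw [mem_smul_top_iff_map (B := S)]
  refine ⟨fun h => ?_, FibAssLib.toFiberMod_map_eq_zero _⟩
  obtain ⟨t, ht, htz⟩ := FibAssLib.exists_smul_eq_zero_of_β (maximalIdeal R)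
    (z := (Submodule.Quotient.mk n : FibAssLib.quot (S := S) N (maximalIdeal R))) h
  exact (Submodule.Quotient.mk_eq_zero _).1 ((IsLocalRing.notMem_maximalIdeal.1 ht).smul_eq_zero.1 htz)

theorem mem_of_smul_mem {s : S} (hs : s ∈ FlatCA.nzdFiber R S N) (x : N)
    (hx : s • x ∈ maximalIdeal R • (⊤ : Submodule R N)) : x ∈ maximalIdeal R • (⊤ : Submodule R N) := by
  rw [← toFiberMod_eq_zero_iff (S := S)] at hx ⊢
  rw [map_smul] at hx
  exact hs _ hx

theorem lsmul_univInj_of_projective [Module.Projective R N] {s : S} (hs : s ∈ FlatCA.nzdFiber R S N) :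
    FlatCA.UnivInj R ((LinearMap.lsmul S N s).restrictScalars R) := fun Q _ _ =>
  univInj_of_projective _ (lTensor_injective_of_mem _ fun x hx => mem_of_smul_mem hs x hx) Q

omit [IsLocalRing R] in
theorem mkLinearMap_univInj (T : Submonoid S)
    (h : ∀ s ∈ T, FlatCA.UnivInj R ((LinearMap.lsmul S N s).restrictScalars R)) :
    FlatCA.UnivInj R ((LocalizedModule.mkLinearMap T N).restrictScalars R) := by
  intro Q _ _
  rw [LinearMap.lTensor_inj_iff_rTensor_inj]
  refine (injective_iff_map_eq_zero _).2 fun z hz => ?_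
  obtain ⟨c, hc⟩ := (IsLocalizedModule.eq_zero_iff T
    (TensorProduct.AlgebraTensorModule.rTensor R Q (LocalizedModule.mkLinearMap T N))).1 hz
  have h1 := (LinearMap.lTensor_inj_iff_rTensor_inj Q _).1 (h c c.2 Q)
  refine h1 ?_
  rw [map_zero, ← hc]
  clear hz hc
  induction z using TensorProduct.induction_on with
  | zero => simp
  | tmul x y => rfl
  | add a b ha hb => rw [map_add, ha, hb, smul_add]

end FlatInjLib
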