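import Groth.Agent.FlatInjLib.AssFlat
import Mathlib

/-!
# Associated primes of `N ⊗ Q` for flat `N` are associated points of the fibres
-/

set_option autoImplicit false
set_option linter.style.haveILetI false

universe u

open IsLocalRing
open scoped TensorProduct

namespace FlatInjLib

variable {R S : Type u} [CommRing R] [CommRing S] [Algebra R S] {N : Type u} [AddCommGroup N] [Module S N]
  [Module R N] [IsScalarTower R S N]

/-- Membership in `p N_q`. -/
theorem mk_mem_iff (p : Ideal R) (q : Ideal S) [q.IsPrime] (n : N) (s : q.primeCompl) :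
    LocalizedModule.mk n s ∈ p • (⊤ : Submodule R (LocalizedModule q.primeCompl N)) ↔
      ∃ t : S, t ∉ q ∧ t • n ∈ p.map (algebraMap R S) • (⊤ : Submodule S N) := by
  refine ⟨fun h2 => ?_, fun ⟨t, ht, htn⟩ => ?_⟩
  · rw [mem_smul_top_iff_map (B := S)] at h2
    have h3 : ∀ y ∈ p.map (algebraMap R S) • (⊤ : Submodule S (LocalizedModule q.primeCompl N)),
        ∃ t ∉ q, ∃ m ∈ p.map (algebraMap R S) • (⊤ : Submodule S N), t • y = LocalizedModule.mk m 1 := by
      intro y hy
      refine Submodule.smul_induction_on hy (fun a ha z _ => ?_) ?_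
      · induction z using LocalizedModule.induction_on with
        | h m t =>
          refine ⟨t, t.2, a • m, Submodule.smul_mem_smul ha trivial, ?_⟩
          rw [LocalizedModule.smul'_mk, LocalizedModule.smul'_mk, ← Submonoid.smul_def, LocalizedModule.mk_cancel]
      · rintro y z ⟨t, ht, m, hm, e⟩ ⟨t', ht', m', hm', e'⟩
        refine ⟨t * t', Ideal.IsPrime.mul_notMem inferInstance ht ht', t' • m + t • m',
          add_mem (Submodule.smul_mem _ _ hm) (Submodule.smul_mem _ _ hm'), ?_⟩
        have hmk : ∀ (c : S) (w : N), LocalizedModule.mk (c • w) (1 : q.primeCompl) = c • LocalizedModule.mk w 1 :=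
          fun c w => (LocalizedModule.smul'_mk _ _ _).symm
        rw [smul_add, ← LocalizedModule.mkLinearMap_apply, map_add, LocalizedModule.mkLinearMap_apply,
          LocalizedModule.mkLinearMap_apply, hmk, hmk, ← e, ← e', ← mul_smul, ← mul_smul, mul_comm t' t]
    obtain ⟨t, ht, m, hm, e⟩ := h3 _ h2
    rw [LocalizedModule.smul'_mk] at e
    obtain ⟨c, hc⟩ := LocalizedModule.mk_eq.1 e
    refine ⟨(c : S) * t, Ideal.IsPrime.mul_notMem inferInstance c.2 ht, ?_⟩
    simp only [one_smul, Submonoid.smul_def] at hc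
    rw [mul_smul, hc]
    exact Submodule.smul_mem _ _ (Submodule.smul_mem _ _ hm)
  · let c : q.primeCompl := ⟨t, ht⟩
    let B := Localization.AtPrime q
    have h4 : LocalizedModule.mk ((c : S) • n) (1 : q.primeCompl) ∈
        p.map (algebraMap R S) • (⊤ : Submodule S (LocalizedModule q.primeCompl N)) := by
      have := Submodule.mem_map_of_mem (f := LocalizedModule.mkLinearMap q.primeCompl N) htn
      rw [Submodule.map_smul''] at this
      exact Submodule.smul_mono le_rfl le_top this
    rw [← mem_smul_top_iff_map, mem_smul_top_iff_map (B := B)] at h4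
    have h5 := Submodule.smul_mem _ (IsLocalization.mk' B (1 : S) (c * s)) h4
    rw [mem_smul_top_iff_map (B := B)]
    convert h5 using 1
    rw [← Localization.mk_eq_mk']
    exact ((LocalizedModule.mk_smul_mk _ _ _ _).trans (by
      rw [one_smul, mul_one, ← Submonoid.smul_def, LocalizedModule.mk_cancel_common_left])).symm

variable [Algebra.FiniteType R S] [Module.Finite S N]

/-- An element of the fibre module killed at every associated point under `q` is killed at `q`. -/
theorem exists_smul_eq_zero_of_forall_ass (p : Ideal R) [p.IsPrime] (q : Ideal S) [q.IsPrime]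
    (x : FlatCA.fiberMod p S N)
    (h : ∀ P ∈ associatedPrimes (p.Fiber S) (FlatCA.fiberMod p S N), P.comap (FibAssLib.incl S p) ≤ q →
      ∃ t : S, t ∉ P.comap (FibAssLib.incl S p) ∧ t • x = 0) :
    ∃ s : S, s ∉ q ∧ s • x = 0 := by
  classical
  haveI : IsNoetherianRing (p.Fiber S) := Algebra.FiniteType.isNoetherianRing p.ResidueField _
  haveI : Module.Finite (p.Fiber S) (FlatCA.fiberMod p S N) := by
    letI : Algebra S (p.Fiber S) := Algebra.TensorProduct.rightAlgebra
    exact Module.Finite.base_change S (p.Fiber S) N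
  let J : Ideal (p.Fiber S) := Module.annihilator (p.Fiber S) (Submodule.span (p.Fiber S) {x})
  have hJ : ∀ f : p.Fiber S, f ∈ J ↔ f • x = 0 := fun f => Submodule.mem_annihilator_span_singleton x f
  by_contra hno
  push Not at hno
  have hdis : Disjoint (J : Set (p.Fiber S)) (Submonoid.map (FibAssLib.incl S p).toMonoidHom q.primeCompl : Set (p.Fiber S)) := by
    refine Set.disjoint_left.2 fun f hf hf' => ?_
    obtain ⟨s', hs', rfl⟩ := hf'
    exact hno s' hs' (by rw [FibAssLib.smul_eq]; exact (hJ _).1 hf)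
  obtain ⟨Q₁, hQ₁, hJQ, hQdis⟩ := Ideal.exists_le_prime_disjoint J _ hdis
  haveI := hQ₁
  obtain ⟨P, hP, hPQ⟩ := Ideal.exists_minimalPrimes_le hJQ
  haveI : Module.Finite (p.Fiber S) (Submodule.span (p.Fiber S) {x}) :=
    Module.Finite.iff_fg.2 (Submodule.fg_span_singleton _)
  have hPass : P ∈ associatedPrimes (p.Fiber S) (FlatCA.fiberMod p S N) :=
    associatedPrimes.subset_of_injective (Submodule.injective_subtype _)
      (Module.associatedPrimes.minimalPrimes_annihilator_subset_associatedPrimes _ _ hP)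
  have hPq : P.comap (FibAssLib.incl S p) ≤ q := fun y hy => by
    by_contra hyq
    exact Set.disjoint_left.1 hQdis (hPQ hy) ⟨y, hyq, rfl⟩
  obtain ⟨t, ht, htx⟩ := h P hPass hPq
  exact ht (hP.1.2 ((hJ _).2 (by rw [← FibAssLib.smul_eq]; exact htx)))

/-- An element avoiding the associated points of the fibre acts injectively on `(N ⊗ Q)_q` when `N` is flat at `q`. -/
theorem exists_smul_eq_zero_of_smul_eq_zero (p : Ideal R) [p.IsPrime] (q : Ideal S) [q.IsPrime] [q.LiesOver p]
    (hflat : FlatCA.FlatAt R q N) (g : S)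
    (hg : ∀ P ∈ associatedPrimes (p.Fiber S) (FlatCA.fiberMod p S N), P.comap (FibAssLib.incl S p) ≤ q →
      g ∉ P.comap (FibAssLib.incl S p))
    (Q : Type u) [AddCommGroup Q] [Module R Q] (z : N ⊗[R] Q) (hz : g • z = 0) :
    ∃ s : S, s ∉ q ∧ s • z = 0 := by
  let A := Localization.AtPrime p
  let B := Localization.AtPrime q
  letI : Algebra A B := (Localization.localRingHom p q (algebraMap R S) (Ideal.over_def q p)).toAlgebra
  haveI : IsScalarTower R A B := IsScalarTower.of_algebraMap_eq fun x => by
    rw [RingHom.algebraMap_toAlgebra, Localization.localRingHom_to_map, ← IsScalarTower.algebraMap_apply]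
  haveI : IsLocalHom (algebraMap A B) :=
    Localization.isLocalHom_localRingHom p q (algebraMap R S) (Ideal.over_def q p)
  haveI : Algebra.EssFiniteType R B := Algebra.EssFiniteType.comp R S B
  haveI : Algebra.EssFiniteType A B := Algebra.EssFiniteType.of_comp R A B
  let Nq := LocalizedModule q.primeCompl N
  letI : Module A Nq := Module.compHom Nq (algebraMap A B)
  haveI : IsScalarTower A B Nq := IsScalarTower.of_compHom _ _ _
  haveI : IsScalarTower R A Nq := IsScalarTower.of_algebraMap_smul fun x y => by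
    show algebraMap A B (algebraMap R _ x) • y = x • y
    rw [← IsScalarTower.algebraMap_apply, IsScalarTower.algebraMap_apply R S B, algebraMap_smul, algebraMap_smul]
  haveI : Module.Flat A Nq := (Module.flat_iff_of_isLocalization A p.primeCompl Nq).2 hflat
  let u : Nq →ₗ[B] Nq := LinearMap.lsmul B Nq (algebraMap S B g)
  have hu : ∀ x, u x ∈ maximalIdeal A • (⊤ : Submodule A Nq) → x ∈ maximalIdeal A • (⊤ : Submodule A Nq) := by
    intro x hx
    rw [← Localization.AtPrime.map_eq_maximalIdeal, ← mem_smul_top_iff_map] at hx ⊢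
    induction x using LocalizedModule.induction_on with
    | h n s =>
      rw [show u (LocalizedModule.mk n s) = g • LocalizedModule.mk n s from algebraMap_smul B g _,
        LocalizedModule.smul'_mk, mk_mem_iff] at hx
      rw [mk_mem_iff]
      obtain ⟨t, ht, htn⟩ := hx
      have h0 : (t * g) • FlatCA.toFiberMod p S N n = 0 := by
        rw [← map_smul, mul_smul]
        exact FibAssLib.toFiberMod_map_eq_zero p htn
      obtain ⟨s', hs', hs'n⟩ := exists_smul_eq_zero_of_forall_ass p q (FlatCA.toFiberMod p S N n) fun P hP hPq => by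
        haveI : P.IsPrime := IsAssociatedPrime.isPrime hP
        exact ⟨t * g, (Ideal.IsPrime.comap (FibAssLib.incl S p)).mul_notMem (fun h => ht (hPq h)) (hg P hP hPq), h0⟩
      obtain ⟨r, hr, hrz⟩ := FibAssLib.exists_smul_eq_zero_of_β p
        (z := (Submodule.Quotient.mk (s' • n) : FibAssLib.quot (S := S) N p))
        (by show FlatCA.toFiberMod p S N (s' • n) = 0; rw [map_smul]; exact hs'n)
      rw [← Submodule.Quotient.mk_smul, Submodule.Quotient.mk_eq_zero, ← algebraMap_smul S r, ← mul_smul] at hrz
      exact ⟨_, Ideal.IsPrime.mul_notMem inferInstance (fun hh => hr (by rw [Ideal.over_def q p]; exact hh)) hs', hrz⟩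
  have hinj := (LinearMap.lTensor_inj_iff_rTensor_inj (A ⊗[R] Q) (u.restrictScalars A)).1
    (lTensor_injective_of_injective_mod u hu (A ⊗[R] Q))
  let e := TensorProduct.AlgebraTensorModule.cancelBaseChange R A A Nq Q
  let ℓ := TensorProduct.AlgebraTensorModule.rTensor R Q (LocalizedModule.mkLinearMap q.primeCompl N)
  have hcomm : ∀ y : N ⊗[R] Q, (u.restrictScalars A).rTensor (A ⊗[R] Q) (e.symm (ℓ y)) = e.symm (ℓ (g • y)) := by
    intro y
    induction y using TensorProduct.induction_on with
    | zero => simp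
    | tmul a b =>
      simp only [ℓ, e, TensorProduct.smul_tmul', TensorProduct.AlgebraTensorModule.rTensor_tmul,
        TensorProduct.AlgebraTensorModule.cancelBaseChange_symm_tmul, LinearMap.rTensor_tmul, map_smul]
      refine congrArg (· ⊗ₜ[A] ((1 : A) ⊗ₜ[R] b)) ?_
      exact algebraMap_smul B g (LocalizedModule.mkLinearMap q.primeCompl N a : Nq)
    | add a b ha hb => simp only [map_add, ha, hb, smul_add]
  have h0 : e.symm (ℓ z) = 0 := hinj (by rw [hcomm, hz, map_zero, map_zero, map_zero])
  obtain ⟨s, hs⟩ := (IsLocalizedModule.eq_zero_iff q.primeCompl ℓ).1 ((LinearEquiv.map_eq_zero_iff _).1 h0)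
  exact ⟨s, s.2, hs⟩

/-- A prime minimal over the annihilator of an element of `N ⊗ Q` at which `N` is flat is an associated point of its fibre. -/
theorem mem_associatedPrimes_of_mem_minimalPrimes (p : Ideal R) [p.IsPrime] (q : Ideal S) [q.IsPrime] [q.LiesOver p]
    (hflat : FlatCA.FlatAt R q N) (Q : Type u) [AddCommGroup Q] [Module R Q] (z : N ⊗[R] Q)
    (hq : q ∈ (Submodule.span S {z}).annihilator.minimalPrimes) :
    ∃ P ∈ associatedPrimes (p.Fiber S) (FlatCA.fiberMod p S N), P.comap (FibAssLib.incl S p) = q := by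
  classical
  by_contra hno
  push Not at hno
  haveI : IsNoetherianRing (p.Fiber S) := Algebra.FiniteType.isNoetherianRing p.ResidueField _
  haveI : Module.Finite (p.Fiber S) (FlatCA.fiberMod p S N) := by
    letI : Algebra S (p.Fiber S) := Algebra.TensorProduct.rightAlgebra
    exact Module.Finite.base_change S (p.Fiber S) N
  let T := (associatedPrimes.finite (p.Fiber S) (FlatCA.fiberMod p S N)).toFinset.filter
    fun P => P.comap (FibAssLib.incl S p) ≤ q
  obtain ⟨f, hfq, hf⟩ : ∃ f ∈ q, ∀ P ∈ T, f ∉ P.comap (FibAssLib.incl S p) := by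
    have h1 : ¬ (q : Set S) ⊆ ⋃ P ∈ (T : Set (Ideal (p.Fiber S))), ↑(P.comap (FibAssLib.incl S p)) := by
      intro hsub
      obtain ⟨P, hP, hqP⟩ := (Ideal.subset_union_prime (f := fun P : Ideal (p.Fiber S) => P.comap (FibAssLib.incl S p))
        ⊤ ⊥ fun P hP _ _ => by
          haveI : P.IsPrime := IsAssociatedPrime.isPrime ((Set.Finite.mem_toFinset _).1 (Finset.mem_filter.1 hP).1)
          exact Ideal.IsPrime.comap _).1 hsub
      exact hno P ((Set.Finite.mem_toFinset _).1 (Finset.mem_filter.1 hP).1) (le_antisymm (Finset.mem_filter.1 hP).2 hqP)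
    obtain ⟨f, hf, hf'⟩ := Set.not_subset.1 h1
    exact ⟨f, hf, fun P hP h => hf' (Set.mem_iUnion₂.2 ⟨P, hP, h⟩)⟩
  obtain ⟨s, hs, k, hk⟩ : ∃ s ∉ q, ∃ k : ℕ, (f ^ k * s) • z = 0 := by
    by_contra hh
    push Not at hh
    let M : Submonoid S := q.primeCompl ⊔ Submonoid.powers f
    have hdis : Disjoint ((Submodule.span S {z}).annihilator : Set S) (M : Set S) := by
      refine Set.disjoint_left.2 fun a ha haM => ?_
      obtain ⟨s, hs, _, ⟨k, rfl⟩, rfl⟩ := Submonoid.mem_sup.1 haM
      exact hh s hs k (by rw [mul_comm]; exact (Submodule.mem_annihilator_span_singleton _ _).1 ha)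
    obtain ⟨P, hP, hJP, hPM⟩ := Ideal.exists_le_prime_disjoint _ M hdis
    have hPq : P ≤ q := fun a ha => by
      by_contra haq
      exact Set.disjoint_left.1 hPM ha (Submonoid.mem_sup_left haq)
    have hqP : q ≤ P := hq.2 ⟨hP, hJP⟩ hPq
    exact Set.disjoint_left.1 hPM (hqP hfq) (Submonoid.mem_sup_right ⟨1, pow_one f⟩)
  induction k generalizing s with
  | zero =>
    rw [pow_zero, one_mul] at hk
    exact hs (hq.1.2 ((Submodule.mem_annihilator_span_singleton _ _).2 hk))
  | succ k ih =>
    rw [pow_succ', mul_assoc, mul_smul] at hk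
    obtain ⟨s', hs', hs'z⟩ := exists_smul_eq_zero_of_smul_eq_zero p q hflat f
      (fun P hP hPq => hf P (Finset.mem_filter.2 ⟨(Set.Finite.mem_toFinset _).2 hP, hPq⟩)) Q _ hk
    refine ih (s' * s) (Ideal.IsPrime.mul_notMem inferInstance hs' hs) ?_
    rwa [← mul_smul, mul_left_comm] at hs'z

/-- A nonzero element of `N ⊗ Q`, `N` flat, has its annihilator inside an associated point of a fibre. -/
theorem exists_relAss_annihilator_le [Module.Flat R N] (Q : Type u) [AddCommGroup Q] [Module R Q] (z : N ⊗[R] Q)
    (hz : z ≠ 0) : ∃ (p : Ideal R) (q : Ideal S) (_ : p.IsPrime) (_ : q.IsPrime) (_ : q.LiesOver p),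
      FlatCA.fiberIdeal p q ∈ associatedPrimes (p.Fiber S) (FlatCA.fiberMod p S N) ∧
      ∀ s : S, s • z = 0 → s ∈ q := by
  have hne : (Submodule.span S {z}).annihilator ≠ ⊤ := fun h => hz (by
    have h1 := (Submodule.mem_annihilator_span_singleton z (1 : S)).1 (h ▸ Submodule.mem_top)
    rwa [one_smul] at h1)
  obtain ⟨Q', hQ', hle⟩ := Ideal.exists_le_maximal _ hne
  obtain ⟨q, hq, -⟩ := Ideal.exists_minimalPrimes_le hle
  haveI : q.IsPrime := hq.1.1
  let p := q.comap (algebraMap R S)
  haveI : q.LiesOver p := ⟨rfl⟩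
  obtain ⟨P, hP, hPq⟩ := mem_associatedPrimes_of_mem_minimalPrimes p q
    (flat_of_isLocalizedModule q.primeCompl (LocalizedModule.mkLinearMap q.primeCompl N)) Q z hq
  haveI : P.IsPrime := IsAssociatedPrime.isPrime hP
  refine ⟨p, q, inferInstance, inferInstance, inferInstance, ?_,
    fun s hs => hq.1.2 ((Submodule.mem_annihilator_span_singleton _ _).2 hs)⟩
  rw [show FlatCA.fiberIdeal p q = P from (congrArg (FlatCA.fiberIdeal p) hPq.symm).trans (fiberIdeal_comap p P)]
  exact hP

omit [Algebra R S] [Algebra.FiniteType R S] in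
/-- If an element dies in a flat algebra, its annihilator generates the unit ideal there. -/
theorem map_annihilator_eq_top_of_tmul_eq_zero {S' M : Type u} [CommRing S'] [Algebra S S'] [Module.Flat S S']
    [AddCommGroup M] [Module S M] (z : M) (h : (1 : S') ⊗ₜ[S] z = 0) :
    (Submodule.span S {z}).annihilator.map (algebraMap S S') = ⊤ := by
  let J := (Submodule.span S {z}).annihilator
  let e : S ⧸ J →ₗ[S] M := Submodule.liftQ J (LinearMap.toSpanSingleton S M z)
    fun s hs => (Submodule.mem_annihilator_span_singleton _ _).1 hs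
  have he : Function.Injective e := LinearMap.ker_eq_bot.1 (Submodule.ker_liftQ_eq_bot _ _ _
    fun s hs => (Submodule.mem_annihilator_span_singleton z s).2 hs)
  have h1 : (1 : S') ⊗ₜ[S] (Submodule.Quotient.mk (1 : S) : S ⧸ J) = 0 := by
    apply Module.Flat.lTensor_preserves_injective_linearMap (M := S') e he
    rw [LinearMap.lTensor_tmul, map_zero]
    show (1 : S') ⊗ₜ[S] ((1 : S) • z) = 0
    rw [one_smul, h]
  rw [Ideal.eq_top_iff_one]
  have h2 : (1 : S') ∈ LinearMap.ker (TensorProduct.mk S (S ⧸ J) S' 1) := by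
    rw [LinearMap.mem_ker]
    have h3 := congrArg (TensorProduct.comm S S' (S ⧸ J)) h1
    rw [TensorProduct.comm_tmul, map_zero] at h3
    exact h3
  have h4 := (mem_smul_top_iff_map (A := S) (B := S') J (1 : S')).1
    ((LinearMap.ker_tensorProductMk (R := S) (Q := S') (I := J)).le h2)
  rw [smul_eq_mul, Ideal.mul_top] at h4
  exact h4

end FlatInjLib

namespace FlatInjLib

/-- Base change along a flat algebra meeting every relative associated point is universally injective. -/
theorem univInj_mk_of_hit {R S S' : Type u} [CommRing R] [CommRing S] [CommRing S'] [Algebra R S] [Algebra.FiniteType R S]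
    [Algebra S S'] [Algebra R S'] [IsScalarTower R S S'] [Module.Flat S S'] (N : Type u) [AddCommGroup N] [Module S N]
    [Module R N] [IsScalarTower R S N] [Module.Finite S N] [Module.Flat R N]
    (h : ∀ (p : Ideal R) (q : Ideal S) [p.IsPrime] [q.IsPrime] [q.LiesOver p],
      FlatCA.fiberIdeal p q ∈ associatedPrimes (p.Fiber S) (FlatCA.fiberMod p S N) →
      ∃ q' : Ideal S', q'.IsPrime ∧ q'.comap (algebraMap S S') = q) :
    FlatCA.UnivInj R ((TensorProduct.mk S S' N 1).restrictScalars R) := by
  intro Q _ _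
  rw [LinearMap.lTensor_inj_iff_rTensor_inj]
  refine (injective_iff_map_eq_zero _).2 fun z hz => ?_
  by_contra hz0
  obtain ⟨p, q, _, _, _, hass, hle⟩ := exists_relAss_annihilator_le (S := S) (N := N) Q z hz0
  obtain ⟨q', hq', hq'q⟩ := h p q hass
  have hcomm : ∀ w : N ⊗[R] Q, TensorProduct.AlgebraTensorModule.assoc R S S' S' N Q
      (((TensorProduct.mk S S' N 1).restrictScalars R).rTensor Q w) = (1 : S') ⊗ₜ[S] w := fun w => by
    induction w using TensorProduct.induction_on with
    | zero => simp
    | tmul a b => rfl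
    | add a b ha hb => simp only [map_add, ha, hb, TensorProduct.tmul_add]
  have h1 := map_annihilator_eq_top_of_tmul_eq_zero (S' := S') z (by rw [← hcomm, hz, map_zero])
  refine hq'.ne_top (top_le_iff.1 (h1 ▸ Ideal.map_le_iff_le_comap.2 fun s hs => ?_))
  rw [hq'q]
  exact hle s ((Submodule.mem_annihilator_span_singleton _ _).1 hs)

end FlatInjLib
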