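import Groth.Agent.FlatInjLib.EtaleTransfer
import Mathlib

/-!
# Flatness at a prime from flatness at the primes over it
-/

set_option autoImplicit false
set_option linter.style.haveILetI false

universe u

open scoped TensorProduct

namespace FlatInjLib

variable {R B C : Type u} [CommRing R] [CommRing B] [CommRing C] [Algebra R B] [Algebra R C]
  [Algebra B C] [IsScalarTower R B C] {N : Type u} [AddCommGroup N] [Module C N] [Module B N]
  [IsScalarTower B C N] [Module R N] [IsScalarTower R C N] [IsScalarTower R B N]

/-- Flatness at all the primes over `q` of an integral extension gives flatness at `q`. -/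
theorem flatAt_of_forall_over [Algebra.IsIntegral B C] (q : Ideal B) [q.IsPrime]
    (h : ∀ (Q : Ideal C) [Q.IsPrime], Q.LiesOver q → FlatCA.FlatAt R Q N) :
    FlatCA.FlatAt R q N := by
  refine Module.Flat.iff_lTensor_injective.2 fun I _ => ?_
  refine (injective_iff_map_eq_zero _).2 fun w hw => ?_
  let ℓ := LocalizedModule.mkLinearMap q.primeCompl N
  let ℓI := TensorProduct.AlgebraTensorModule.rTensor R I ℓ
  obtain ⟨⟨z, c⟩, hzc⟩ := IsLocalizedModule.surj q.primeCompl ℓI w
  have hnat : ∀ y, I.subtype.lTensor _ (ℓI y) =
      TensorProduct.AlgebraTensorModule.rTensor R R ℓ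
        (TensorProduct.AlgebraTensorModule.lTensor B N I.subtype y) := fun y => by
    induction y using TensorProduct.induction_on with
    | zero => simp
    | tmul a b => rfl
    | add a b ha hb => simp only [map_add, ha, hb]
  have h1 : TensorProduct.AlgebraTensorModule.rTensor R R ℓ
      (TensorProduct.AlgebraTensorModule.lTensor B N I.subtype z) = 0 := by
    rw [← hnat, ← hzc]
    show TensorProduct.AlgebraTensorModule.lTensor B _ I.subtype ((c : B) • w) = 0
    rw [map_smul]
    exact (congrArg _ hw).trans (smul_zero _)
  obtain ⟨c', hc'⟩ := (IsLocalizedModule.eq_zero_iff q.primeCompl _).1 h1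
  rw [Submonoid.smul_def, ← map_smul] at hc'
  let J : Ideal C := (Submodule.span C {(c' : B) • z}).annihilator
  obtain ⟨d, hdq, hd⟩ : ∃ d : B, d ∉ q ∧ algebraMap B C d ∈ J := by
    by_contra hno
    have hle : J.comap (algebraMap B C) ≤ q := fun d hd => by
      by_contra hdq
      exact hno ⟨d, hdq, hd⟩
    obtain ⟨Q, hQ1, hQ2, hQ3⟩ := Ideal.exists_ideal_over_prime_of_isIntegral q J hle
    haveI := hQ2
    haveI : Module.Flat R (LocalizedModule Q.primeCompl N) := h Q ⟨hQ3.symm⟩
    let k := LocalizedModule.mkLinearMap Q.primeCompl N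
    have h2 : TensorProduct.AlgebraTensorModule.rTensor R I k ((c' : B) • z) = 0 := by
      apply Module.Flat.lTensor_preserves_injective_linearMap (M := LocalizedModule Q.primeCompl N)
        I.subtype I.injective_subtype
      rw [map_zero]
      have : ∀ y, I.subtype.lTensor _ (TensorProduct.AlgebraTensorModule.rTensor R I k y) =
          TensorProduct.AlgebraTensorModule.rTensor R R k
            (TensorProduct.AlgebraTensorModule.lTensor B N I.subtype y) := fun y => by
        induction y using TensorProduct.induction_on with
        | zero => simp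
        | tmul a b => rfl
        | add a b ha hb => simp only [map_add, ha, hb]
      rw [this, hc', map_zero]
    obtain ⟨s, hs⟩ := (IsLocalizedModule.eq_zero_iff Q.primeCompl _).1 h2
    exact s.2 (hQ1 ((Submodule.mem_annihilator_span_singleton _ _).2 hs))
  have h3 := (Submodule.mem_annihilator_span_singleton _ _).1 hd
  rw [algebraMap_smul] at h3
  have hzero : ℓI z = 0 := by
    rw [IsLocalizedModule.eq_zero_iff q.primeCompl ℓI]
    refine ⟨⟨d * (c' : B), Ideal.IsPrime.mul_notMem inferInstance hdq c'.2⟩, ?_⟩
    rw [Submonoid.smul_def, mul_smul]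
    exact h3
  exact (Module.End.isUnit_iff _).1 (IsLocalizedModule.map_units ℓI c) |>.1
    ((hzc.trans hzero).trans (map_zero _).symm)

/-- Flatness at `q` gives flatness at the primes over it. -/
theorem flatAt_over_of_flatAt (q : Ideal B) [q.IsPrime] (Q : Ideal C) [Q.IsPrime] [Q.LiesOver q]
    (h : FlatCA.FlatAt R q N) : FlatCA.FlatAt R Q N := by
  let T : Submonoid C := Algebra.algebraMapSubmonoid C q.primeCompl
  haveI : IsLocalizedModule q.primeCompl ((LocalizedModule.mkLinearMap T N).restrictScalars B) :=
    IsLocalizedModule.restrictScalars _ _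
  haveI : Module.Flat R (LocalizedModule T N) := by
    haveI : Module.Flat R (LocalizedModule q.primeCompl N) := h
    exact Module.Flat.of_linearEquiv ((IsLocalizedModule.iso q.primeCompl
      ((LocalizedModule.mkLinearMap T N).restrictScalars B)).restrictScalars R).symm
  exact flat_of_isLocalizedModule Q.primeCompl (IsLocalizedModule.liftOfLE T Q.primeCompl
    (by rintro _ ⟨b, hb, rfl⟩ hQ; exact hb ((Ideal.over_def Q q).symm ▸ (hQ : b ∈ Q.under B)))
    (LocalizedModule.mkLinearMap T N) (LocalizedModule.mkLinearMap Q.primeCompl N))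

end FlatInjLib
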