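import Groth.Agent.AdicRingLib.Completion
import Mathlib

/-!
# A flat local extension receiving a complete Noetherian local ring
-/

set_option autoImplicit false

universe u

open IsLocalRing
open scoped TensorProduct

namespace FlatInjLib

/-- Given a local map from a Noetherian local ring `R₀`, there is a flat local extension of the target
with the same residue field receiving a map from the completion of `R₀`. -/
theorem exists_complete_extension (A R₀ : Type u) [CommRing A] [IsLocalRing A] [CommRing R₀] [IsLocalRing R₀]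
    [IsNoetherianRing R₀] (ι : R₀ →+* A) [IsLocalHom ι] :
    ∃ (R A' : Type u) (_ : CommRing R) (_ : IsLocalRing R) (_ : IsNoetherianRing R) (_ : CommRing A')
      (_ : IsLocalRing A') (_ : Algebra A A') (_ : Algebra R A') (c : R₀ →+* R),
      IsAdicComplete (maximalIdeal R) R ∧ IsLocalHom c ∧ (∀ r : R, ∃ r₀, r - c r₀ ∈ maximalIdeal R) ∧
      IsLocalHom (algebraMap R A') ∧ Module.Flat A A' ∧ (∀ x, algebraMap R A' (c x) = algebraMap A A' (ι x)) ∧
      maximalIdeal A' = (maximalIdeal A).map (algebraMap A A') ∧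
      ∀ a' : A', ∃ a : A, a' - algebraMap A A' a ∈ maximalIdeal A' := by
  classical
  letI : Algebra R₀ A := ι.toAlgebra
  haveI : IsLocalHom (algebraMap R₀ A) := ‹IsLocalHom ι›
  let R := AdicCompletion (maximalIdeal R₀) R₀
  haveI : IsNoetherianRing R := AdicRingLib.isNoetherianRing_adicCompletion _
  have hres := AdicCompletion.residueField_map_bijective R₀
  have hsurj : ∀ r : R, ∃ r₀, r - algebraMap R₀ R r₀ ∈ maximalIdeal R := fun r => by
    obtain ⟨x, hx⟩ := hres.2 (residue R r)
    obtain ⟨r₀, rfl⟩ := residue_surjective x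
    refine ⟨r₀, Ideal.Quotient.eq.1 ?_⟩
    exact hx.symm.trans (ResidueField.map_residue _ _)
  let e := RingEquiv.ofBijective _ hres
  let k := ResidueField A
  let ρ : R →+* k := (ResidueField.map (algebraMap R₀ A)).comp (e.symm.toRingHom.comp (residue R))
  have hρ : ∀ x, ρ (algebraMap R₀ R x) = residue A (algebraMap R₀ A x) := fun x => by
    show ResidueField.map (algebraMap R₀ A) (e.symm (residue R (algebraMap R₀ R x))) = _
    rw [show residue R (algebraMap R₀ R x) = e (residue R₀ x) from (ResidueField.map_residue _ x).symm,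
      RingEquiv.symm_apply_apply, ResidueField.map_residue]
  let ρa : R →ₐ[R₀] k := { ρ with commutes' := hρ }
  let E := A ⊗[R₀] R
  let ε : E →ₐ[R₀] k := Algebra.TensorProduct.lift (IsScalarTower.toAlgHom R₀ A k) ρa fun _ _ => Commute.all _ _
  have hεA : ∀ a, ε (algebraMap A E a) = residue A a := fun a => by
    show ε (a ⊗ₜ 1) = _
    rw [Algebra.TensorProduct.lift_tmul, map_one, mul_one]
    rfl
  let mE : Ideal E := RingHom.ker ε.toRingHom
  haveI : mE.IsPrime := RingHom.ker_isPrime _
  let mA : Ideal E := (maximalIdeal A).map (algebraMap A E)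
  have hmod : ∀ z : E, ∃ a : A, z - algebraMap A E a ∈ mA := fun z => by
    induction z using TensorProduct.induction_on with
    | zero => exact ⟨0, by rw [map_zero, sub_zero]; exact zero_mem _⟩
    | tmul a r =>
      obtain ⟨r₀, hr⟩ := hsurj r
      refine ⟨a * algebraMap R₀ A r₀, ?_⟩
      have h1 : (a ⊗ₜ[R₀] r : E) - algebraMap A E (a * algebraMap R₀ A r₀) =
          (a ⊗ₜ[R₀] (1 : R)) * ((1 : A) ⊗ₜ[R₀] (r - algebraMap R₀ R r₀)) := by
        rw [Algebra.TensorProduct.tmul_mul_tmul, mul_one, one_mul, TensorProduct.tmul_sub]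
        congr 1
        show (a * algebraMap R₀ A r₀) ⊗ₜ[R₀] (1 : R) = a ⊗ₜ[R₀] algebraMap R₀ R r₀
        rw [mul_comm, ← Algebra.smul_def, TensorProduct.smul_tmul, Algebra.algebraMap_eq_smul_one]
      rw [h1]
      refine Ideal.mul_mem_left _ _ ?_
      have h2 : (maximalIdeal R).map (Algebra.TensorProduct.includeRight (R := R₀) (A := A) (B := R)).toRingHom ≤ mA := by
        rw [AdicCompletion.maximalIdeal_eq_map, Ideal.map_map, Ideal.map_le_iff_le_comap]
        intro x hx
        show Algebra.TensorProduct.includeRight (R := R₀) (A := A) (B := R) (algebraMap R₀ R x) ∈ mA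
        rw [AlgHom.commutes, IsScalarTower.algebraMap_apply R₀ A E]
        exact Ideal.mem_map_of_mem _ (map_nonunit _ _ hx)
      exact h2 (Ideal.mem_map_of_mem _ hr)
    | add x y hx hy =>
      obtain ⟨a, ha⟩ := hx
      obtain ⟨b, hb⟩ := hy
      exact ⟨a + b, by rw [map_add, add_sub_add_comm]; exact add_mem ha hb⟩
  have hmA : mA = mE := by
    refine le_antisymm (Ideal.map_le_iff_le_comap.2 fun a ha => ?_) fun z hz => ?_
    · show ε (algebraMap A E a) = 0
      rw [hεA, residue_eq_zero_iff]
      exact ha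
    · obtain ⟨a, ha⟩ := hmod z
      have h1 : mA ≤ mE := Ideal.map_le_iff_le_comap.2 fun b hb => by
        show ε (algebraMap A E b) = 0
        rw [hεA, residue_eq_zero_iff]
        exact hb
      have h2 : ε (algebraMap A E a) = 0 := by
        have := sub_mem hz (h1 ha)
        rwa [sub_sub_cancel] at this
      rw [hεA, residue_eq_zero_iff] at h2
      rw [← sub_add_cancel z (algebraMap A E a)]
      exact add_mem ha (Ideal.mem_map_of_mem _ h2)
  let A' := Localization.AtPrime mE
  letI : Algebra R A' := ((algebraMap E A').comp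
    (Algebra.TensorProduct.includeRight (R := R₀) (A := A) (B := R)).toRingHom).toAlgebra
  have hmax : maximalIdeal A' = (maximalIdeal A).map (algebraMap A A') := by
    rw [← Localization.AtPrime.map_eq_maximalIdeal (I := mE)]
    refine (congrArg (Ideal.map (algebraMap E A')) hmA.symm).trans ?_
    rw [Ideal.map_map]
    rfl
  refine ⟨R, A', inferInstance, inferInstance, inferInstance, inferInstance, inferInstance, inferInstance, inferInstance,
    algebraMap R₀ R, inferInstance, inferInstance, hsurj, ⟨fun r hr => ?_⟩, ?_, fun x => ?_, hmax, fun a' => ?_⟩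
  · by_contra h
    obtain ⟨r₀, hr₀⟩ := hsurj r
    have h1 : ρ r = 0 := by
      show ResidueField.map (algebraMap R₀ A) (e.symm (residue R r)) = 0
      rw [(residue_eq_zero_iff _).2 ((mem_maximalIdeal _).2 h), map_zero, map_zero]
    have h2 : (1 : A) ⊗ₜ[R₀] r ∈ mE := by
      show ε ((1 : A) ⊗ₜ[R₀] r) = 0
      rw [Algebra.TensorProduct.lift_tmul, map_one, one_mul]
      exact h1
    exact (mem_maximalIdeal _).1
      ((Localization.AtPrime.map_eq_maximalIdeal (I := mE)).le (Ideal.mem_map_of_mem _ h2)) hr
  · haveI : Module.Flat A E := inferInstance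
    haveI : Module.Flat E A' := IsLocalization.flat A' mE.primeCompl
    exact Module.Flat.trans A E A'
  · show algebraMap E A' ((1 : A) ⊗ₜ[R₀] algebraMap R₀ R x) = algebraMap A A' (algebraMap R₀ A x)
    rw [show ((1 : A) ⊗ₜ[R₀] algebraMap R₀ R x : E) = algebraMap A E (algebraMap R₀ A x) from
      (AlgHom.commutes Algebra.TensorProduct.includeRight x).trans (IsScalarTower.algebraMap_apply R₀ A E x),
      ← IsScalarTower.algebraMap_apply]
  · obtain ⟨z, s, rfl⟩ := IsLocalization.exists_mk'_eq mE.primeCompl a'
    obtain ⟨a, ha⟩ := hmod z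
    obtain ⟨b, hb⟩ := hmod s
    rw [hmA] at ha hb
    have hb' : IsUnit b := IsLocalRing.notMem_maximalIdeal.1 fun hbm => s.2 (by
      rw [← sub_add_cancel (s : E) (algebraMap A E b)]
      exact add_mem hb (hmA.le (Ideal.mem_map_of_mem _ hbm)))
    refine ⟨a * ↑hb'.unit⁻¹, ?_⟩
    have hu : IsUnit (algebraMap E A' s) := IsLocalization.map_units _ s
    refine (Ideal.mul_unit_mem_iff_mem _ hu).1 ?_
    have e1 : (IsLocalization.mk' A' z s - algebraMap A A' (a * ↑hb'.unit⁻¹)) * algebraMap E A' s =
        algebraMap E A' ((z - algebraMap A E a) - algebraMap A E (a * ↑hb'.unit⁻¹) * (s - algebraMap A E b)) := by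
      refine (sub_mul (α := A') _ _ _).trans ?_
      rw [IsLocalization.mk'_spec, IsScalarTower.algebraMap_apply A E A', ← map_mul]
      refine (map_sub (algebraMap E A') _ _).symm.trans ?_
      congr 1
      rw [mul_sub, ← map_mul (algebraMap A E) _ b, mul_assoc a, IsUnit.val_inv_mul, mul_one]
      ring
    rw [e1, ← Localization.AtPrime.map_eq_maximalIdeal]
    exact Ideal.mem_map_of_mem _ (sub_mem ha (Ideal.mul_mem_left _ _ hb))

end FlatInjLib
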