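import Mathlib

/-!
# Preparations for the injectivity criterion: presentations, descent of coefficients, functionals
-/

set_option autoImplicit false

universe u

open IsLocalRing

namespace FlatInjLib

/-- An essentially finite type algebra is a localisation of a polynomial ring, up to units. -/
theorem exists_presentation (A B : Type u) [CommRing A] [CommRing B] [Algebra A B] [Algebra.EssFiniteType A B] :
    ∃ (d : ℕ) (π : MvPolynomial (Fin d) A →ₐ[A] B), ∀ b : B, ∃ t f, IsUnit (π t) ∧ π t * b = π f := by
  obtain ⟨d, σ, hσ⟩ := Algebra.FiniteType.iff_quotient_mvPolynomial''.1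
    (inferInstance : Algebra.FiniteType A (Algebra.EssFiniteType.subalgebra A B))
  refine ⟨d, (Algebra.EssFiniteType.subalgebra A B).val.comp σ, fun b => ?_⟩
  obtain ⟨⟨f, t⟩, hft⟩ := IsLocalization.surj (Algebra.EssFiniteType.submonoid A B) b
  obtain ⟨f', rfl⟩ := hσ f
  obtain ⟨t', ht'⟩ := hσ t
  have ht : IsUnit (algebraMap (Algebra.EssFiniteType.subalgebra A B) B t) := IsLocalization.map_units B t
  refine ⟨t', f', ?_, ?_⟩
  · show IsUnit (algebraMap (Algebra.EssFiniteType.subalgebra A B) B (σ t'))
    rw [ht']
    exact ht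
  · show algebraMap (Algebra.EssFiniteType.subalgebra A B) B (σ t') * b =
      algebraMap (Algebra.EssFiniteType.subalgebra A B) B (σ f')
    rw [ht', mul_comm]
    exact hft

/-- Finitely many elements of a local ring come from a Noetherian local ring. -/
theorem exists_noetherian_subring (A : Type u) [CommRing A] [IsLocalRing A] (s : Set A) (hs : s.Finite) :
    ∃ (R₀ : Type u) (_ : CommRing R₀) (_ : IsLocalRing R₀) (_ : IsNoetherianRing R₀) (ι : R₀ →+* A),
      IsLocalHom ι ∧ s ⊆ Set.range ι := by
  let S₀ := Algebra.adjoin ℤ s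
  haveI : Algebra.FiniteType ℤ S₀ := (Subalgebra.fg_iff_finiteType _).1 (Subalgebra.fg_def.2 ⟨s, hs, rfl⟩)
  haveI : IsNoetherianRing S₀ := Algebra.FiniteType.isNoetherianRing ℤ S₀
  let p : Ideal S₀ := (maximalIdeal A).comap S₀.val.toRingHom
  haveI : p.IsPrime := Ideal.IsPrime.comap _
  let ι : Localization.AtPrime p →+* A := IsLocalization.lift (M := p.primeCompl) (g := S₀.val.toRingHom)
    fun x => not_not.1 fun h => x.2 ((mem_maximalIdeal _).2 h)
  refine ⟨Localization.AtPrime p, inferInstance, inferInstance, IsLocalization.isNoetherianRing p.primeCompl _ inferInstance,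
    ι, ⟨fun a ha => ?_⟩, fun x hx => ⟨algebraMap S₀ _ ⟨x, Algebra.subset_adjoin hx⟩, IsLocalization.lift_eq _ _⟩⟩
  obtain ⟨x, t, rfl⟩ := IsLocalization.exists_mk'_eq p.primeCompl a
  refine IsLocalization.AtPrime.isUnit_mk'_iff (Localization.AtPrime p) p x t |>.2 fun hx => ?_
  have h1 : ι (IsLocalization.mk' (Localization.AtPrime p) x t) * ι (algebraMap S₀ _ t) = S₀.val.toRingHom x := by
    rw [← map_mul, IsLocalization.mk'_spec, IsLocalization.lift_eq]
  refine (mem_maximalIdeal _).1 hx ?_
  rw [← h1, IsLocalization.lift_eq]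
  exact ha.mul (not_not.1 fun h => t.2 ((mem_maximalIdeal _).2 h))

/-- Polynomials with coefficients in the image of a ring map. -/
theorem exists_map_eq {R S σ : Type*} [CommRing R] [CommRing S] (ι : R →+* S) (f : MvPolynomial σ S)
    (h : ∀ d ∈ f.support, f.coeff d ∈ Set.range ι) : ∃ g, MvPolynomial.map ι g = f := by
  classical
  choose c hc using h
  refine ⟨∑ d ∈ f.support.attach, MvPolynomial.monomial d.1 (c d.1 d.2), ?_⟩
  rw [map_sum]
  conv_rhs => rw [f.as_sum, ← Finset.sum_attach]
  exact Finset.sum_congr rfl fun d _ => by rw [MvPolynomial.map_monomial, hc]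

/-- Modulo an ideal with residues coming from a subring, polynomials come from the subring. -/
theorem exists_sub_mem_map {R₀ R σ : Type*} [CommRing R₀] [CommRing R] (ι : R₀ →+* R) (J : Ideal R)
    (h : ∀ r, ∃ r₀, r - ι r₀ ∈ J) (f : MvPolynomial σ R) :
    ∃ g, f - MvPolynomial.map ι g ∈ J.map (MvPolynomial.C : R →+* MvPolynomial σ R) := by
  choose c hc using h
  refine ⟨∑ d ∈ f.support, MvPolynomial.monomial d (c (f.coeff d)), ?_⟩
  rw [map_sum]
  have e : f - ∑ d ∈ f.support, MvPolynomial.map ι (MvPolynomial.monomial d (c (f.coeff d))) =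
      ∑ d ∈ f.support, (MvPolynomial.monomial d (f.coeff d) - MvPolynomial.map ι (MvPolynomial.monomial d (c (f.coeff d)))) := by
    rw [Finset.sum_sub_distrib, ← f.as_sum]
  rw [e]
  refine sum_mem fun d _ => ?_
  rw [MvPolynomial.map_monomial, ← map_sub, ← mul_one (f.coeff d - _), ← MvPolynomial.C_mul_monomial]
  exact Ideal.mul_mem_right _ _ (Ideal.mem_map_of_mem _ (hc _))

/-- Linear independence modulo a submodule of polynomial vectors is preserved by extension of the field. -/
theorem coeff_eq_zero_of_mem_span {k₀ k : Type u} {σ : Type*} [Field k₀] [Field k] (ι : k₀ →+* k) {r μ : ℕ}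
    (U : Submodule (MvPolynomial σ k₀) (Fin r → MvPolynomial σ k₀)) (v : Fin μ → Fin r → MvPolynomial σ k₀)
    (hv : ∀ c : Fin μ → k₀, (∑ i, (MvPolynomial.C (c i) : MvPolynomial σ k₀) • v i) ∈ U → c = 0) (a : Fin μ → k)
    (ha : (∑ i, (MvPolynomial.C (a i) : MvPolynomial σ k) • fun j => MvPolynomial.map ι (v i j)) ∈
      Submodule.span (MvPolynomial σ k)
        ((fun w : Fin r → MvPolynomial σ k₀ => fun j => MvPolynomial.map ι (w j)) '' U)) : a = 0 := by
  classical
  let mp : (Fin r → MvPolynomial σ k₀) → (Fin r → MvPolynomial σ k) := fun w j => MvPolynomial.map ι (w j)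
  let U₀ := U.restrictScalars k₀
  let q : (Fin μ → k₀) →ₗ[k₀] (Fin r → MvPolynomial σ k₀) ⧸ U₀ :=
    U₀.mkQ.comp (Fintype.linearCombination k₀ v)
  have hq : LinearMap.ker q = ⊥ := by
    refine LinearMap.ker_eq_bot'.2 fun c hc => hv c ?_
    have h1 : Fintype.linearCombination k₀ v c ∈ U₀ := (Submodule.Quotient.mk_eq_zero _).1 hc
    rw [Fintype.linearCombination_apply] at h1
    rw [show (∑ i, (MvPolynomial.C (c i) : MvPolynomial σ k₀) • v i) = ∑ i, c i • v i from
      Finset.sum_congr rfl fun i _ => funext fun j => (MvPolynomial.smul_eq_C_mul _ _).symm]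
    exact h1
  obtain ⟨p, hp⟩ := LinearMap.exists_leftInverse_of_injective q hq
  let lam : (Fin r → MvPolynomial σ k₀) →ₗ[k₀] (Fin μ → k₀) := p.comp U₀.mkQ
  have hlamU : ∀ w ∈ U, lam w = 0 := fun w hw => by
    show p (U₀.mkQ w) = 0
    rw [show U₀.mkQ w = 0 from (Submodule.Quotient.mk_eq_zero _).2 hw, map_zero]
  have hlamv : ∀ i, lam (v i) = Pi.single i 1 := fun i => by
    have h1 := LinearMap.congr_fun hp (Pi.single i 1)
    rw [LinearMap.comp_apply, LinearMap.comp_apply, Fintype.linearCombination_apply_single, one_smul] at h1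
    exact h1
  let Lam : (Fin r → MvPolynomial σ k) →ₗ[k] (Fin μ → k) :=
    ∑ j, ((MvPolynomial.basisMonomials σ k).constr k
      (fun d => fun i => ι (lam (Pi.single j (MvPolynomial.monomial d 1)) i))).comp (LinearMap.proj j)
  have hLam : ∀ w, Lam (mp w) = fun i => ι (lam w i) := fun w => by
    have hw : w = ∑ j, Pi.single j (w j) := (Finset.univ_sum_single w).symm
    conv_rhs => rw [hw]
    funext i
    rw [map_sum, Finset.sum_apply, map_sum]
    simp only [Lam, LinearMap.coe_sum, Finset.sum_apply, LinearMap.comp_apply, LinearMap.proj_apply]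
    refine Finset.sum_congr rfl fun j _ => ?_
    show _ = _
    dsimp only [mp]
    induction w j using MvPolynomial.induction_on' with
    | monomial d c =>
      have e1 : MvPolynomial.monomial d (ι c) = ι c • MvPolynomial.basisMonomials σ k d := by
        simp [MvPolynomial.smul_monomial]
      have e2 : Pi.single j (MvPolynomial.monomial d c) =
          c • (Pi.single j (MvPolynomial.monomial d 1) : Fin r → MvPolynomial σ k₀) := by
        rw [← Pi.single_smul', MvPolynomial.smul_monomial, smul_eq_mul, mul_one]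
      simp only [MvPolynomial.map_monomial]
      rw [e1, map_smul, Module.Basis.constr_basis, e2, map_smul]
      simp
    | add f g hf hg => simp only [map_add, Pi.add_apply, Pi.single_add, hf, hg]
  have hzero : ∀ G ∈ Submodule.span (MvPolynomial σ k) (mp '' U), ∀ f : MvPolynomial σ k, Lam (f • G) = 0 := by
    intro G hG
    induction hG using Submodule.span_induction with
    | mem G hG =>
      obtain ⟨w, hw, rfl⟩ := hG
      intro f
      induction f using MvPolynomial.induction_on' with
      | monomial d c =>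
        have e : MvPolynomial.monomial d c • mp w = c • mp (MvPolynomial.monomial d (1 : k₀) • w) := by
          funext j
          simp only [mp, Pi.smul_apply, smul_eq_mul, map_mul, MvPolynomial.map_monomial, map_one, ← smul_mul_assoc,
            MvPolynomial.smul_monomial, mul_one]
        rw [e, map_smul, hLam, hlamU _ (U.smul_mem _ hw)]
        funext i
        simp
      | add f g hf hg => rw [add_smul, map_add, hf, hg, add_zero]
    | zero => intro f; rw [smul_zero, map_zero]
    | add x y _ _ hx hy => intro f; rw [smul_add, map_add, hx, hy, add_zero]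
    | smul b x _ hx => intro f; rw [← mul_smul, hx]
  have h := hzero _ ha 1
  rw [one_smul, map_sum] at h
  funext i
  have h2 := congrFun h i
  rw [Finset.sum_apply] at h2
  rw [← h2, Finset.sum_eq_single i]
  · rw [show MvPolynomial.C (a i) • mp (v i) = a i • mp (v i) from
      funext fun j => (MvPolynomial.smul_eq_C_mul _ _).symm, map_smul, hLam, hlamv]
    simp
  · intro l _ hl
    rw [show MvPolynomial.C (a l) • mp (v l) = a l • mp (v l) from
      funext fun j => (MvPolynomial.smul_eq_C_mul _ _).symm, map_smul, hLam, hlamv]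
    simp [Pi.single_eq_of_ne (Ne.symm hl)]
  · simp

end FlatInjLib
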