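import Groth.Agent.FlatInjLib.Core
import Groth.Agent.FlatInjLib.Prep
import Groth.Agent.FlatInjLib.BaseChange
import Groth.Agent.FlatLib.Local
import Mathlib

/-!
# Maps into flat modules which are injective modulo the maximal ideal
-/

set_option autoImplicit false
set_option linter.style.haveILetI false

universe u

open IsLocalRing
open scoped TensorProduct

namespace FlatInjLib

attribute [local instance] Algebra.TensorProduct.rightAlgebra

/-- A vector with components in an extended ideal. -/
theorem mem_smul_top_of_components {P N : Type*} [CommRing P] [AddCommGroup N] [Module P N] {r : ℕ} (J : Ideal P)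
    (g : (Fin r → P) →ₗ[P] N) (v : Fin r → P) (hv : ∀ j, v j ∈ J) : g v ∈ J • (⊤ : Submodule P N) := by
  classical
  rw [show v = ∑ j, v j • (Pi.single j 1 : Fin r → P) from pi_eq_sum_univ' v, map_sum]
  exact sum_mem fun j _ => by rw [map_smul]; exact Submodule.smul_mem_smul (hv j) trivial

/-- Local extension `B'` of `B` over `A'`. -/
theorem exists_local_extension {A A' B : Type u} [CommRing A] [CommRing A'] [CommRing B] [IsLocalRing A]
    [IsLocalRing A'] [IsLocalRing B] [Algebra A A'] [Algebra A B] [Module.Flat A A'] [IsLocalHom (algebraMap A B)]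
    (hmax : maximalIdeal A' = (maximalIdeal A).map (algebraMap A A'))
    (hres : ∀ a' : A', ∃ a : A, a' - algebraMap A A' a ∈ maximalIdeal A') :
    ∃ (B' : Type u) (_ : CommRing B') (_ : IsLocalRing B') (_ : Algebra A' B') (_ : Algebra B B') (_ : Algebra A B')
      (_ : IsScalarTower A A' B') (_ : IsScalarTower A B B') (_ : SMulCommClass B A' B'),
      IsLocalHom (algebraMap A' B') ∧ Module.FaithfullyFlat B B' ∧
      ∀ (M : Type u) [AddCommGroup M] [Module B M] [Module A M] [IsScalarTower A B M] [Module.Flat A M],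
        Module.Flat A' (B' ⊗[B] M) := by
  classical
  let C := A' ⊗[A] B
  let kB := ResidueField B
  have hloc : maximalIdeal A ≤ RingHom.ker ((residue B).comp (algebraMap A B)) := fun a ha =>
    (residue_eq_zero_iff _).2 (map_nonunit _ _ ha)
  -- the residue map of `A'` to that of `B`
  choose c hc using hres
  have hcu : ∀ a' a, a' - algebraMap A A' a ∈ maximalIdeal A' →
      residue B (algebraMap A B (c a')) = residue B (algebraMap A B a) := fun a' a h => by
    rw [← sub_eq_zero, ← map_sub, ← map_sub]
    refine hloc ?_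
    by_contra hn
    have hu := ((IsLocalRing.notMem_maximalIdeal.1 hn).map (algebraMap A A'))
    rw [map_sub] at hu
    have := sub_mem h (hc a')
    rw [sub_sub_sub_cancel_left] at this
    exact (mem_maximalIdeal _).1 this hu
  let ρ : A' →ₐ[A] kB :=
    { toFun := fun a' => residue B (algebraMap A B (c a'))
      map_one' := (hcu 1 1 (by rw [map_one, sub_self]; exact zero_mem _)).trans (by rw [map_one, map_one])
      map_mul' := fun x y => by
        rw [hcu (x * y) (c x * c y) ?_, map_mul, map_mul]
        rw [map_mul, show x * y - algebraMap A A' (c x) * algebraMap A A' (c y) =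
          (x - algebraMap A A' (c x)) * y + algebraMap A A' (c x) * (y - algebraMap A A' (c y)) by ring]
        exact add_mem (Ideal.mul_mem_right _ _ (hc x)) (Ideal.mul_mem_left _ _ (hc y))
      map_zero' := (hcu 0 0 (by rw [map_zero, sub_self]; exact zero_mem _)).trans (by rw [map_zero, map_zero])
      map_add' := fun x y => by
        rw [hcu (x + y) (c x + c y) ?_, map_add, map_add]
        rw [map_add, add_sub_add_comm]
        exact add_mem (hc x) (hc y)
      commutes' := fun a => hcu (algebraMap A A' a) a (by rw [sub_self]; exact zero_mem _) }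
  let ε : C →ₐ[A] kB := Algebra.TensorProduct.lift ρ (IsScalarTower.toAlgHom A B kB) fun _ _ => Commute.all _ _
  let q : Ideal C := RingHom.ker ε.toRingHom
  haveI : q.IsPrime := RingHom.ker_isPrime _
  let B' := Localization.AtPrime q
  haveI : Module.Flat B C :=
    Module.Flat.isBaseChange (R := A) (M := A') B C (Algebra.IsPushout.out (R := A) (S := B) (R' := A') (S' := C))
  haveI : Module.Flat C B' := IsLocalization.flat B' q.primeCompl
  haveI : Module.Flat B B' := Module.Flat.trans B C B'
  haveI : IsLocalHom (algebraMap B B') := ⟨fun b hb => by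
    by_contra h
    have h1 : algebraMap B C b ∈ q := by
      show ε ((1 : A') ⊗ₜ[A] b) = 0
      rw [Algebra.TensorProduct.lift_tmul, map_one, one_mul]
      exact (residue_eq_zero_iff _).2 ((mem_maximalIdeal _).2 h)
    have h2 : algebraMap B B' b ∈ maximalIdeal B' := by
      rw [IsScalarTower.algebraMap_apply B C B', ← Localization.AtPrime.map_eq_maximalIdeal]
      exact Ideal.mem_map_of_mem _ h1
    exact (mem_maximalIdeal _).1 h2 hb⟩
  refine ⟨B', inferInstance, inferInstance, inferInstance, inferInstance, inferInstance, inferInstance, inferInstance,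
    inferInstance, ⟨fun a' ha' => ?_⟩, Module.FaithfullyFlat.of_flat_of_isLocalHom, fun M _ _ _ _ _ => ?_⟩
  · by_contra h
    have h1 : algebraMap A' C a' ∈ q := by
      show ε (a' ⊗ₜ[A] (1 : B)) = 0
      rw [Algebra.TensorProduct.lift_tmul, map_one, mul_one]
      show residue B (algebraMap A B (c a')) = 0
      refine hloc ?_
      by_contra hn
      have hu := (IsLocalRing.notMem_maximalIdeal.1 hn).map (algebraMap A A')
      refine (mem_maximalIdeal _).1 ?_ hu
      have := sub_mem ((mem_maximalIdeal _).2 h) (hc a')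
      rwa [sub_sub_cancel] at this
    have h2 : algebraMap A' B' a' ∈ maximalIdeal B' := by
      rw [IsScalarTower.algebraMap_apply A' C B', ← Localization.AtPrime.map_eq_maximalIdeal]
      exact Ideal.mem_map_of_mem _ h1
    exact (mem_maximalIdeal _).1 h2 ha'
  · haveI : Module.Flat A' (C ⊗[B] M) :=
      Module.Flat.of_linearEquiv (Algebra.IsPushout.cancelBaseChange A A' B C M)
    let φ : C ⊗[B] M →ₗ[C] B' ⊗[B] M :=
      TensorProduct.AlgebraTensorModule.rTensor B M (Algebra.linearMap C B')
    exact FlatLib.flat_localized (R := A') (S := C) (M := C ⊗[B] M) (M' := B' ⊗[B] M) q.primeCompl φ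

theorem mem_smul_top_iff_map {A B N : Type*} [CommRing A] [CommRing B] [Algebra A B] [AddCommGroup N] [Module B N]
    [Module A N] [IsScalarTower A B N] (J : Ideal A) (x : N) :
    x ∈ J • (⊤ : Submodule A N) ↔ x ∈ J.map (algebraMap A B) • (⊤ : Submodule B N) := by
  rw [← Submodule.restrictScalars_mem A (J.map (algebraMap A B) • (⊤ : Submodule B N)) x,
    Ideal.smul_restrictScalars, Submodule.restrictScalars_top]

/-- Descent of a congruence along a faithfully flat extension. -/
theorem sum_smul_mem_of_congr {A A' B B' M : Type u} [CommRing A] [CommRing A'] [CommRing B] [CommRing B']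
    [Algebra A A'] [Algebra A B] [Algebra A' B'] [Algebra B B'] [Algebra A B'] [IsScalarTower A A' B']
    [IsScalarTower A B B'] [SMulCommClass B A' B'] [Module.FaithfullyFlat B B']
    [AddCommGroup M] [Module B M] [Module A M] [IsScalarTower A B M] (mA : Ideal A) {ι : Type} (S : Finset ι)
    (c' : ι → A') (a : ι → A) (hca : ∀ i, c' i - algebraMap A A' (a i) ∈ mA.map (algebraMap A A'))
    (v : ι → B' ⊗[B] M) (w : B') (m : ι → M)
    (hm : ∀ i, w • v i - (1 : B') ⊗ₜ[B] m i ∈ mA.map (algebraMap A B') • (⊤ : Submodule B' (B' ⊗[B] M)))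
    (hsum : ∑ i ∈ S, c' i • v i ∈ mA.map (algebraMap A A') • (⊤ : Submodule A' (B' ⊗[B] M))) :
    ∑ i ∈ S, a i • m i ∈ mA • (⊤ : Submodule A M) := by
  classical
  let I : Submodule B' (B' ⊗[B] M) := mA.map (algebraMap A B') • ⊤
  have h1 : ∀ x, x ∈ mA.map (algebraMap A A') • (⊤ : Submodule A' (B' ⊗[B] M)) → x ∈ I := fun x hx => by
    have h := (mem_smul_top_iff_map (B := B') (mA.map (algebraMap A A')) x).1 hx
    rwa [Ideal.map_map, ← IsScalarTower.algebraMap_eq] at h
  have h2 : ∑ i ∈ S, algebraMap A B' (a i) • v i ∈ I := by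
    have h := h1 _ (sub_mem hsum (sum_mem fun i _ => Submodule.smul_mem_smul (hca i) Submodule.mem_top :
      ∑ i ∈ S, (c' i - algebraMap A A' (a i)) • v i ∈ _))
    rw [← Finset.sum_sub_distrib] at h
    convert h using 1
    refine Finset.sum_congr rfl fun i _ => ?_
    rw [IsScalarTower.algebraMap_apply A A' B', algebraMap_smul]
    rw [_root_.sub_smul (c' i) (algebraMap A A' (a i)) (v i)]
    abel
  have h3 : (1 : B') ⊗ₜ[B] (∑ i ∈ S, a i • m i) ∈ I := by
    have e : (1 : B') ⊗ₜ[B] (∑ i ∈ S, a i • m i) = w • ∑ i ∈ S, algebraMap A B' (a i) • v i -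
        ∑ i ∈ S, algebraMap A B' (a i) • (w • v i - (1 : B') ⊗ₜ[B] m i) := by
      rw [Finset.smul_sum, ← Finset.sum_sub_distrib, TensorProduct.tmul_sum]
      refine Finset.sum_congr rfl fun i _ => ?_
      rw [smul_sub, smul_comm w, sub_sub_cancel, TensorProduct.smul_tmul', smul_eq_mul, mul_one,
        ← algebraMap_smul B (a i) (m i), ← TensorProduct.smul_tmul, Algebra.smul_def, mul_one,
        ← IsScalarTower.algebraMap_apply]
    rw [e]
    exact sub_mem (Submodule.smul_mem _ _ h2) (sum_mem fun i _ => Submodule.smul_mem _ _ (hm i))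
  let Q : Submodule B M := mA.map (algebraMap A B) • ⊤
  let f : B' ⊗[B] M →ₗ[B'] B' ⊗[B] (M ⧸ Q) := Q.mkQ.baseChange B'
  have h4 : ∀ x ∈ I, f x = 0 := fun x hx => by
    have hle : I ≤ LinearMap.ker f := by
      refine Submodule.smul_le.2 fun b hb v _ => ?_
      rw [LinearMap.mem_ker, map_smul]
      induction hb using Submodule.span_induction with
      | mem b hb =>
        obtain ⟨a, ha, rfl⟩ := hb
        induction (f v) using TensorProduct.induction_on with
        | zero => rw [smul_zero]
        | tmul b' z =>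
          obtain ⟨z, rfl⟩ := Q.mkQ_surjective z
          rw [IsScalarTower.algebraMap_apply A B B', algebraMap_smul, ← TensorProduct.tmul_smul, ← map_smul,
            show Q.mkQ (algebraMap A B a • z) = 0 from (Submodule.Quotient.mk_eq_zero Q).2
              (Submodule.smul_mem_smul (Ideal.mem_map_of_mem _ ha) trivial), TensorProduct.tmul_zero]
        | add x y hx hy => rw [smul_add, hx, hy, add_zero]
      | zero => rw [zero_smul]
      | add x y _ _ hx hy => rw [add_smul, hx, hy, add_zero]
      | smul r x _ hx => rw [smul_eq_mul, mul_smul, hx, smul_zero]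
    exact hle hx
  have h5 := h4 _ h3
  rw [LinearMap.baseChange_tmul] at h5
  refine (mem_smul_top_iff_map (B := B) mA _).2 ((Submodule.Quotient.mk_eq_zero Q).1 ?_)
  exact Module.FaithfullyFlat.tensorProduct_mk_injective (A := B) (B := B') (M ⧸ Q)
    (h5.trans (TensorProduct.tmul_zero _ _).symm)

/-- Clearing units in a congruence. -/
theorem sum_smul_mem_of_units {R P Q : Type*} [CommRing R] [CommRing P] [Algebra R P] [AddCommGroup Q] [Module P Q]
    [Module R Q] [IsScalarTower R P Q] (m : Ideal R) {ι : Type*} (S : Finset ι) (c : ι → R) (u h : P) (hu : IsUnit u)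
    (hh : IsUnit h) (n v : ι → Q) (hv : ∀ i, h • n i - v i ∈ m • (⊤ : Submodule R Q))
    (hsum : ∑ i ∈ S, c i • (u • v i) ∈ m • (⊤ : Submodule R Q)) : ∑ i ∈ S, c i • n i ∈ m • (⊤ : Submodule R Q) := by
  rw [mem_smul_top_iff_map (B := P)] at hsum ⊢
  have hv' := fun i => (mem_smul_top_iff_map (B := P) m _).1 (hv i)
  have h1 : (u * h) • ∑ i ∈ S, c i • n i ∈ m.map (algebraMap R P) • (⊤ : Submodule P Q) := by
    have e : (u * h) • ∑ i ∈ S, c i • n i = ∑ i ∈ S, c i • (u • v i) +
        ∑ i ∈ S, algebraMap R P (c i) • (u • (h • n i - v i)) := by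
      rw [← Finset.sum_add_distrib, Finset.smul_sum]
      refine Finset.sum_congr rfl fun i _ => ?_
      rw [algebraMap_smul, ← smul_add, ← smul_add, add_sub_cancel, smul_comm, mul_smul]
    rw [e]
    exact add_mem hsum (sum_mem fun i _ => Submodule.smul_mem _ _ (Submodule.smul_mem _ _ (hv' i)))
  have h2 := Submodule.smul_mem _ (↑(hu.mul hh).unit⁻¹ : P) h1
  rwa [smul_smul, IsUnit.val_inv_mul, one_smul] at h2

set_option maxHeartbeats 1600000 in
/-- A linear map to a flat module which is injective modulo the maximal ideal is injective. -/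
theorem injective_of_injective_mod {A B : Type u} [CommRing A] [CommRing B] [IsLocalRing A] [IsLocalRing B]
    [Algebra A B] [IsLocalHom (algebraMap A B)] [Algebra.EssFiniteType A B]
    {N M : Type u} [AddCommGroup N] [Module B N] [Module A N] [IsScalarTower A B N] [Module.Finite B N]
    [AddCommGroup M] [Module B M] [Module A M] [IsScalarTower A B M] [Module.Flat A M] (u : N →ₗ[B] M)
    (hu : ∀ x : N, u x ∈ maximalIdeal A • (⊤ : Submodule A M) → x ∈ maximalIdeal A • (⊤ : Submodule A N)) :
    Function.Injective u := by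
  classical
  refine (injective_iff_map_eq_zero u).2 fun x hx => ?_
  let mA := maximalIdeal A
  obtain ⟨d, π, hπ⟩ := exists_presentation A B
  obtain ⟨r, e, he⟩ := Module.Finite.exists_fin (R := B) (M := N)
  let σ := Fin d
  let g : (Fin r → MvPolynomial σ A) → N := fun f => ∑ j, π (f j) • e j
  have g_add : ∀ f f' : (Fin r → MvPolynomial σ A), g (f + f') = g f + g f' := fun f f' => by
    simp only [g, Pi.add_apply, map_add, add_smul, Finset.sum_add_distrib]
  have g_zero : g 0 = 0 := by simp [g]
  have g_smul : ∀ (p : MvPolynomial σ A) (f : (Fin r → MvPolynomial σ A)), g (p • f) = π p • g f := fun p f => by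
    simp only [g, Finset.smul_sum, Pi.smul_apply, smul_eq_mul, map_mul, mul_smul]
  have g_sum : ∀ {κ : Type} (S : Finset κ) (f : κ → (Fin r → MvPolynomial σ A)), g (∑ i ∈ S, f i) = ∑ i ∈ S, g (f i) := fun {κ} S f => by
    induction S using Finset.induction_on with
    | empty => simpa using g_zero
    | insert a S ha ih => rw [Finset.sum_insert ha, Finset.sum_insert ha, g_add, ih]
  have g_surj : ∀ z : N, ∃ t f, IsUnit (π t) ∧ π t • z = g f := fun z => by
    obtain ⟨b, hb⟩ := (Submodule.mem_span_range_iff_exists_fun B).1 (he ▸ (Submodule.mem_top : z ∈ (⊤ : Submodule B N)))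
    choose t f ht htf using fun j => hπ (b j)
    refine ⟨∏ j, t j, fun j => (∏ i ∈ Finset.univ.erase j, t i) * f j, ?_, ?_⟩
    · rw [map_prod]; exact IsUnit.prod_univ_iff.2 ht
    · rw [← hb, Finset.smul_sum]
      refine Finset.sum_congr rfl fun j _ => ?_
      rw [smul_smul, map_mul, ← htf, ← mul_assoc, ← map_mul, Finset.prod_erase_mul _ _ (Finset.mem_univ j)]
  obtain ⟨t, y, ht, hy⟩ := g_surj x
  -- relations of the reduction
  let k := ResidueField A
  let red : MvPolynomial σ A →+* MvPolynomial σ k := MvPolynomial.map (residue A)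
  have red_surj : Function.Surjective red := MvPolynomial.map_surjective _ residue_surjective
  let redF : (Fin r → MvPolynomial σ A) → (Fin r → MvPolynomial σ k) := fun f j => red (f j)
  let Lbar : Submodule (MvPolynomial σ k) (Fin r → MvPolynomial σ k) :=
    { carrier := redF '' {f | g f ∈ mA • (⊤ : Submodule A N)}
      add_mem' := by
        rintro _ _ ⟨f, hf, rfl⟩ ⟨f', hf', rfl⟩
        exact ⟨f + f', by show g (f + f') ∈ mA • (⊤ : Submodule A N); rw [g_add]; exact add_mem hf hf', funext fun j => map_add red _ _⟩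
      zero_mem' := ⟨0, by show g 0 ∈ mA • (⊤ : Submodule A N); rw [g_zero]; exact zero_mem _, funext fun j => map_zero red⟩
      smul_mem' := by
        rintro p _ ⟨f, hf, rfl⟩
        obtain ⟨p, rfl⟩ := red_surj p
        refine ⟨p • f, ?_, funext fun j => map_mul red _ _⟩
        show g (p • f) ∈ mA • (⊤ : Submodule A N)
        replace hf : g f ∈ mA • (⊤ : Submodule A N) := hf
        rw [g_smul]
        rw [← Submodule.restrictScalars_top A B N, ← Ideal.smul_restrictScalars, Submodule.restrictScalars_mem] at hf ⊢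
        exact Submodule.smul_mem _ _ hf }
  obtain ⟨ν, gb, hgb⟩ := Submodule.fg_iff_exists_fin_generating_family.1 (IsNoetherian.noetherian Lbar)
  have hgl : ∀ l, ∃ f : (Fin r → MvPolynomial σ A), g f ∈ mA • (⊤ : Submodule A N) ∧ redF f = gb l := fun l =>
    (hgb ▸ Submodule.subset_span ⟨l, rfl⟩ : gb l ∈ Lbar)
  choose gl hgl hglr using hgl
  have hlift : ∀ z ∈ mA • (⊤ : Submodule A N), ∃ (t : MvPolynomial σ A) (h : (Fin r → MvPolynomial σ A)), IsUnit (π t) ∧
      π t • z = g h ∧ redF h = 0 := by
    intro z hz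
    refine Submodule.smul_induction_on hz (fun a ha w _ => ?_) fun z z' ⟨t, h, ht, hth, hh⟩ ⟨t', h', ht', hth', hh'⟩ => ?_
    · obtain ⟨t, f, ht, hf⟩ := g_surj w
      refine ⟨t, (MvPolynomial.C a : MvPolynomial σ A) • f, ht, ?_, funext fun j => ?_⟩
      · rw [g_smul, ← hf, show π (MvPolynomial.C a) = algebraMap A B a from π.commutes a, smul_comm, algebraMap_smul]
      · show red (MvPolynomial.C a * f j) = 0
        rw [map_mul, MvPolynomial.map_C, (residue_eq_zero_iff a).2 ha, map_zero, zero_mul]
    · refine ⟨t * t', t' • h + t • h', by rw [map_mul]; exact ht.mul ht', ?_, funext fun j => ?_⟩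
      · rw [g_add, g_smul, g_smul, ← hth, ← hth', map_mul, smul_add]
        simp only [smul_smul, mul_comm (π t') (π t)]
      · have e1 := congrFun hh j
        have e2 := congrFun hh' j
        show red (t' * h j + t * h' j) = 0
        simp only [redF, Pi.zero_apply] at e1 e2
        rw [map_add, map_mul, map_mul, e1, e2, mul_zero, mul_zero, add_zero]
  choose tl hl htl hgh hhl using fun l => hlift _ (hgl l)
  let z : Fin ν → (Fin r → MvPolynomial σ A) := fun l => tl l • gl l - hl l
  have hz : ∀ l, g (z l) = 0 := fun l => by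
    have e := g_add (z l) (hl l)
    rw [show z l + hl l = tl l • gl l from sub_add_cancel _ _, g_smul, hgh l] at e
    exact (add_eq_right.1 e.symm)
  have hzr : ∀ l, redF (z l) = red (tl l) • gb l := fun l => funext fun j => by
    have e1 := congrFun (hhl l) j
    have e2 := congrFun (hglr l) j
    simp only [redF, Pi.zero_apply] at e1 e2
    show red (tl l * gl l j - hl l j) = red (tl l) * gb l j
    rw [map_sub, map_mul, e1, e2, sub_zero]
  let T := ∏ l, tl l
  have hT : IsUnit (π T) := by rw [map_prod]; exact IsUnit.prod_univ_iff.2 htl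
  -- descent of the coefficients
  let co : MvPolynomial σ A → Set A := fun p => (fun dd => p.coeff dd) '' (p.support : Set (σ →₀ ℕ))
  obtain ⟨R₀, _, _, _, ι, hι, hsub⟩ := exists_noetherian_subring A
    ((⋃ l, ⋃ j, co (z l j)) ∪ (⋃ j, co (y j)) ∪ co T)
    (((Set.finite_iUnion fun l => Set.finite_iUnion fun j => (z l j).support.finite_toSet.image _).union
      (Set.finite_iUnion fun j => (y j).support.finite_toSet.image _)).union (T.support.finite_toSet.image _))
  have hco : ∀ p : MvPolynomial σ A, co p ⊆ Set.range ι → ∃ p₀, MvPolynomial.map ι p₀ = p := fun p hp =>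
    exists_map_eq ι p fun dd hdd => hp ⟨dd, hdd, rfl⟩
  choose z₀ hz₀ using fun l j => hco (z l j) fun a ha => hsub
    (Or.inl (Or.inl (Set.mem_iUnion.2 ⟨l, Set.mem_iUnion.2 ⟨j, ha⟩⟩)))
  choose y₀ hy₀ using fun j => hco (y j) fun a ha => hsub (Or.inl (Or.inr (Set.mem_iUnion.2 ⟨j, ha⟩)))
  obtain ⟨T₀, hT₀⟩ := hco T fun a ha => hsub (Or.inr ha)
  obtain ⟨R, A', _, _, _, _, _, _, _, c, hcomp, hc, hcsurj, hloc, hflat, hcι, hmax, hres⟩ :=
    exists_complete_extension A R₀ ι
  obtain ⟨B', _, _, _, _, _, _, _, _, hlocB, hff, hflatM⟩ := exists_local_extension (B := B) hmax hres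
  haveI := hflatM M
  -- the local ring of the polynomial ring over `R`
  letI : Algebra R B' := ((algebraMap A' B').comp (algebraMap R A')).toAlgebra
  haveI : IsScalarTower R A' B' := IsScalarTower.of_algebraMap_eq fun _ => rfl
  let φR : MvPolynomial σ R →+* B' :=
    MvPolynomial.eval₂Hom (algebraMap R B') fun i => algebraMap B B' (π (MvPolynomial.X i))
  have hφ0 : ∀ p : MvPolynomial σ R₀, φR (MvPolynomial.map c p) = algebraMap B B' (π (MvPolynomial.map ι p)) := by
    intro p
    refine congr($(MvPolynomial.ringHom_ext (f := φR.comp (MvPolynomial.map c))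
      (g := (algebraMap B B').comp (π.toRingHom.comp (MvPolynomial.map ι))) (fun a => ?_) (fun i => ?_)) p)
    · simp only [RingHom.comp_apply, MvPolynomial.map_C, φR, MvPolynomial.eval₂Hom_C]
      rw [show π.toRingHom (MvPolynomial.C (ι a)) = algebraMap A B (ι a) from π.commutes _]
      show algebraMap A' B' (algebraMap R A' (c a)) = _
      rw [hcι, ← IsScalarTower.algebraMap_apply, ← IsScalarTower.algebraMap_apply]
    · simp only [RingHom.comp_apply, MvPolynomial.map_X, φR, MvPolynomial.eval₂Hom_X']
      rfl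
  let qR : Ideal (MvPolynomial σ R) := (maximalIdeal B').comap φR
  haveI : qR.IsPrime := Ideal.IsPrime.comap _
  let P := Localization.AtPrime qR
  let φP : P →+* B' := IsLocalization.lift (M := qR.primeCompl) (g := φR)
    fun p => not_not.1 fun h => p.2 ((mem_maximalIdeal _).2 h)
  have hφP : ∀ p, φP (algebraMap _ P p) = φR p := fun p => IsLocalization.lift_eq _ p
  haveI : IsLocalHom (algebraMap R P) := ⟨fun a ha => by
    haveI := hloc
    haveI := hlocB
    have h1 := ha.map φP
    rw [IsScalarTower.algebraMap_apply R (MvPolynomial σ R) P, hφP, MvPolynomial.algebraMap_eq,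
      MvPolynomial.eval₂Hom_C] at h1
    exact IsUnit.of_map (algebraMap R A') a (IsUnit.of_map (algebraMap A' B') _ h1)⟩
  haveI : IsNoetherianRing P := IsLocalization.isNoetherianRing qR.primeCompl _ inferInstance
  letI : Algebra P B' := φP.toAlgebra
  haveI : SMulCommClass B P B' := ⟨fun b p w => by
    simp only [Algebra.smul_def]
    ring⟩
  haveI : IsScalarTower R P B' := IsScalarTower.of_algebraMap_eq fun a => by
    show algebraMap R B' a = φP (algebraMap R P a)
    rw [IsScalarTower.algebraMap_apply R (MvPolynomial σ R) P, hφP, MvPolynomial.algebraMap_eq, MvPolynomial.eval₂Hom_C]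
  haveI : SMulCommClass B R B' := ⟨fun b p w => by
    simp only [Algebra.smul_def]
    ring⟩
  let toP : (Fin r → MvPolynomial σ R₀) → (Fin r → P) := fun f j => algebraMap _ P (MvPolynomial.map c (f j))
  let χF : (Fin r → P) →ₗ[P] B' ⊗[B] N := Fintype.linearCombination P fun j => (1 : B') ⊗ₜ[B] e j
  have hχ : ∀ f, χF (toP f) = (1 : B') ⊗ₜ[B] g (fun j => MvPolynomial.map ι (f j)) := fun f => by
    rw [Fintype.linearCombination_apply, TensorProduct.tmul_sum]
    refine Finset.sum_congr rfl fun j _ => ?_
    rw [TensorProduct.smul_tmul', TensorProduct.tmul_smul, TensorProduct.smul_tmul', Algebra.smul_def, Algebra.smul_def,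
      mul_one, mul_one]
    congr 1
    show φP _ = _
    rw [hφP, hφ0]
  let Z : Submodule P (Fin r → P) := Submodule.span P (Set.range fun l => toP (z₀ l))
  have hZ : Z ≤ LinearMap.ker χF := Submodule.span_le.2 fun w ⟨l, hl⟩ => by
    rw [SetLike.mem_coe, LinearMap.mem_ker, ← hl, hχ, show (fun j => MvPolynomial.map ι (z₀ l j)) = z l from
      funext fun j => hz₀ l j, hz, TensorProduct.tmul_zero]
  let χ : (Fin r → P) ⧸ Z →ₗ[P] B' ⊗[B] N := Z.liftQ χF hZ
  let uR : B' ⊗[B] N →ₗ[B'] B' ⊗[B] M := u.baseChange B'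
  let ψ : (Fin r → P) ⧸ Z →ₗ[R] B' ⊗[B] M := (uR.restrictScalars R).comp (χ.restrictScalars R)
  have hmem : ∀ (J : Ideal R) (w : (Fin r → P) ⧸ Z), w ∈ J • (⊤ : Submodule R ((Fin r → P) ⧸ Z)) ↔
      w ∈ J.map (algebraMap R P) • (⊤ : Submodule P ((Fin r → P) ⧸ Z)) := fun J w => by
    rw [← Submodule.restrictScalars_mem R (J.map (algebraMap R P) • (⊤ : Submodule P ((Fin r → P) ⧸ Z))) w,
      Ideal.smul_restrictScalars, Submodule.restrictScalars_top]
  have hCP : ∀ p ∈ (maximalIdeal R).map (MvPolynomial.C : R →+* MvPolynomial σ R),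
      algebraMap _ P p ∈ (maximalIdeal R).map (algebraMap R P) := fun p hp => by
    rw [IsScalarTower.algebraMap_eq R (MvPolynomial σ R) P, ← Ideal.map_map]
    exact Ideal.mem_map_of_mem _ hp
  have hcomp2 : ∀ v : Fin r → MvPolynomial σ R, (∀ j, v j ∈ (maximalIdeal R).map (MvPolynomial.C : R →+* MvPolynomial σ R)) →
      Z.mkQ (fun j => algebraMap _ P (v j)) ∈ maximalIdeal R • (⊤ : Submodule R ((Fin r → P) ⧸ Z)) := fun v hv =>
    (hmem _ _).2 (mem_smul_top_of_components _ Z.mkQ _ fun j => hCP _ (hv j))
  have hψm : ∀ w ∈ maximalIdeal R • (⊤ : Submodule R ((Fin r → P) ⧸ Z)),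
      ψ w ∈ maximalIdeal R • (⊤ : Submodule R (B' ⊗[B] M)) := fun w hw => by
    have := Submodule.mem_map_of_mem (f := ψ) hw
    rw [Submodule.map_smul''] at this
    exact Submodule.smul_mono le_rfl le_top this
  have hRA : ∀ b ∈ maximalIdeal R, algebraMap R B' b ∈ (maximalIdeal A).map (algebraMap A B') := fun b hb => by
    haveI := hloc
    rw [IsScalarTower.algebraMap_eq A A' B', ← Ideal.map_map, ← hmax, IsScalarTower.algebraMap_apply R A' B']
    exact Ideal.mem_map_of_mem _ (map_nonunit _ _ hb)
  have hψh : ∀ (h : MvPolynomial σ R) (w : (Fin r → P) ⧸ Z), ψ (algebraMap _ P h • w) = φR h • ψ w := fun h w => by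
    show uR (χ _) = φR h • uR (χ w)
    rw [map_smul χ, ← IsScalarTower.algebraMap_smul B' (algebraMap _ P h) (χ w),
      show algebraMap P B' (algebraMap _ P h) = φR h from hφP h, map_smul uR]
  have hψ0 : ∀ f : Fin r → MvPolynomial σ R₀, ψ (Z.mkQ (toP f)) = (1 : B') ⊗ₜ[B] u (g fun j => MvPolynomial.map ι (f j)) :=
    fun f => by
    show uR (χF (toP f)) = _
    rw [hχ, LinearMap.baseChange_tmul]
  have hT₀q : MvPolynomial.map c T₀ ∉ qR := fun hm => by
    have h1 : φR (MvPolynomial.map c T₀) ∈ maximalIdeal B' := hm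
    rw [hφ0, hT₀] at h1
    exact (mem_maximalIdeal _).1 h1 (hT.map _)
  let k₀ := ResidueField R₀
  let ιk : k₀ →+* k := ResidueField.map ι
  let red₀ : MvPolynomial σ R₀ →+* MvPolynomial σ k₀ := MvPolynomial.map (residue R₀)
  have hred : ∀ p, red (MvPolynomial.map ι p) = MvPolynomial.map ιk (red₀ p) := fun p => by
    show MvPolynomial.map (residue A) (MvPolynomial.map ι p) = MvPolynomial.map ιk (MvPolynomial.map (residue R₀) p)
    rw [MvPolynomial.map_map, MvPolynomial.map_map]
    congr 2
  have hind : ∀ (μ : ℕ) (n : Fin μ → (Fin r → P) ⧸ Z),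
      (∀ a : Fin μ → R, ∑ i, a i • n i ∈ maximalIdeal R • (⊤ : Submodule R ((Fin r → P) ⧸ Z)) →
        ∀ i, a i ∈ maximalIdeal R) → LinearIndependent A' (ψ ∘ n) := by
    intro μ n hn
    refine (linearIndependent_equiv (Equiv.ulift.{u} : ULift.{u} (Fin μ) ≃ Fin μ)).1
      (Module.IsLocalRing.linearIndependent_of_flat _ ?_)
    rw [← Function.comp_assoc]
    refine (linearIndependent_equiv (Equiv.ulift.{u} : ULift.{u} (Fin μ) ≃ Fin μ)).2 ?_
    refine Fintype.linearIndependent_iff.2 fun cb hcb => ?_
    choose c' hc' using fun i => residue_surjective (R := A') (cb i)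
    choose a ha using fun i => hres (c' i)
    -- clear denominators and descend
    have hzero : ∀ (c' : Fin μ → A'), (∀ i, residue A' (c' i) = cb i) →
        TensorProduct.mk A' (ResidueField A') (B' ⊗[B] M) 1 (∑ i, c' i • ψ (n i)) = 0 := fun c' hc' => by
      rw [map_sum]
      refine (Finset.sum_congr rfl fun i _ => ?_).trans hcb
      rw [map_smul, ← hc' i]
      exact (IsScalarTower.algebraMap_smul (ResidueField A') _ _).symm
    choose w hw using fun i => Z.mkQ_surjective (n i)
    obtain ⟨⟨h, hh⟩, hint⟩ := IsLocalization.exist_integer_multiples_of_finite qR.primeCompl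
      (fun p : Fin μ × Fin r => w p.1 p.2)
    choose f hf using fun i j => hint (i, j)
    choose f₀ hf₀ using fun i j => exists_sub_mem_map c (maximalIdeal R) hcsurj (f i j)
    have hn0 : ∀ i, algebraMap _ P h • n i - Z.mkQ (toP (f₀ i)) ∈
        maximalIdeal R • (⊤ : Submodule R ((Fin r → P) ⧸ Z)) := fun i => by
      rw [← hw i, ← map_smul, ← map_sub]
      convert hcomp2 _ (hf₀ i) using 2
      funext j
      show algebraMap _ P h * w i j - algebraMap _ P (MvPolynomial.map c (f₀ i j)) = _
      rw [map_sub]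
      congr 1
      rw [hf i j, Algebra.smul_def]
    let G : Fin μ → (Fin r → MvPolynomial σ A) := fun i j => MvPolynomial.map ι (f₀ i j)
    have hψn : ∀ i, ψ (algebraMap _ P h • n i - Z.mkQ (toP (f₀ i))) = φR h • ψ (n i) - (1 : B') ⊗ₜ[B] u (g (G i)) :=
      fun i => by rw [map_sub, hψh, hψ0]
    -- the combination lies in the relations modulo `m`
    have hF : g (∑ i, (MvPolynomial.C (a i) : MvPolynomial σ A) • G i) ∈ mA • (⊤ : Submodule A N) := by
      haveI := hff
      refine hu _ ?_
      have e1 : u (g (∑ i, (MvPolynomial.C (a i) : MvPolynomial σ A) • G i)) = ∑ i, a i • u (g (G i)) := by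
        rw [g_sum, map_sum]
        refine Finset.sum_congr rfl fun i _ => ?_
        rw [g_smul, show π (MvPolynomial.C (a i)) = algebraMap A B (a i) from π.commutes _, map_smul, algebraMap_smul]
      rw [e1]
      refine sum_smul_mem_of_congr (A' := A') (B' := B') mA Finset.univ c' a (fun i => ?_) (fun i => ψ (n i)) (φR h)
        (fun i => u (g (G i))) (fun i => ?_) ?_
      · rw [← hmax]; exact ha i
      · have h4 := (mem_smul_top_iff_map (B := B') (maximalIdeal R) _).1 (hψm _ (hn0 i))
        rw [hψn i] at h4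
        refine Submodule.smul_mono_left ?_ h4
        exact Ideal.map_le_iff_le_comap.2 hRA
      · rw [← hmax, ← LinearMap.ker_tensorProductMk, LinearMap.mem_ker]
        exact hzero c' hc'
    have hspan : redF (∑ i, (MvPolynomial.C (a i) : MvPolynomial σ A) • G i) ∈ Submodule.span (MvPolynomial σ k) (Set.range gb) := by
      rw [hgb]
      exact ⟨_, hF, rfl⟩
    have hTspan : red T • redF (∑ i, (MvPolynomial.C (a i) : MvPolynomial σ A) • G i) ∈
        Submodule.span (MvPolynomial σ k) (Set.range fun l => redF (z l)) := by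
      obtain ⟨p, hp⟩ := (Submodule.mem_span_range_iff_exists_fun _).1 hspan
      rw [← hp, Finset.smul_sum]
      refine sum_mem fun l _ => ?_
      rw [smul_comm]
      refine Submodule.smul_mem _ _ ?_
      rw [show T = (∏ i ∈ Finset.univ.erase l, tl i) * tl l from (Finset.prod_erase_mul _ _ (Finset.mem_univ l)).symm,
        map_mul, mul_smul, ← hzr]
      exact Submodule.smul_mem _ _ (Submodule.subset_span ⟨l, rfl⟩)
    let U : Submodule (MvPolynomial σ k₀) (Fin r → MvPolynomial σ k₀) :=
      Submodule.span _ (Set.range fun l => fun j => red₀ (z₀ l j))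
    have ha0 := coeff_eq_zero_of_mem_span ιk U (fun i j => red₀ (T₀ * f₀ i j)) (fun cb₀ hcb₀ => ?_)
      (fun i => residue A (a i)) ?_
    · intro i
      have hai : a i ∈ mA := (residue_eq_zero_iff _).1 (congrFun ha0 i)
      rw [← hc' i, residue_eq_zero_iff, ← sub_add_cancel (c' i) (algebraMap A A' (a i))]
      exact add_mem (ha i) (hmax ▸ Ideal.mem_map_of_mem _ hai)
    · choose cl hcl using fun i => residue_surjective (R := R₀) (cb₀ i)
      obtain ⟨p, hp⟩ := (Submodule.mem_span_range_iff_exists_fun _).1 hcb₀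
      choose pl hpl using fun l => MvPolynomial.map_surjective (σ := σ) (residue R₀) residue_surjective (p l)
      let v₀ : Fin r → MvPolynomial σ R₀ := fun j =>
        (∑ i, MvPolynomial.C (cl i) * (T₀ * f₀ i j)) - ∑ l, pl l * z₀ l j
      have hv₀ : ∀ j, MvPolynomial.map c (v₀ j) ∈ (maximalIdeal R).map (MvPolynomial.C : R →+* MvPolynomial σ R) := by
        intro j
        have h1 : v₀ j ∈ RingHom.ker red₀ := by
          rw [RingHom.mem_ker, map_sub, map_sum, map_sum, sub_eq_zero]
          have := congrFun hp j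
          rw [Finset.sum_apply, Finset.sum_apply] at this
          simp only [Pi.smul_apply, smul_eq_mul, map_mul, red₀] at this
          simp only [map_mul, red₀, MvPolynomial.map_C, hcl, hpl]
          exact this.symm
        rw [MvPolynomial.ker_map, ker_residue] at h1
        have h2 := Ideal.mem_map_of_mem (MvPolynomial.map c) h1
        rw [Ideal.map_map, show (MvPolynomial.map c).comp (MvPolynomial.C : R₀ →+* MvPolynomial σ R₀) =
          (MvPolynomial.C : R →+* MvPolynomial σ R).comp c from RingHom.ext fun b => MvPolynomial.map_C c b,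
          ← Ideal.map_map] at h2
        exact Ideal.map_mono (Ideal.map_le_iff_le_comap.2 fun b hb => Ideal.mem_comap.2 (map_nonunit c b hb)) h2
      have h1 := hcomp2 _ hv₀
      let TP := algebraMap _ P (MvPolynomial.map c T₀)
      have h2 : ∑ i, c (cl i) • (TP • Z.mkQ (toP (f₀ i))) ∈ maximalIdeal R • (⊤ : Submodule R ((Fin r → P) ⧸ Z)) := by
        have e1 : (fun j => algebraMap _ P (MvPolynomial.map c (v₀ j))) =
            (∑ i, c (cl i) • (TP • toP (f₀ i))) - ∑ l, algebraMap _ P (MvPolynomial.map c (pl l)) • toP (z₀ l) := by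
          funext j
          simp only [v₀, toP, TP, Pi.sub_apply, Finset.sum_apply, Pi.smul_apply, smul_eq_mul, map_sub, map_sum, map_mul,
            MvPolynomial.map_C, Algebra.smul_def]
          rfl
        have hz0 : ∀ l, Z.mkQ (algebraMap _ P (MvPolynomial.map c (pl l)) • toP (z₀ l)) = 0 := fun l => by
          rw [map_smul, show Z.mkQ (toP (z₀ l)) = 0 from
            (Submodule.Quotient.mk_eq_zero Z).2 (Submodule.subset_span ⟨l, rfl⟩), smul_zero]
        rw [e1, map_sub, map_sum, map_sum, Finset.sum_eq_zero (fun l _ => hz0 l), sub_zero] at h1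
        simpa only [map_smul, LinearMap.map_smul_of_tower] using h1
      have hu1 : IsUnit (algebraMap _ P h) := IsLocalization.map_units P (⟨h, hh⟩ : qR.primeCompl)
      have hu2 : IsUnit TP := IsLocalization.map_units P (⟨MvPolynomial.map c T₀, hT₀q⟩ : qR.primeCompl)
      have h4 := sum_smul_mem_of_units (maximalIdeal R) Finset.univ (fun i => c (cl i)) TP (algebraMap _ P h) hu2 hu1 n
        (fun i => Z.mkQ (toP (f₀ i))) hn0 h2
      funext i
      rw [Pi.zero_apply, ← hcl, residue_eq_zero_iff]
      by_contra hni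
      exact (mem_maximalIdeal _).1 (hn _ h4 i) ((IsLocalRing.notMem_maximalIdeal.1 hni).map c)
    · have e : (∑ i, (MvPolynomial.C (residue A (a i)) : MvPolynomial σ k) • fun j => MvPolynomial.map ιk (red₀ (T₀ * f₀ i j))) =
          red T • redF (∑ i, (MvPolynomial.C (a i) : MvPolynomial σ A) • G i) := by
        funext j
        simp only [redF, Finset.sum_apply, Pi.smul_apply, smul_eq_mul, map_sum, Finset.mul_sum, map_mul, G, ← hred, ← hT₀]
        refine Finset.sum_congr rfl fun i _ => ?_
        simp only [red, MvPolynomial.map_C]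
        ring
      rw [e]
      refine Submodule.span_mono ?_ hTspan
      rintro _ ⟨l, rfl⟩
      refine ⟨fun j => red₀ (z₀ l j), Submodule.subset_span ⟨l, rfl⟩, funext fun j => ?_⟩
      show MvPolynomial.map ιk (red₀ (z₀ l j)) = red (z l j)
      rw [← hred, hz₀]
  have hy0 : χ (Z.mkQ (toP y₀)) = (1 : B') ⊗ₜ[B] g y := by
    show χF (toP y₀) = _
    rw [hχ, show (fun j => MvPolynomial.map ι (y₀ j)) = y from funext hy₀]
  have hψy : ψ (Z.mkQ (toP y₀)) = 0 := by
    show uR (χ _) = 0
    rw [hy0, LinearMap.baseChange_tmul, ← hy, map_smul, hx, smul_zero, TensorProduct.tmul_zero]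
  obtain ⟨W, hW, hWA⟩ := exists_ideal_mem_smul (P := P) ψ hind _ hψy
  have h0 : χ (Z.mkQ (toP y₀)) = 0 := by
    refine Submodule.smul_induction_on hW (fun b hb v _ => ?_) fun v v' hv hv' => by rw [map_add, hv, hv', add_zero]
    rw [LinearMap.map_smul_of_tower, ← algebraMap_smul B' b (χ v), IsScalarTower.algebraMap_apply R A' B',
      show algebraMap R A' b = 0 from hWA hb, map_zero, zero_smul]
  haveI := hff
  have h9 : g y = 0 := Module.FaithfullyFlat.tensorProduct_mk_injective (A := B) (B := B') N
    ((hy0.symm.trans h0).trans (TensorProduct.tmul_zero _ _).symm)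
  rw [h9] at hy
  exact ht.smul_eq_zero.1 hy

end FlatInjLib
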