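import Groth.Agent.FlatInjLib.AssFibre
import Groth.Agent.RGFlatLib.GenAvoid
import Mathlib

/-!
# Maps from free modules inducing bases at the generic point of an integral fibre
-/

set_option autoImplicit false
set_option linter.style.haveILetI false

universe u

open IsLocalRing
open scoped TensorProduct

namespace FlatInjLib

/-- An extension of flat modules is flat. -/
theorem flat_of_extension {R F N C : Type u} [CommRing R] [AddCommGroup F] [Module R F] [AddCommGroup N] [Module R N]
    [AddCommGroup C] [Module R C] [Module.Flat R F] [Module.Flat R C] (f : F →ₗ[R] N) (g : N →ₗ[R] C)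
    (hf : Function.Injective f) (hg : Function.Surjective g) (H : Function.Exact f g) : Module.Flat R N := by
  refine Module.Flat.iff_lTensor_injective.2 fun I _ => (injective_iff_map_eq_zero _).2 fun z hz => ?_
  have h1 : g.rTensor I z = 0 := by
    apply Module.Flat.lTensor_preserves_injective_linearMap (M := C) I.subtype I.injective_subtype
    rw [map_zero, ← LinearMap.comp_apply (I.subtype.lTensor C), LinearMap.lTensor_comp_rTensor,
      ← LinearMap.rTensor_comp_lTensor, LinearMap.comp_apply, hz, map_zero]
  obtain ⟨w, rfl⟩ := (rTensor_exact I H hg z).1 h1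
  have h2 : f.rTensor R (I.subtype.lTensor F w) = 0 := by
    rw [← LinearMap.comp_apply, LinearMap.rTensor_comp_lTensor, ← LinearMap.lTensor_comp_rTensor, LinearMap.comp_apply]
    exact hz
  have h3 : I.subtype.lTensor F w = 0 :=
    (LinearMap.lTensor_inj_iff_rTensor_inj R f).1 (LinearMap.lTensor_injective_of_exact_of_flat g hg f hf H R)
      (h2.trans (map_zero _).symm)
  rw [Module.Flat.lTensor_preserves_injective_linearMap (M := F) I.subtype I.injective_subtype (h3.trans (map_zero _).symm),
    map_zero]

/-- Finitely many elements inducing a basis after base change to a residue field. -/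
theorem exists_baseChange_bijective {S : Type u} [CommRing S] (p : Ideal S) [p.IsPrime] (N : Type u) [AddCommGroup N]
    [Module S N] [Module.Finite S N] :
    ∃ (r : ℕ) (α : (Fin r → S) →ₗ[S] N), Function.Bijective (α.baseChange p.ResidueField) := by
  classical
  let κ := p.ResidueField
  let s : Set (κ ⊗[S] N) := Set.range fun n => (1 : κ) ⊗ₜ[S] n
  have hs : ⊤ ≤ Submodule.span κ s := fun v hv => by
    clear hv
    induction v using TensorProduct.induction_on with
    | zero => exact zero_mem _
    | tmul c n =>
      rw [show c ⊗ₜ[S] n = c • ((1 : κ) ⊗ₜ[S] n) by rw [TensorProduct.smul_tmul', smul_eq_mul, mul_one]]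
      exact Submodule.smul_mem _ _ (Submodule.subset_span ⟨n, rfl⟩)
    | add a b ha hb => exact add_mem ha hb
  let b := Module.Basis.ofSpan hs
  haveI : Fintype _ := FiniteDimensional.fintypeBasisIndex b
  let b' := b.reindex (Fintype.equivFin _)
  have main : ∀ (r : ℕ) (c : Module.Basis (Fin r) κ (κ ⊗[S] N)) (n : Fin r → N), (∀ i, (1 : κ) ⊗ₜ[S] n i = c i) →
      Function.Bijective ((Fintype.linearCombination S n).baseChange κ) := fun r c n hn => by
    let P := (Pi.basisFun S (Fin r)).baseChange κ
    let e := P.equiv c (Equiv.refl _)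
    have he : (Fintype.linearCombination S n).baseChange κ = e.toLinearMap := by
      refine P.ext fun i => ?_
      rw [LinearEquiv.coe_coe, Module.Basis.equiv_apply, Equiv.refl_apply, Module.Basis.baseChange_apply,
        LinearMap.baseChange_tmul, Pi.basisFun_apply, show Fintype.linearCombination S n (Pi.single i 1) = n i by simp]
      exact hn i
    rw [he]
    exact e.bijective
  choose n hn using fun i => (Module.Basis.ofSpan_subset hs) ⟨(Fintype.equivFin _).symm i, rfl⟩
  exact ⟨_, _, main _ b' n fun i => (hn i).trans (Module.Basis.reindex_apply ..).symm⟩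

variable {R S : Type u} [CommRing R] [CommRing S] [Algebra R S] {N : Type u} [AddCommGroup N] [Module S N]
  [Module R N] [IsScalarTower R S N]

/-- Associated points of free modules in integral fibres are the extended primes. -/
theorem le_map_of_mem_associatedPrimes [Algebra.FiniteType R S] [Module.Flat R S] (p : Ideal R) [p.IsPrime]
    (hd : IsDomain (p.ResidueField ⊗[R] S)) (q : Ideal S) [q.IsPrime] [q.LiesOver p] (r : ℕ)
    (hass : FlatCA.fiberIdeal p q ∈ associatedPrimes (p.Fiber S) (FlatCA.fiberMod p S (Fin r → S))) :
    q ≤ p.map (algebraMap R S) := by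
  obtain ⟨hp1, hp2⟩ := RGFlatLib.isPrime_map_of_fibre p hd
  intro s hs
  obtain ⟨hQp, x, hx⟩ := hass
  haveI := hd
  obtain ⟨t, ht, v, hv⟩ := FibAssLib.exists_smul_eq_toFiber p x
  have hs0 : FibAssLib.incl S p s ∈ ((⊥ : Submodule (p.Fiber S) (FlatCA.fiberMod p S (Fin r → S))).colon {x}).radical :=
    hx ▸ Ideal.mem_map_of_mem _ hs
  obtain ⟨k, hk⟩ := hs0
  rw [Submodule.mem_colon_singleton, Submodule.mem_bot, ← map_pow, ← FibAssLib.smul_eq] at hk
  have hsv : FlatCA.toFiberMod p S (Fin r → S) (s ^ k • v) = 0 := by rw [map_smul, ← hv, smul_comm, hk, smul_zero]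
  obtain ⟨c, hc, hcz⟩ := FibAssLib.exists_smul_eq_zero_of_β p
    (z := (Submodule.Quotient.mk (s ^ k • v) : FibAssLib.quot (S := S) (Fin r → S) p)) hsv
  rw [← Submodule.Quotient.mk_smul, Submodule.Quotient.mk_eq_zero, ← algebraMap_smul S c] at hcz
  by_contra hsp
  have hx0 : x ≠ 0 := by
    rintro rfl
    refine hQp.ne_top ?_
    rw [hx, show (⊥ : Submodule (p.Fiber S) (FlatCA.fiberMod p S (Fin r → S))).colon ({0} : Set _) = ⊤ from
      (Ideal.eq_top_iff_one _).2 (Submodule.mem_colon_singleton.2 (by simp)), Ideal.radical_top]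
  have hv0 : v ∈ p.map (algebraMap R S) • (⊤ : Submodule S (Fin r → S)) := by
    have hcomp : ∀ i, v i ∈ p.map (algebraMap R S) := fun i => by
      have h1 : algebraMap R S c * (s ^ k * v i) ∈ p.map (algebraMap R S) := by
        have := Submodule.mem_map_of_mem (f := (LinearMap.proj i : (Fin r → S) →ₗ[S] S)) hcz
        rw [Submodule.map_smul''] at this
        simpa [Algebra.smul_def] using Submodule.smul_mono (le_refl (p.map (algebraMap R S))) le_top this
      rcases hp1.mem_or_mem h1 with h | h
      · exact absurd (hp2.le h) hc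
      · exact (hp1.mem_or_mem h).resolve_left fun h' => hsp (hp1.mem_of_pow_mem k h')
    rw [← Finset.univ_sum_single v]
    refine sum_mem fun i _ => ?_
    rw [show Pi.single i (v i) = v i • (Pi.single i 1 : Fin r → S) by rw [← Pi.single_smul, smul_eq_mul, mul_one]]
    exact Submodule.smul_mem_smul (hcomp i) trivial
  exact hx0 (FibAssLib.eq_zero_of_smul p ht (hv.trans (FibAssLib.toFiberMod_map_eq_zero p hv0)))

/-- With integral fibres, localisation at a prime above the extension of every prime is universally injective. -/
theorem univInj_mk_of_map_le [Algebra.FiniteType R S] [Module.Flat R S] (hd : ∀ (p : Ideal R) [p.IsPrime], IsDomain (p.ResidueField ⊗[R] S))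
    (P : Ideal S) [P.IsPrime] (hP : ∀ (p : Ideal R) [p.IsPrime], p.map (algebraMap R S) ≤ P) (r : ℕ) :
    FlatCA.UnivInj R ((TensorProduct.mk S (Localization.AtPrime P) (Fin r → S) 1).restrictScalars R) := by
  classical
  haveI : Module.Flat S (Localization.AtPrime P) := IsLocalization.flat _ P.primeCompl
  haveI : Module.Flat R (Fin r → S) :=
    Module.Flat.of_linearEquiv ((Finsupp.linearEquivFunOnFinite R S (Fin r)).symm.trans (finsuppLequivDFinsupp R))
  refine univInj_mk_of_hit _ fun p q _ _ _ hass => ?_
  refine ⟨q.map (algebraMap S (Localization.AtPrime P)), ?_⟩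
  have hle : q ≤ P := (le_map_of_mem_associatedPrimes p (hd p) q r hass).trans (hP p)
  exact ⟨IsLocalization.isPrime_of_isPrime_disjoint P.primeCompl _ q inferInstance
      (Set.disjoint_left.2 fun y hy hyq => hy (hle hyq)),
    IsLocalization.comap_map_of_isPrime_disjoint P.primeCompl _ inferInstance
      (Set.disjoint_left.2 fun y hy hyq => hy (hle hyq))⟩

end FlatInjLib
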