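import Groth.Agent.CohCmpLib.FrameTools
import Groth.Agent.AlgSpLib.FibStalkBC
import Groth.Agent.DepthLib.RegAB
import Groth.Agent.S9501
import Groth.Prelude.Def_MoreMor
import Mathlib

/-! # Relative associated points and base change -/

set_option autoImplicit false

universe u

open IsLocalRing CategoryTheory CategoryTheory.Limits AlgebraicGeometry
open scoped TensorProduct

namespace FlatInjLib

/-- Associated maximal ideal along a surjection. -/
theorem isAssociatedPrime_maximal_iff_of_surjective {O Q M : Type u} [CommRing O] [CommRing Q] [IsLocalRing O]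
    [IsLocalRing Q] [Algebra O Q] (hsurj : Function.Surjective (algebraMap O Q)) [AddCommGroup M] [Module O M]
    [Module Q M] [IsScalarTower O Q M] :
    IsAssociatedPrime (maximalIdeal O) M ↔ IsAssociatedPrime (maximalIdeal Q) M := by
  haveI : IsLocalHom (algebraMap O Q) := IsLocalHom.of_surjective _ hsurj
  have hmax : (maximalIdeal Q).comap (algebraMap O Q) = maximalIdeal O :=
    IsLocalRing.maximalIdeal_comap (algebraMap O Q)
  have hcolon : ∀ x : M, ((⊥ : Submodule O M).colon {x}).radical =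
      (((⊥ : Submodule Q M).colon {x}).radical).comap (algebraMap O Q) := fun x => by
    rw [Ideal.comap_radical]
    congr 1
    ext a
    simp [Submodule.mem_colon_singleton]
  constructor
  · rintro ⟨-, x, hx⟩
    refine ⟨(maximalIdeal.isMaximal Q).isPrime, x, Ideal.comap_injective_of_surjective _ hsurj ?_⟩
    rw [hmax, hx, hcolon]
  · rintro ⟨-, x, hx⟩
    exact ⟨(maximalIdeal.isMaximal O).isPrime, x, by rw [hcolon, ← hx, hmax]⟩

/-- The fibre module as a module over the fibre ring. -/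
theorem isAssociatedPrime_quot_iff {O Q N : Type u} [CommRing O] [CommRing Q] [IsLocalRing O] [IsLocalRing Q]
    [Algebra O Q] (hsurj : Function.Surjective (algebraMap O Q)) (I : Ideal O) (hI : RingHom.ker (algebraMap O Q) = I)
    [AddCommGroup N] [Module O N] :
    IsAssociatedPrime (maximalIdeal O) (N ⧸ (I • (⊤ : Submodule O N))) ↔
      IsAssociatedPrime (maximalIdeal Q) (Q ⊗[O] N) := by
  subst hI
  let e₀ : (O ⧸ RingHom.ker (algebraMap O Q)) ≃ₐ[O] Q := Ideal.quotientKerAlgEquivOfSurjective (f := Algebra.ofId O Q) hsurj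
  let e : (N ⧸ (RingHom.ker (algebraMap O Q) • (⊤ : Submodule O N))) ≃ₗ[O] Q ⊗[O] N :=
    (TensorProduct.quotTensorEquivQuotSMul N _).symm.trans (TensorProduct.congr e₀.toLinearEquiv (LinearEquiv.refl O N))
  rw [LinearEquiv.isAssociatedPrime_iff e]
  exact isAssociatedPrime_maximal_iff_of_surjective hsurj

variable {Q Q' M : Type u} [CommRing Q] [CommRing Q'] [IsLocalRing Q] [IsLocalRing Q'] [IsNoetherianRing Q]
  [Algebra Q Q'] [IsLocalHom (algebraMap Q Q')] [Module.Flat Q Q'] [AddCommGroup M] [Module Q M]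

/-- The maximal ideal is associated below if it is associated after a flat local base change. -/
theorem isAssociatedPrime_of_tensor [Module.Finite Q M] (h : IsAssociatedPrime (maximalIdeal Q') (Q' ⊗[Q] M)) :
    IsAssociatedPrime (maximalIdeal Q) M := by
  by_contra hno
  obtain ⟨a, ham, ha⟩ : ∃ a ∈ maximalIdeal Q, ∀ x : M, a • x = 0 → x = 0 := by
    by_contra hh
    push Not at hh
    have h1 : (maximalIdeal Q : Set Q) ⊆ ⋃ p ∈ associatedPrimes Q M, (p : Set Q) := fun a ha => by
      rw [biUnion_associatedPrimes_eq_zero_divisors]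
      obtain ⟨x, hx, hx0⟩ := hh a ha
      exact ⟨x, hx0, hx⟩
    obtain ⟨P, hP, hle⟩ := (Ideal.subset_union_prime_finite (associatedPrimes.finite Q M) ⊤ ⊤
      fun p hp _ _ => IsAssociatedPrime.isPrime hp).1 h1
    rw [(maximalIdeal.isMaximal Q).eq_of_le (IsAssociatedPrime.isPrime hP).ne_top hle] at hno
    exact hno hP
  have hinj : Function.Injective ((LinearMap.lsmul Q M a).lTensor Q') :=
    Module.Flat.lTensor_preserves_injective_linearMap _ ((injective_iff_map_eq_zero _).2 ha)
  obtain ⟨hprime, z, hz⟩ := h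
  have hz0 : ∀ z : Q' ⊗[Q] M, algebraMap Q Q' a • z = 0 → z = 0 := fun z hz => hinj (by
    rw [map_zero, ← hz, algebraMap_smul]
    clear hz
    induction z with
    | zero => simp
    | tmul q m => rw [LinearMap.lTensor_tmul, TensorProduct.smul_tmul', LinearMap.lsmul_apply, TensorProduct.smul_tmul]
    | add x y hx hy => rw [map_add, smul_add, hx, hy])
  have ha' : algebraMap Q Q' a ∈ maximalIdeal Q' := map_nonunit (algebraMap Q Q') a ham
  rw [hz] at ha'
  obtain ⟨n, hn⟩ := ha'
  rw [Submodule.mem_colon_singleton, Submodule.mem_bot] at hn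
  have hzero : z = 0 := by
    clear hz
    induction n with
    | zero => simpa using hn
    | succ k ih => exact ih (hz0 _ (by rw [← mul_smul, ← pow_succ']; exact hn))
  refine hprime.ne_top (hz.trans (Ideal.eq_top_iff_one _ |>.2 ⟨1, ?_⟩))
  rw [hzero, Submodule.mem_colon_singleton, smul_zero]
  exact Submodule.zero_mem _

/-- The maximal ideal is associated after a flat local base change with zero-dimensional closed fibre. -/
theorem isAssociatedPrime_tensor (h : IsAssociatedPrime (maximalIdeal Q) M)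
    (hdim : ∀ P : Ideal Q', P.IsPrime → (maximalIdeal Q).map (algebraMap Q Q') ≤ P → P = maximalIdeal Q') :
    IsAssociatedPrime (maximalIdeal Q') (Q' ⊗[Q] M) := by
  obtain ⟨-, x, hx⟩ := isAssociatedPrime_iff.1 h
  haveI : Module.FaithfullyFlat Q Q' := Module.FaithfullyFlat.of_flat_of_isLocalHom
  have hx0 : x ≠ 0 := fun h0 => (maximalIdeal.isMaximal Q).ne_top ((Ideal.eq_top_iff_one _).2 (by
    rw [hx, h0, Submodule.mem_colon_singleton, smul_zero]; exact Submodule.zero_mem _))
  have h1 : (1 : Q') ⊗ₜ[Q] x ≠ 0 := fun h0 =>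
    hx0 (Module.FaithfullyFlat.tensorProduct_mk_injective (A := Q) (B := Q') M (h0.trans (TensorProduct.tmul_zero _ _).symm))
  refine ⟨(maximalIdeal.isMaximal Q').isPrime, (1 : Q') ⊗ₜ[Q] x, ?_⟩
  have hle : (maximalIdeal Q).map (algebraMap Q Q') ≤ (⊥ : Submodule Q' (Q' ⊗[Q] M)).colon {(1 : Q') ⊗ₜ[Q] x} :=
    Ideal.map_le_iff_le_comap.2 fun a ha => by
      rw [hx, Submodule.mem_colon_singleton, Submodule.mem_bot] at ha
      rw [Ideal.mem_comap, Submodule.mem_colon_singleton, Submodule.mem_bot, algebraMap_smul,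
        TensorProduct.smul_tmul', TensorProduct.smul_tmul, ha, TensorProduct.tmul_zero]
  refine le_antisymm ?_ (IsLocalRing.le_maximalIdeal fun htop => h1 ?_)
  · rw [Ideal.radical_eq_sInf]
    exact le_sInf fun P ⟨hP, hPp⟩ => (hdim P hPp (hle.trans hP)).ge
  · rw [Ideal.radical_eq_top] at htop
    have := (htop ▸ Submodule.mem_top : (1 : Q') ∈ (⊥ : Submodule Q' (Q' ⊗[Q] M)).colon {(1 : Q') ⊗ₜ[Q] x})
    rwa [Submodule.mem_colon_singleton, one_smul, Submodule.mem_bot] at this

end FlatInjLib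

namespace FlatInjLib

variable {X S X' S' : Scheme.{u}} (f : X ⟶ S) [LocallyOfFiniteType f] (F : X.Modules) [Coh.IsQCoh F]
  (hF : CohB1.IsFT F) (g : S' ⟶ S) (f' : X' ⟶ S') (g' : X' ⟶ X)

include hF in
theorem relAss_fibre_compare (s' : S') (a : f'.fiber s' ⟶ f.fiber (g s')) [Flat a]
    (ha : a ≫ f.fiberι (g s') = f'.fiberι s' ≫ g') (y : ↥(f'.fiber s')) :
    ((f'.fiberι s') y ∈ MoreMor.relAss f' ((Scheme.Modules.pullback g').obj F) →
      (f.fiberι (g s')) (a y) ∈ MoreMor.relAss f F) ∧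
    ((∀ P : Ideal ((f'.fiber s').presheaf.stalk y), P.IsPrime →
        (maximalIdeal ((f.fiber (g s')).presheaf.stalk (a y))).map (a.stalkMap y).hom ≤ P → P = maximalIdeal _) →
      (f.fiberι (g s')) (a y) ∈ MoreMor.relAss f F →
      (f'.fiberι s') y ∈ MoreMor.relAss f' ((Scheme.Modules.pullback g').obj F)) := by
  let ι' := f'.fiberι s'
  let ι := f.fiberι (g s')
  have hpt : ι (a y) = g' (ι' y) := congrArg (fun m : f'.fiber s' ⟶ X => m.base y) ha
  haveI : LocallyOfFiniteType (f.fiberToSpecResidueField (g s')) := UOpenLib.lft_fiberToSpec f _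
  haveI : IsLocallyNoetherian (f.fiber (g s')) :=
    LocallyOfFiniteType.isLocallyNoetherian (f.fiberToSpecResidueField (g s'))
  have key2 : ∀ (x₂ : X) (hx₂ : x₂ = g' (ι' y)) (φ : X.presheaf.stalk x₂ ⟶ (f.fiber (g s')).presheaf.stalk (a y)),
      φ ≫ a.stalkMap y = X.presheaf.stalkSpecializes (hx₂ ▸ specializes_rfl) ≫ g'.stalkMap (ι' y) ≫ ι'.stalkMap y →
      Function.Surjective φ.hom → RingHom.ker φ.hom = Ideal.map (f.stalkMap x₂).hom (maximalIdeal _) →
      (ι' y ∈ MoreMor.relAss f' ((Scheme.Modules.pullback g').obj F) → x₂ ∈ MoreMor.relAss f F) ∧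
      ((∀ P : Ideal ((f'.fiber s').presheaf.stalk y), P.IsPrime →
          (maximalIdeal ((f.fiber (g s')).presheaf.stalk (a y))).map (a.stalkMap y).hom ≤ P → P = maximalIdeal _) →
        x₂ ∈ MoreMor.relAss f F → ι' y ∈ MoreMor.relAss f' ((Scheme.Modules.pullback g').obj F)) := by
    rintro x₂ rfl φ hφ hsurj hker
    obtain ⟨hsurj', hker'⟩ := Groth.Agent.S9501.result f' s' y
    let O := X.presheaf.stalk (g' (ι' y))
    let O' := X'.presheaf.stalk (ι' y)
    let Q := (f.fiber (g s')).presheaf.stalk (a y)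
    let Q' := (f'.fiber s').presheaf.stalk y
    letI : Algebra O O' := (g'.stalkMap (ι' y)).hom.toAlgebra
    letI : Algebra O' Q' := (ι'.stalkMap y).hom.toAlgebra
    letI : Algebra O Q := φ.hom.toAlgebra
    letI : Algebra Q Q' := (a.stalkMap y).hom.toAlgebra
    letI : Algebra O Q' := ((g'.stalkMap (ι' y)) ≫ ι'.stalkMap y).hom.toAlgebra
    haveI : IsScalarTower O O' Q' := IsScalarTower.of_algebraMap_eq fun _ => rfl
    haveI : IsScalarTower O Q Q' := IsScalarTower.of_algebraMap_eq fun o => by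
      show ((g'.stalkMap (ι' y)) ≫ ι'.stalkMap y).hom o = (φ ≫ a.stalkMap y).hom o
      rw [hφ]; simp
    haveI : Module.Flat Q Q' := Flat.stalkMap a y
    haveI : IsLocalHom (algebraMap Q Q') := inferInstanceAs (IsLocalHom (a.stalkMap y).hom)
    obtain ⟨e, -⟩ := CohCmpLib.exists_stalkPullEquiv g' F (ι' y)
    haveI : Module.Finite O (CohCmpLib.stk F (g' (ι' y))) := DepthLib.finite_stalk F hF _
    let M := Q ⊗[O] CohCmpLib.stk F (g' (ι' y))
    have h1 : g' (ι' y) ∈ MoreMor.relAss f F ↔ IsAssociatedPrime (maximalIdeal Q) M :=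
      isAssociatedPrime_quot_iff hsurj _ hker
    let e₂ : Q' ⊗[O'] CohCmpLib.stk (KFlatLib.pb g' F) (ι' y) ≃ₗ[Q'] Q' ⊗[Q] M :=
      (TensorProduct.AlgebraTensorModule.congr (LinearEquiv.refl Q' Q') e.symm).trans
        ((TensorProduct.AlgebraTensorModule.cancelBaseChange O O' Q' Q' _).trans
          (TensorProduct.AlgebraTensorModule.cancelBaseChange O Q Q' Q' _).symm)
    have h2 : ι' y ∈ MoreMor.relAss f' ((Scheme.Modules.pullback g').obj F) ↔
        IsAssociatedPrime (maximalIdeal Q') (Q' ⊗[Q] M) :=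
      (isAssociatedPrime_quot_iff (N := CohCmpLib.stk (KFlatLib.pb g' F) (ι' y)) hsurj' _ hker').trans
        (LinearEquiv.isAssociatedPrime_iff e₂)
    exact ⟨fun h => h1.2 (isAssociatedPrime_of_tensor (h2.1 h)),
      fun hd h => h2.2 (isAssociatedPrime_tensor (h1.1 h) hd)⟩
  obtain ⟨hsurj, hker⟩ := Groth.Agent.S9501.result f (g s') (a y)
  refine key2 (ι (a y)) hpt (ι.stalkMap (a y)) ?_ hsurj hker
  refine (Scheme.Hom.stalkMap_comp a ι y).symm.trans ?_
  rw [Scheme.Hom.stalkMap_congr_hom _ _ ha y]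
  exact congrArg (_ ≫ ·) (Scheme.Hom.stalkMap_comp ι' g' y)

include hF in
theorem relAss_subset_iff (U : X.Opens) (hc : IsPullback g' f' f g) (s' : S') :
    {x : ↑X | x ∈ MoreMor.relAss f F ∧ f x = g s'} ⊆ (U : Set ↑X) ↔
      {x' : ↑X' | x' ∈ MoreMor.relAss f' ((Scheme.Modules.pullback g').obj F) ∧ f' x' = s'} ⊆
        (g' ⁻¹ᵁ U : Set ↑X') := by
  haveI : LocallyOfFiniteType f' := MorphismProperty.of_isPullback hc ‹_›
  have hsq := isPullback_fiberToSpecResidueField_of_isPullback hc s'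
  let a := pullback.lift (f'.fiberι s' ≫ g') (f'.fiberToSpecResidueField s' ≫
      Spec.map (g.residueFieldMap s')) (by
    rw [Category.assoc, Category.assoc, hc.w, Scheme.Hom.SpecMap_residueFieldMap_fromSpecResidueField]
    exact pullback.condition_assoc _) (f := f) (g := S.fromSpecResidueField (g s'))
  replace hsq : IsPullback a (f'.fiberToSpecResidueField s')
      (f.fiberToSpecResidueField (g s')) (Spec.map (g.residueFieldMap s')) := hsq
  haveI hflat : Flat (Spec.map (g.residueFieldMap s')) := by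
    rw [HasRingHomProperty.Spec_iff (P := @Flat)]
    letI := (g.residueFieldMap s').hom.toAlgebra
    exact RingHom.flat_algebraMap_iff.2 inferInstance
  haveI : Surjective (Spec.map (g.residueFieldMap s')) := ⟨fun x => ⟨default, Subsingleton.elim _ _⟩⟩
  haveI hfa : @Flat (f'.fiber s') (f.fiber (g s')) a := MorphismProperty.of_isPullback hsq.flip hflat
  haveI : Surjective a := MorphismProperty.of_isPullback hsq.flip ‹Surjective (Spec.map _)›
  have ha : a ≫ f.fiberι (g s') = f'.fiberι s' ≫ g' := pullback.lift_fst _ _ _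
  have hι : ∀ w, (f.fiberι (g s')) (a w) = g' ((f'.fiberι s') w) := fun w =>
    congrArg (fun m : f'.fiber s' ⟶ X => m.base w) ha
  constructor
  · rintro h x' ⟨hx', hs⟩
    obtain ⟨y, rfl⟩ : x' ∈ Set.range (f'.fiberι s') := by rw [f'.range_fiberι]; exact hs
    show g' ((f'.fiberι s') y) ∈ U
    rw [← hι]
    haveI := hfa
    refine h ⟨(@relAss_fibre_compare _ _ _ _ f _ F _ hF g f' g' s' a hfa ha y).1 hx', ?_⟩
    have h1 : (f.fiberι (g s')) (a y) ∈ Set.range (f.fiberι (g s')) := ⟨_, rfl⟩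
    rwa [f.range_fiberι] at h1
  · rintro h x ⟨hx, hs⟩
    obtain ⟨z, rfl⟩ : x ∈ Set.range (f.fiberι (g s')) := by rw [f.range_fiberι]; exact hs
    obtain ⟨y₀, rfl⟩ := a.surjective z
    obtain ⟨ξ, -, hξ⟩ := AlgSpLib.exists_maximal_generization (a.asFiber y₀)
    let y := (a.fiberι (a y₀)) ξ
    have hy : a y = a y₀ := by
      have h1 : y ∈ Set.range (a.fiberι (a y₀)) := ⟨ξ, rfl⟩
      rwa [a.range_fiberι] at h1
    have hdim : ∀ P : Ideal ((f'.fiber s').presheaf.stalk y), P.IsPrime →
        (maximalIdeal ((f.fiber (g s')).presheaf.stalk (a y))).map (a.stalkMap y).hom ≤ P → P = maximalIdeal _ := by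
      intro P hP hle
      obtain ⟨hsurj, hker⟩ := Groth.Agent.S9501.result a (a y₀) ξ
      haveI : Ring.KrullDimLE 0 ((a.fiber (a y₀)).presheaf.stalk ξ) :=
        Ring.krullDimLE_iff.2 (AlgSpLib.stalkDim_eq_zero_of_maximal ξ hξ).le
      have hker' : RingHom.ker ((a.fiberι (a y₀)).stalkMap ξ).hom ≤ P := hker.trans_le hle
      haveI := hP
      have hPmax : (P.map ((a.fiberι (a y₀)).stalkMap ξ).hom).IsMaximal :=
        (Ideal.map_isPrime_of_surjective hsurj hker').isMaximal'
      have h2 := Ideal.comap_map_of_surjective' _ hsurj P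
      rw [sup_eq_left.2 hker'] at h2
      haveI := Ideal.comap_isMaximal_of_surjective _ hsurj (K := P.map ((a.fiberι (a y₀)).stalkMap ξ).hom)
      rw [h2] at this
      exact IsLocalRing.eq_maximalIdeal this
    have hgy : g' ((f'.fiberι s') y) = (f.fiberι (g s')) (a y₀) := by rw [← hι, hy]
    rw [← hgy]
    refine h ⟨(@relAss_fibre_compare _ _ _ _ f _ F _ hF g f' g' s' a hfa ha y).2 hdim ((congrArg (f.fiberι (g s')) hy).symm ▸ hx), ?_⟩
    have h1 : (f'.fiberι s') y ∈ Set.range (f'.fiberι s') := ⟨_, rfl⟩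
    rwa [f'.range_fiberι] at h1

end FlatInjLib
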