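import Groth.Agent.FlatInjLib.FibreFree
import Groth.Agent.CohCmpLib.FrameTools
import Groth.Agent.AlgSpLib.FibStalkBC
import Groth.Agent.S9501

/-! # The free locus of a flat finitely presented module and base change -/

set_option autoImplicit false

universe u

open IsLocalRing CategoryTheory CategoryTheory.Limits AlgebraicGeometry
open scoped TensorProduct

namespace FlatInjLib

theorem free_of_free_tensor {A O O' Q' N : Type u} [CommRing A] [CommRing O] [CommRing O'] [CommRing Q']
    [IsLocalRing A] [IsLocalRing O] [IsLocalRing Q'] [Algebra A O] [IsLocalHom (algebraMap A O)]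
    [AddCommGroup N] [Module O N] [Module A N] [IsScalarTower A O N] [Module.FinitePresentation O N]
    [Module.Flat A N] [Algebra O O'] [Algebra O' Q'] [Algebra O Q'] [IsScalarTower O O' Q']
    (I : Ideal O) (hI : I = (maximalIdeal A).map (algebraMap A O)) (ψ : O ⧸ I →+* Q')
    (hψ : ∀ o, ψ (Ideal.Quotient.mk _ o) = algebraMap O Q' o) (hflat : ψ.Flat) [IsLocalHom ψ]
    (hfree : Module.Flat O' (O' ⊗[O] N)) : Module.Free O N := by
  letI := ψ.toAlgebra
  haveI : IsScalarTower O (O ⧸ I) Q' := IsScalarTower.of_algebraMap_eq fun o => (hψ o).symm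
  have hIle : I ≤ maximalIdeal O := hI ▸ Ideal.map_le_iff_le_comap.2 fun a ha hu =>
    ha (IsUnit.of_map (algebraMap A O) a hu)
  haveI : Nontrivial (O ⧸ I) :=
    Ideal.Quotient.nontrivial_iff.2 fun h => maximalIdeal.isMaximal O |>.ne_top (top_le_iff.1 (h ▸ hIle))
  haveI : IsLocalRing (O ⧸ I) := IsLocalRing.of_surjective' _ Ideal.Quotient.mk_surjective
  haveI : IsLocalHom (algebraMap (O ⧸ I) Q') := by assumption
  haveI : Module.Flat (O ⧸ I) Q' := hflat
  haveI : Module.FaithfullyFlat (O ⧸ I) Q' := Module.FaithfullyFlat.of_flat_of_isLocalHom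
  subst hI
  refine free_of_flat_of_flat_fibre (A := A) ?_
  haveI : Module.Flat Q' (Q' ⊗[O] N) :=
    Module.Flat.of_linearEquiv
      (TensorProduct.AlgebraTensorModule.cancelBaseChange O O' Q' Q' N).symm
  let e := (TensorProduct.quotTensorEquivQuotSMul N ((maximalIdeal A).map (algebraMap A O))).extendScalarsOfSurjective
    (S := O ⧸ (maximalIdeal A).map (algebraMap A O)) Ideal.Quotient.mk_surjective
  haveI : Module.Flat Q' (Q' ⊗[O ⧸ (maximalIdeal A).map (algebraMap A O)] ((O ⧸ (maximalIdeal A).map (algebraMap A O)) ⊗[O] N)) :=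
    Module.Flat.of_linearEquiv (TensorProduct.AlgebraTensorModule.cancelBaseChange O (O ⧸ (maximalIdeal A).map (algebraMap A O)) Q' Q' N)
  haveI : Module.Flat (O ⧸ (maximalIdeal A).map (algebraMap A O)) ((O ⧸ (maximalIdeal A).map (algebraMap A O)) ⊗[O] N) :=
    Module.Flat.of_flat_tensorProduct (O ⧸ (maximalIdeal A).map (algebraMap A O)) _ Q'
  exact Module.Flat.of_linearEquiv e.symm

theorem free_stalk_pullback_iff {X S X' S' : Scheme.{u}} (f : X ⟶ S) (F : X.Modules) (hF : CohB1.IsFP F)
    (hfl : FlatMod.IsFlatOver f F) (g : S' ⟶ S) (f' : X' ⟶ S') (g' : X' ⟶ X) (hc : IsPullback g' f' f g)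
    (x' : X') :
    Module.Free (X'.presheaf.stalk x') (((Scheme.Modules.pullback g').obj F).presheaf.stalk x') ↔
      Module.Free (X.presheaf.stalk (g' x')) (F.presheaf.stalk (g' x')) := by
  letI := (g'.stalkMap x').hom.toAlgebra
  obtain ⟨e, -⟩ := CohCmpLib.exists_stalkPullEquiv g' F x'
  constructor
  · intro h
    haveI : Coh.IsQCoh F := by
      haveI : SheafOfModules.IsFinitePresentation (R := X.ringCatSheaf) F := hF
      infer_instance
    haveI hfp : Module.FinitePresentation (X.presheaf.stalk (g' x')) (F.presheaf.stalk (g' x')) :=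
      finitePresentation_stalk hF _
    have hsq := isPullback_fiberToSpecResidueField_of_isPullback hc (f'.base x')
    let a := pullback.lift (f'.fiberι (f'.base x') ≫ g') (f'.fiberToSpecResidueField (f'.base x') ≫
        Spec.map (g.residueFieldMap (f'.base x'))) (by
      rw [Category.assoc, Category.assoc, hc.w, Scheme.Hom.SpecMap_residueFieldMap_fromSpecResidueField]
      exact pullback.condition_assoc _) (f := f) (g := S.fromSpecResidueField (g (f'.base x')))
    replace hsq : IsPullback a (f'.fiberToSpecResidueField (f'.base x'))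
        (f.fiberToSpecResidueField (g (f'.base x'))) (Spec.map (g.residueFieldMap (f'.base x'))) := hsq
    haveI : Flat (Spec.map (g.residueFieldMap (f'.base x'))) := by
      rw [HasRingHomProperty.Spec_iff (P := @Flat)]
      letI := (g.residueFieldMap (f'.base x')).hom.toAlgebra
      exact RingHom.flat_algebraMap_iff.2 inferInstance
    haveI : Flat a := MorphismProperty.of_isPullback hsq.flip ‹Flat (Spec.map _)›
    have ha : a ≫ f.fiberι (g (f'.base x')) = f'.fiberι (f'.base x') ≫ g' := pullback.lift_fst _ _ _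
    -- everything at an arbitrary point of the fibre over `x'`
    have key : ∀ (y : ↥(f'.fiber (f'.base x'))) (x₁ : X'), f'.fiberι (f'.base x') y = x₁ →
        Module.Free (X'.presheaf.stalk x₁) (((Scheme.Modules.pullback g').obj F).presheaf.stalk x₁) →
        Module.Free (X.presheaf.stalk (g' x₁)) (F.presheaf.stalk (g' x₁)) := by
      rintro y x₁ rfl hfree
      let ι' := f'.fiberι (f'.base x')
      let ι := f.fiberι (g (f'.base x'))
      have hpt : ι (a y) = g' (ι' y) := congrArg (fun m : f'.fiber (f'.base x') ⟶ X => m.base y) ha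
      have key2 : ∀ (x₂ : X) (hx₂ : x₂ = g' (ι' y)) (φ : X.presheaf.stalk x₂ ⟶ (f'.fiber (f'.base x')).presheaf.stalk y),
          φ = X.presheaf.stalkSpecializes (hx₂ ▸ specializes_rfl) ≫ g'.stalkMap (ι' y) ≫ ι'.stalkMap y →
          ∀ (I : Ideal (X.presheaf.stalk x₂)), I = Ideal.map (f.stalkMap x₂).hom (maximalIdeal _) →
          ∀ (ψ : X.presheaf.stalk x₂ ⧸ I →+* (f'.fiber (f'.base x')).presheaf.stalk y),
            (∀ o, ψ (Ideal.Quotient.mk I o) = φ.hom o) → ψ.Flat → IsLocalHom ψ →
            Module.Free (X.presheaf.stalk x₂) (F.presheaf.stalk x₂) := by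
        rintro x₂ rfl φ hφ I rfl ψ hψ hflat hloc
        letI := (g'.stalkMap (ι' y)).hom.toAlgebra
        obtain ⟨e, -⟩ := CohCmpLib.exists_stalkPullEquiv g' F (ι' y)
        letI := (ι'.stalkMap y).hom.toAlgebra
        letI : Algebra (X.presheaf.stalk (g' (ι' y))) ((f'.fiber (f'.base x')).presheaf.stalk y) :=
          ((g'.stalkMap (ι' y)) ≫ ι'.stalkMap y).hom.toAlgebra
        haveI : IsScalarTower (X.presheaf.stalk (g' (ι' y))) (X'.presheaf.stalk (ι' y))
            ((f'.fiber (f'.base x')).presheaf.stalk y) := IsScalarTower.of_algebraMap_eq fun _ => rfl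
        letI : Algebra (S.presheaf.stalk (f.base (g' (ι' y)))) (X.presheaf.stalk (g' (ι' y))) :=
          (f.stalkMap (g' (ι' y))).hom.toAlgebra
        letI := FlatMod.moduleStalkOver f F (g' (ι' y))
        haveI : IsScalarTower (S.presheaf.stalk (f.base (g' (ι' y)))) (X.presheaf.stalk (g' (ι' y)))
            (F.presheaf.stalk (g' (ι' y))) := IsScalarTower.of_algebraMap_smul fun _ _ => rfl
        haveI : Module.Flat (S.presheaf.stalk (f.base (g' (ι' y)))) (F.presheaf.stalk (g' (ι' y))) :=
          hfl (g' (ι' y))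
        haveI : Module.FinitePresentation (X.presheaf.stalk (g' (ι' y))) (F.presheaf.stalk (g' (ι' y))) :=
          finitePresentation_stalk hF _
        haveI : IsLocalHom (algebraMap (S.presheaf.stalk (f.base (g' (ι' y)))) (X.presheaf.stalk (g' (ι' y)))) :=
          inferInstanceAs (IsLocalHom (f.stalkMap (g' (ι' y))).hom)
        haveI := hloc
        refine free_of_free_tensor (A := S.presheaf.stalk (f.base (g' (ι' y))))
          (O' := X'.presheaf.stalk (ι' y)) _ rfl ψ (fun o => ?_) hflat ?_
        · refine (hψ o).trans ?_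
          rw [hφ]
          simp [RingHom.algebraMap_toAlgebra]
        · haveI : Module.Free (X'.presheaf.stalk (ι' y)) (CohCmpLib.stk (KFlatLib.pb g' F) (ι' y)) := hfree
          haveI : Module.Flat (X'.presheaf.stalk (ι' y)) (CohCmpLib.stk (KFlatLib.pb g' F) (ι' y)) :=
            Module.Flat.of_free
          exact Module.Flat.of_linearEquiv (N := X'.presheaf.stalk (ι' y) ⊗[X.presheaf.stalk (g' (ι' y))] CohCmpLib.stk F (g' (ι' y))) e
      obtain ⟨hsurj, hker⟩ := Groth.Agent.S9501.result f (g (f'.base x')) (a y)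
      let ψ₀ := ((Ideal.quotEquivOfEq hker.symm).trans (RingHom.quotientKerEquivOfSurjective hsurj))
      have hfree' := key2 (ι (a y)) hpt (ι.stalkMap (a y) ≫ a.stalkMap y) ?_ _ rfl
        ((a.stalkMap y).hom.comp ψ₀.toRingHom) (fun o => rfl)
        (RingHom.Flat.comp (RingHom.Flat.of_bijective ψ₀.bijective) (Flat.stalkMap a y))
        (by
          haveI : IsLocalHom (a.stalkMap y).hom := inferInstance
          refine ⟨fun o ho => ?_⟩
          have h1 : IsUnit (ψ₀ o) := (isUnit_map_iff (a.stalkMap y).hom _).1 ho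
          simpa using h1.map ψ₀.symm)
      · exact hpt ▸ hfree'
      · refine (Scheme.Hom.stalkMap_comp a ι y).symm.trans ?_
        rw [Scheme.Hom.stalkMap_congr_hom _ _ ha y]
        exact congrArg (_ ≫ ·) (Scheme.Hom.stalkMap_comp ι' g' y)
    exact key (f'.asFiber x') x' (f'.fiberι_asFiber x') h
  · intro h
    haveI : Module.Free (X.presheaf.stalk (g' x')) (CohCmpLib.stk F (g' x')) := h
    exact Module.Free.of_equiv e

end FlatInjLib
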