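import Groth.Agent.FibDimLib.FieldExt
import Groth.Agent.DepthLib.FibPDZero
import Groth.Prelude.Def_FlatCA
import Mathlib

/-! # Base change of one-step dévissages -/

set_option autoImplicit false

universe u

open scoped TensorProduct
open CategoryTheory AlgebraicGeometry

namespace FlatInjLib

theorem supportDim_baseChange {k K A A' : Type u} [Field k] [Field K] [Algebra k K] [CommRing A] [CommRing A']
    [Algebra k A] [Algebra.FiniteType k A] [Algebra K A'] [Algebra k A'] [Algebra A A']
    [IsScalarTower k K A'] [IsScalarTower k A A'] [Algebra.IsPushout k K A A']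
    (M : Type u) [AddCommGroup M] [Module A M] [Module.Finite A M] :
    Module.supportDim A' (A' ⊗[A] M) = Module.supportDim A M := by
  rw [Module.supportDim_eq_ringKrullDim_quotient_annihilator A M]
  have h : Module.support A' (A' ⊗[A] M) =
      PrimeSpectrum.zeroLocus (((Module.annihilator A M).map (algebraMap A A') : Ideal A') : Set A') := by
    ext q
    rw [DepthLib.mem_support_baseChange, Module.support_eq_zeroLocus, PrimeSpectrum.mem_zeroLocus,
      PrimeSpectrum.mem_zeroLocus, SetLike.coe_subset_coe, SetLike.coe_subset_coe, Ideal.map_le_iff_le_comap]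
    rfl
  rw [Module.supportDim, h, ← ringKrullDim_quotient]
  rw [ringKrullDim_eq_of_ringEquiv (Algebra.TensorProduct.quotIdealMapEquivTensorQuot A' (Module.annihilator A M)).toRingEquiv]
  rw [ringKrullDim_eq_of_ringEquiv (Algebra.IsPushout.cancelBaseChangeAlg k K A A' (A ⧸ Module.annihilator A M)).toRingEquiv]
  rw [ringKrullDim_eq_of_ringEquiv (Algebra.TensorProduct.comm k K (A ⧸ Module.annihilator A M)).toRingEquiv]
  haveI : Algebra.FiniteType k (A ⧸ Module.annihilator A M) :=
    Algebra.FiniteType.of_surjective (Ideal.Quotient.mkₐ k _) Ideal.Quotient.mk_surjective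
  exact FibDimLib.ringKrullDim_baseChange k K _

section

attribute [local instance] Algebra.TensorProduct.rightAlgebra

theorem supportDim_fiberMod_baseChange {R S : Type u} [CommRing R] [CommRing S] [Algebra R S]
    [Algebra.FiniteType R S] (N : Type u) [AddCommGroup N] [Module S N] [Module R N] [IsScalarTower R S N]
    [Module.Finite S N] (p : Ideal R) [p.IsPrime] {R' : Type u} [CommRing R'] [Algebra R R']
    (p' : Ideal R') [p'.IsPrime] [p'.LiesOver p] {S' : Type u} [CommRing S'] [Algebra R' S'] [Algebra R S']
    [Algebra S S'] [IsScalarTower R R' S'] [IsScalarTower R S S'] [Algebra.IsPushout R R' S S']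
    {N' : Type u} [AddCommGroup N'] [Module S' N'] [Module R' N'] [IsScalarTower R' S' N']
    [Module S N'] [IsScalarTower S S' N'] (f : N →ₗ[S] N') (hf : IsBaseChange S' f) :
    Module.supportDim (p'.Fiber S') (FlatCA.fiberMod p' S' N') =
      Module.supportDim (p.Fiber S) (FlatCA.fiberMod p S N) := by
  letI : Algebra p.ResidueField p'.ResidueField :=
    (Ideal.ResidueField.mapₐ p p' (Algebra.ofId R R') (p'.over_def p)).toRingHom.toAlgebra
  haveI : IsScalarTower R p.ResidueField p'.ResidueField :=
    IsScalarTower.of_algebraMap_eq fun r => ((Ideal.ResidueField.mapₐ p p' (Algebra.ofId R R') (p'.over_def p)).commutes r).symm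
  let A := p.Fiber S
  let A' := p'.Fiber S'
  letI : Algebra S A' := ((algebraMap S' A').comp (algebraMap S S')).toAlgebra
  haveI : IsScalarTower S S' A' := IsScalarTower.of_algebraMap_eq fun _ => rfl
  haveI : IsScalarTower R R' A' := inferInstance
  haveI : IsScalarTower R S A' := IsScalarTower.of_algebraMap_eq fun r => by
    rw [IsScalarTower.algebraMap_apply R R' A', IsScalarTower.algebraMap_apply R' S' A',
      ← IsScalarTower.algebraMap_apply R R' S', IsScalarTower.algebraMap_apply R S S']
    rfl
  haveI : IsScalarTower R S' A' := IsScalarTower.of_algebraMap_eq fun r => by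
    rw [IsScalarTower.algebraMap_apply R R' A', IsScalarTower.algebraMap_apply R' S' A',
      ← IsScalarTower.algebraMap_apply R R' S']
  let φ : A →ₐ[p.ResidueField] A' :=
    Algebra.TensorProduct.lift (Algebra.ofId p.ResidueField A')
      (IsScalarTower.toAlgHom R S A') fun _ _ => Commute.all _ _
  letI : Algebra A A' := φ.toRingHom.toAlgebra
  haveI : IsScalarTower p.ResidueField A A' := IsScalarTower.of_algebraMap_eq fun x => (φ.commutes x).symm
  haveI : IsScalarTower S A A' := IsScalarTower.of_algebraMap_eq fun s => by
    show algebraMap S A' s = φ (1 ⊗ₜ s)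
    rw [Algebra.TensorProduct.lift_tmul, map_one, one_mul]
    rfl
  haveI : IsScalarTower R A A' := IsScalarTower.of_algebraMap_eq fun r => by
    exact (IsScalarTower.algebraMap_apply R S A' r).trans ((IsScalarTower.algebraMap_apply S A A' _).trans
      (congrArg (algebraMap A A') (IsScalarTower.algebraMap_apply R S A r).symm))
  haveI h1 : Algebra.IsPushout R p'.ResidueField S A' := by
    haveI : Algebra.IsPushout R R' S S' := inferInstance
    haveI : Algebra.IsPushout R' p'.ResidueField S' A' := inferInstance
    haveI : Algebra.IsPushout R R' S S' := inferInstance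
    exact (Algebra.IsPushout.comp_iff (R := R) (S := R') (R' := S) (S' := S') (T := p'.ResidueField) (T' := A')).2 inferInstance
  haveI : Algebra.IsPushout p.ResidueField p'.ResidueField A A' :=
    (Algebra.IsPushout.comp_iff (R := R) (S := p.ResidueField) (R' := S) (S' := A) (T := p'.ResidueField) (T' := A')).1 h1
  haveI : Module.Finite A (FlatCA.fiberMod p S N) := Module.Finite.base_change S A N
  haveI : Algebra.FiniteType p.ResidueField A := inferInstance
  rw [← supportDim_baseChange (k := p.ResidueField) (K := p'.ResidueField) (A := A) (A' := A')]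
  refine Module.supportDim_eq_of_equiv ?_
  exact (TensorProduct.AlgebraTensorModule.congr (LinearEquiv.refl A' A') hf.equiv.symm).trans
    ((TensorProduct.AlgebraTensorModule.cancelBaseChange S S' A' A' N).trans
      (TensorProduct.AlgebraTensorModule.cancelBaseChange S A A' A' N).symm)

end

end FlatInjLib
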