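import Groth.Agent.FlatInjLib.AssFibre
import Groth.Agent.FlatLib.OpenFP
import Groth.Agent.S1208
import Mathlib

/-!
# Finite modules over rings with finitely many weakly associated primes: flat locus
-/

set_option autoImplicit false
set_option linter.style.haveILetI false

universe u

open scoped TensorProduct

namespace FlatInjLib

variable {R S : Type u} [CommRing R] [CommRing S] [Algebra R S] {N : Type u} [AddCommGroup N] [Module S N]
  [Module R N] [IsScalarTower R S N]

/-- The prime under a weakly associated prime of a module at a flat point is weakly associated in the base. -/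
theorem under_mem_weakAss (hR : (FlatCA.weakAss R R).Finite) (q : Ideal S) [q.IsPrime]
    (hflat : FlatCA.FlatAt R q N) (z : N) (hq : q ∈ (Submodule.span S {z}).annihilator.minimalPrimes) :
    q.comap (algebraMap R S) ∈ FlatCA.weakAss R R := by
  classical
  let p := q.comap (algebraMap R S)
  by_contra hp
  let W := hR.toFinset.filter fun p' => p' ≤ p
  obtain ⟨a, hap, ha⟩ : ∃ a ∈ p, ∀ p' ∈ W, a ∉ p' := by
    have h1 : ¬ (p : Set R) ⊆ ⋃ p' ∈ (W : Set (Ideal R)), ↑p' := by
      intro hsub
      obtain ⟨p', hp', hpp'⟩ := (Ideal.subset_union_prime (f := fun p' : Ideal R => p') ⊤ ⊥ fun p' hp' _ _ => by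
        obtain ⟨m, hm⟩ := hR.mem_toFinset.1 (Finset.mem_filter.1 hp').1
        exact hm.1.1).1 hsub
      refine hp ?_
      show p ∈ _
      rw [le_antisymm hpp' (Finset.mem_filter.1 hp').2]
      exact hR.mem_toFinset.1 (Finset.mem_filter.1 hp').1
    obtain ⟨f, hf, hf'⟩ := Set.not_subset.1 h1
    exact ⟨f, hf, fun P hP h => hf' (Set.mem_iUnion₂.2 ⟨P, hP, h⟩)⟩
  let A := Localization.AtPrime p
  let B := Localization.AtPrime q
  letI : Algebra A B := (Localization.localRingHom p q (algebraMap R S) rfl).toAlgebra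
  haveI : IsScalarTower R A B := IsScalarTower.of_algebraMap_eq fun x => by
    rw [RingHom.algebraMap_toAlgebra, Localization.localRingHom_to_map, ← IsScalarTower.algebraMap_apply]
  let Nq := LocalizedModule q.primeCompl N
  letI : Module A Nq := Module.compHom Nq (algebraMap A B)
  haveI : IsScalarTower R A Nq := IsScalarTower.of_algebraMap_smul fun x y => by
    show algebraMap A B (algebraMap R _ x) • y = x • y
    rw [← IsScalarTower.algebraMap_apply, IsScalarTower.algebraMap_apply R S B, algebraMap_smul, algebraMap_smul]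
  haveI : Module.Flat A Nq := (Module.flat_iff_of_isLocalization A p.primeCompl Nq).2 hflat
  have hreg : IsSMulRegular A (algebraMap R A a) := by
    refine isSMulRegular_iff_right_eq_zero_of_smul.2 fun x hx => ?_
    obtain ⟨r, s, rfl⟩ := IsLocalization.exists_mk'_eq p.primeCompl x
    rw [smul_eq_mul, ← IsLocalization.mk'_one (M := p.primeCompl) A a, ← IsLocalization.mk'_mul, one_mul,
      IsLocalization.mk'_eq_zero_iff] at hx
    obtain ⟨c, hc⟩ := hx
    rw [IsLocalization.mk'_eq_zero_iff]
    by_contra hno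
    push Not at hno
    have hle : (Submodule.span R {r}).annihilator ≤ p := fun t ht => by
      by_contra htp
      exact hno ⟨t, htp⟩ ((Submodule.mem_annihilator_span_singleton _ _).1 ht)
    obtain ⟨p', hp', hp'p⟩ := Ideal.exists_minimalPrimes_le hle
    haveI := hp'.1.1
    have h1 : (c : R) * a ∈ p' := hp'.1.2 ((Submodule.mem_annihilator_span_singleton _ _).2 (by
      rw [smul_eq_mul, mul_assoc]; exact hc))
    exact (Ideal.IsPrime.mem_or_mem inferInstance h1).elim (fun h => c.2 (hp'p h))
      (ha p' (Finset.mem_filter.2 ⟨hR.mem_toFinset.2 ⟨r, hp'⟩, hp'p⟩))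
  have hreg' : IsSMulRegular Nq (algebraMap R A a) := by
    have h1 : IsSMulRegular (A ⊗[A] Nq) (algebraMap R A a) := hreg.rTensor Nq
    exact ((TensorProduct.lid A Nq).isSMulRegular_congr _).1 h1
  let ℓ := LocalizedModule.mkLinearMap q.primeCompl N
  obtain ⟨s, hs, k, hk⟩ : ∃ s ∉ q, ∃ k : ℕ, ((algebraMap R S a) ^ k * s) • z = 0 := by
    by_contra hh
    push Not at hh
    let M : Submonoid S := q.primeCompl ⊔ Submonoid.powers (algebraMap R S a)
    have hdis : Disjoint ((Submodule.span S {z}).annihilator : Set S) (M : Set S) := by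
      refine Set.disjoint_left.2 fun c hc hcM => ?_
      obtain ⟨s, hs, _, ⟨k, rfl⟩, rfl⟩ := Submonoid.mem_sup.1 hcM
      exact hh s hs k (by rw [mul_comm]; exact (Submodule.mem_annihilator_span_singleton _ _).1 hc)
    obtain ⟨P, hP, hJP, hPM⟩ := Ideal.exists_le_prime_disjoint _ M hdis
    have hPq : P ≤ q := fun c hc => by
      by_contra hcq
      exact Set.disjoint_left.1 hPM hc (Submonoid.mem_sup_left hcq)
    exact Set.disjoint_left.1 hPM (hq.2 ⟨hP, hJP⟩ hPq (show algebraMap R S a ∈ q from hap))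
      (Submonoid.mem_sup_right ⟨1, pow_one _⟩)
  induction k generalizing s with
  | zero =>
    rw [pow_zero, one_mul] at hk
    exact hs (hq.1.2 ((Submodule.mem_annihilator_span_singleton _ _).2 hk))
  | succ k ih =>
    rw [pow_succ', mul_assoc, mul_smul, algebraMap_smul] at hk
    have h0 : ℓ (((algebraMap R S a) ^ k * s) • z) = 0 := by
      apply hreg'
      show algebraMap R A a • (_ : Nq) = algebraMap R A a • (0 : Nq)
      rw [algebraMap_smul, smul_zero, ← LinearMap.map_smul_of_tower, hk, map_zero]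
    obtain ⟨t, ht⟩ := (IsLocalizedModule.eq_zero_iff q.primeCompl ℓ).1 h0
    refine ih (s * t) (Ideal.IsPrime.mul_notMem inferInstance hs t.2) ?_
    rw [← mul_assoc, mul_comm, mul_smul]
    exact ht

/-- Flatness at all primes of a basic open gives flatness of the localisation. -/
theorem flat_away (g : S) (h : ∀ (q : Ideal S) [q.IsPrime], g ∉ q → FlatCA.FlatAt R q N) :
    Module.Flat R (LocalizedModule (Submonoid.powers g) N) := by
  refine Module.Flat.iff_lTensor_injective.2 fun I _ => ?_
  refine (injective_iff_map_eq_zero _).2 fun w hw => ?_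
  let ℓ := LocalizedModule.mkLinearMap (Submonoid.powers g) N
  let ℓI := TensorProduct.AlgebraTensorModule.rTensor R I ℓ
  obtain ⟨⟨z, c⟩, hzc⟩ := IsLocalizedModule.surj (Submonoid.powers g) ℓI w
  have hnat : ∀ y, I.subtype.lTensor _ (ℓI y) =
      TensorProduct.AlgebraTensorModule.rTensor R R ℓ (TensorProduct.AlgebraTensorModule.lTensor S N I.subtype y) := fun y => by
    induction y using TensorProduct.induction_on with
    | zero => simp
    | tmul a b => rfl
    | add a b ha hb => simp only [map_add, ha, hb]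
  have h1 : TensorProduct.AlgebraTensorModule.rTensor R R ℓ
      (TensorProduct.AlgebraTensorModule.lTensor S N I.subtype z) = 0 := by
    rw [← hnat, ← hzc]
    show TensorProduct.AlgebraTensorModule.lTensor S _ I.subtype ((c : S) • w) = 0
    rw [map_smul]
    exact (congrArg _ hw).trans (smul_zero _)
  obtain ⟨c', hc'⟩ := (IsLocalizedModule.eq_zero_iff (Submonoid.powers g) _).1 h1
  rw [Submonoid.smul_def, ← map_smul] at hc'
  have hrad : g ∈ ((Submodule.span S {(c' : S) • z}).annihilator).radical := by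
    rw [Ideal.radical_eq_sInf, Ideal.mem_sInf]
    rintro q ⟨hle, hqp⟩
    by_contra hgq
    haveI : Module.Flat R (LocalizedModule q.primeCompl N) := h q hgq
    let k := LocalizedModule.mkLinearMap q.primeCompl N
    have h2 : TensorProduct.AlgebraTensorModule.rTensor R I k ((c' : S) • z) = 0 := by
      apply Module.Flat.lTensor_preserves_injective_linearMap (M := LocalizedModule q.primeCompl N) I.subtype I.injective_subtype
      rw [map_zero]
      have : ∀ y, I.subtype.lTensor _ (TensorProduct.AlgebraTensorModule.rTensor R I k y) =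
          TensorProduct.AlgebraTensorModule.rTensor R R k (TensorProduct.AlgebraTensorModule.lTensor S N I.subtype y) := fun y => by
        induction y using TensorProduct.induction_on with
        | zero => simp
        | tmul a b => rfl
        | add a b ha hb => simp only [map_add, ha, hb]
      rw [this, hc', map_zero]
    obtain ⟨s, hs⟩ := (IsLocalizedModule.eq_zero_iff q.primeCompl _).1 h2
    exact s.2 (hle ((Submodule.mem_annihilator_span_singleton _ _).2 hs))
  obtain ⟨n, hn⟩ := hrad
  have h3 := (Submodule.mem_annihilator_span_singleton _ _).1 hn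
  have hzero : ℓI z = 0 := by
    rw [IsLocalizedModule.eq_zero_iff (Submonoid.powers g) ℓI]
    refine ⟨⟨g ^ n * (c' : S), mul_mem ⟨n, rfl⟩ c'.2⟩, ?_⟩
    rw [Submonoid.smul_def, mul_smul]
    exact h3
  exact (Module.End.isUnit_iff _).1 (IsLocalizedModule.map_units ℓI c) |>.1
    ((hzc.trans hzero).trans (map_zero _).symm)

/-- A surjection whose kernel dies at `q` is an isomorphism at `q`. -/
theorem flatAt_congr_of_surjective {M : Type u} [AddCommGroup M] [Module S M] [Module R M] [IsScalarTower R S M]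
    (φ : N →ₗ[S] M) (hφ : Function.Surjective φ) (q : Ideal S) [q.IsPrime]
    (hker : ∀ z, φ z = 0 → ∃ s : S, s ∉ q ∧ s • z = 0) : FlatCA.FlatAt R q N ↔ FlatCA.FlatAt R q M := by
  let f := LocalizedModule.mkLinearMap q.primeCompl N
  let g := LocalizedModule.mkLinearMap q.primeCompl M
  let m := IsLocalizedModule.map q.primeCompl f g φ
  have hbij : Function.Bijective m := by
    refine ⟨(injective_iff_map_eq_zero _).2 fun x hx => ?_, IsLocalizedModule.map_surjective _ f g φ hφ⟩
    obtain ⟨⟨n, s⟩, rfl⟩ := IsLocalizedModule.mk'_surjective q.primeCompl f x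
    simp only [m, Function.uncurry_apply_pair, IsLocalizedModule.map_mk', IsLocalizedModule.mk'_eq_zero'] at hx ⊢
    obtain ⟨c, hc⟩ := hx
    obtain ⟨t, ht, htz⟩ := hker (c • n) (by rw [Submonoid.smul_def, map_smul]; exact hc)
    exact ⟨⟨t * c, Ideal.IsPrime.mul_notMem inferInstance ht c.2⟩, by rw [Submonoid.smul_def, mul_smul]; exact htz⟩
  exact Module.Flat.equiv_iff ((LinearEquiv.ofBijective m hbij).restrictScalars R)

variable {M : Type u} [AddCommGroup M] [Module S M] [Module R M] [IsScalarTower R S M]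

/-- Near a flat point the relations of a finite module are finitely generated, and the module is flat. -/
theorem exists_nhd_of_flatAt [Algebra.FinitePresentation R S] (hR : (FlatCA.weakAss R R).Finite) {r : ℕ}
    (π : (Fin r → S) →ₗ[S] M) (hπ : Function.Surjective π) (q : Ideal S) [q.IsPrime] (hflat : FlatCA.FlatAt R q M) :
    ∃ g : S, g ∉ q ∧ (∀ (q' : Ideal S) [q'.IsPrime], g ∉ q' → FlatCA.FlatAt R q' M) ∧
      ∃ L₀ : Submodule S (Fin r → S), L₀.FG ∧ L₀ ≤ LinearMap.ker π ∧
        ∀ z ∈ LinearMap.ker π, ∃ k : ℕ, g ^ k • z ∈ L₀ := by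
  classical
  haveI : Module.Finite S M := Module.Finite.of_surjective π hπ
  let B := Localization.AtPrime q
  let f := LocalizedModule.mkLinearMap q.primeCompl (Fin r → S)
  let fM := LocalizedModule.mkLinearMap q.primeCompl M
  let πq := LocalizedModule.map q.primeCompl π
  haveI : Module.FinitePresentation B (LocalizedModule q.primeCompl M) := Groth.Agent.S1208.result M q hflat
  have hπq : Function.Surjective πq := LocalizedModule.map_surjective _ π hπ
  obtain ⟨G, hG⟩ := Module.FinitePresentation.fg_ker πq hπq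
  have hrep : ∀ x ∈ G, ∃ l ∈ LinearMap.ker π, ∃ t : q.primeCompl, x = LocalizedModule.mk l t := fun x hx => by
    have h1 : πq x = 0 := (hG ▸ Submodule.subset_span hx : x ∈ LinearMap.ker πq)
    induction x using LocalizedModule.induction_on with
    | h w t =>
      rw [show πq (LocalizedModule.mk w t) = LocalizedModule.mk (π w) t from LocalizedModule.map_mk ..] at h1
      rw [IsLocalizedModule.mk_eq_mk', IsLocalizedModule.mk'_eq_zero'] at h1
      obtain ⟨c, hc⟩ := h1
      refine ⟨(c : S) • w, by rw [LinearMap.mem_ker, map_smul]; exact hc, c * t, ?_⟩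
      rw [← Submonoid.smul_def, LocalizedModule.mk_cancel_common_left]
  choose l hl t ht using hrep
  let L₀ : Submodule S (Fin r → S) := Submodule.span S (Set.range fun x : G => l x.1 x.2)
  have hL₀ : L₀ ≤ LinearMap.ker π := Submodule.span_le.2 fun _ ⟨x, hx⟩ => hx ▸ hl x.1 x.2
  have hfg : L₀.FG := ⟨Finset.univ.image fun x : G => l x.1 x.2, by simp [L₀]⟩
  have hat : ∀ z ∈ LinearMap.ker π, ∃ s : S, s ∉ q ∧ s • z ∈ L₀ := fun z hz => by
    have h1 : LocalizedModule.mk z (1 : q.primeCompl) ∈ L₀.localized' B q.primeCompl f := by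
      refine (show LinearMap.ker πq ≤ L₀.localized' B q.primeCompl f from ?_) ?_
      · rw [← hG, Submodule.span_le]
        intro x hx
        exact ⟨l x hx, Submodule.subset_span ⟨⟨x, hx⟩, rfl⟩, t x hx, ((IsLocalizedModule.mk_eq_mk' _ _).symm.trans (ht x hx).symm)⟩
      · rw [LinearMap.mem_ker, show πq (LocalizedModule.mk z 1) = LocalizedModule.mk (π z) 1 from LocalizedModule.map_mk ..,
          LinearMap.mem_ker.1 hz, LocalizedModule.zero_mk]
    obtain ⟨w, hw, s, hs⟩ := h1
    rw [IsLocalizedModule.mk_eq_mk', IsLocalizedModule.mk'_eq_mk'_iff] at hs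
    obtain ⟨c, hc⟩ := hs
    simp only [Submonoid.smul_def, OneMemClass.coe_one, one_smul] at hc
    refine ⟨(c : S) * (s : S), Ideal.IsPrime.mul_notMem inferInstance c.2 s.2, ?_⟩
    rw [mul_smul]
    first
      | exact hc ▸ Submodule.smul_mem _ _ hw
      | exact hc.symm ▸ Submodule.smul_mem _ _ hw
  let P := (Fin r → S) ⧸ L₀
  haveI : Module.FinitePresentation S P :=
    Module.finitePresentation_of_surjective L₀.mkQ L₀.mkQ_surjective (by rw [Submodule.ker_mkQ]; exact hfg)
  let φ : P →ₗ[S] M := L₀.liftQ π hL₀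
  have hφ : Function.Surjective φ := fun m => (hπ m).elim fun x hx => ⟨L₀.mkQ x, hx⟩
  have hφker : ∀ z, φ z = 0 → ∃ s : S, s ∉ q ∧ s • z = 0 := fun z hz => by
    obtain ⟨x, rfl⟩ := L₀.mkQ_surjective z
    obtain ⟨s, hs, hsx⟩ := hat x hz
    exact ⟨s, hs, (map_smul L₀.mkQ s x).symm.trans ((Submodule.Quotient.mk_eq_zero _).2 hsx)⟩
  have hPq : FlatCA.FlatAt R q P := (flatAt_congr_of_surjective φ hφ q hφker).2 hflat
  obtain ⟨_, ⟨g₀, rfl⟩, hqg₀, hg₀⟩ := PrimeSpectrum.isTopologicalBasis_basic_opens.exists_subset_of_mem_open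
    (show (⟨q, inferInstance⟩ : PrimeSpectrum S) ∈ {x : PrimeSpectrum S | Module.Flat R (LocalizedModule x.asIdeal.primeCompl P)}
      from hPq) FlatLib.isOpen_flatLocus_fp
  replace hqg₀ : g₀ ∉ q := hqg₀
  haveI (p : Ideal R) [p.IsPrime] : IsNoetherianRing (p.Fiber S) :=
    Algebra.FiniteType.isNoetherianRing p.ResidueField _
  haveI (p : Ideal R) [p.IsPrime] : Module.Finite (p.Fiber S) (FlatCA.fiberMod p S P) := by
    letI : Algebra S (p.Fiber S) := Algebra.TensorProduct.rightAlgebra
    exact Module.Finite.base_change S (p.Fiber S) P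
  haveI (W : {p // p ∈ hR.toFinset}) : W.1.IsPrime := (hR.mem_toFinset.1 W.2).choose_spec.1.1
  let C : Finset (Ideal S) := Finset.univ.biUnion fun W : {p // p ∈ hR.toFinset} =>
    (associatedPrimes.finite (W.1.Fiber S) (FlatCA.fiberMod W.1 S P)).toFinset.image fun Q => Q.comap (FibAssLib.incl S W.1)
  have hpick : ∀ c : Ideal S, ∃ e : S, ¬ c ≤ q → e ∈ c ∧ e ∉ q := fun c => by
    by_cases h : c ≤ q
    · exact ⟨0, fun h' => absurd h h'⟩
    · obtain ⟨e, he, he'⟩ := Set.not_subset.1 h
      exact ⟨e, fun _ => ⟨he, he'⟩⟩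
  choose e he using hpick
  let g := g₀ * ∏ c ∈ C.filter (fun c => ¬ c ≤ q), e c
  have hgq : g ∉ q := Ideal.IsPrime.mul_notMem inferInstance hqg₀ fun h => by
    obtain ⟨c, hc, hec⟩ := Ideal.IsPrime.prod_mem_iff.1 h
    exact (he c (Finset.mem_filter.1 hc).2).2 hec
  have hkill : ∀ z : P, φ z = 0 → ∃ k : ℕ, g ^ k • z = 0 := fun z hz => by
    have hrad : g ∈ (Submodule.span S {z}).annihilator.radical := by
      rw [← Ideal.sInf_minimalPrimes, Ideal.mem_sInf]
      intro q' hq'
      haveI := hq'.1.1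
      by_contra hgq'
      have hg₀q' : g₀ ∉ q' := fun h => hgq' (Ideal.mul_mem_right _ _ h)
      have hflat' : FlatCA.FlatAt R q' P := hg₀ (show (⟨q', inferInstance⟩ : PrimeSpectrum S) ∈ PrimeSpectrum.basicOpen g₀ from hg₀q')
      have hW := under_mem_weakAss hR q' hflat' z hq'
      let W : {p // p ∈ hR.toFinset} := ⟨_, hR.mem_toFinset.2 hW⟩
      haveI : q'.LiesOver W.1 := ⟨rfl⟩
      have hann : (Submodule.span S {z ⊗ₜ[R] (1 : R)}).annihilator = (Submodule.span S {z}).annihilator := by
        ext s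
        rw [Submodule.mem_annihilator_span_singleton, Submodule.mem_annihilator_span_singleton, TensorProduct.smul_tmul',
          ← LinearEquiv.map_eq_zero_iff (TensorProduct.rid R P), TensorProduct.rid_tmul, one_smul]
      obtain ⟨Q, hQ, hQq'⟩ := mem_associatedPrimes_of_mem_minimalPrimes W.1 q' hflat' R (z ⊗ₜ[R] (1 : R)) (hann ▸ hq')
      have hC : q' ∈ C := Finset.mem_biUnion.2 ⟨W, Finset.mem_univ _,
        Finset.mem_image.2 ⟨Q, (Set.Finite.mem_toFinset _).2 hQ, hQq'⟩⟩
      by_cases hle : q' ≤ q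
      · obtain ⟨s, hs, hsz⟩ := hφker z hz
        exact hs (hle (hq'.1.2 ((Submodule.mem_annihilator_span_singleton _ _).2 hsz)))
      · refine hgq' (Ideal.mul_mem_left _ _ (Ideal.IsPrime.prod_mem_iff.2 ⟨q', Finset.mem_filter.2 ⟨hC, hle⟩, (he q' hle).1⟩))
    obtain ⟨k, hk⟩ := hrad
    exact ⟨k, (Submodule.mem_annihilator_span_singleton _ _).1 hk⟩
  refine ⟨g, hgq, fun q' _ hgq' => (flatAt_congr_of_surjective φ hφ q' fun z hz => ?_).1
    (hg₀ (show (⟨q', inferInstance⟩ : PrimeSpectrum S) ∈ PrimeSpectrum.basicOpen g₀ from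
      fun h => hgq' (Ideal.mul_mem_right _ _ h))), L₀, hfg, hL₀, fun z hz => ?_⟩
  · obtain ⟨k, hk⟩ := hkill z hz
    exact ⟨g ^ k, fun h => hgq' (Ideal.IsPrime.mem_of_pow_mem inferInstance k h), hk⟩
  · obtain ⟨k, hk⟩ := hkill (L₀.mkQ z) hz
    exact ⟨k, (Submodule.Quotient.mk_eq_zero _).1 ((map_smul L₀.mkQ _ z).trans hk)⟩

/-- Finite presentation of the localisation from finitely generated relations up to powers. -/
theorem finitePresentation_away {r : ℕ} (π : (Fin r → S) →ₗ[S] M) (hπ : Function.Surjective π) (g : S)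
    (L₀ : Submodule S (Fin r → S)) (hfg : L₀.FG) (hL₀ : L₀ ≤ LinearMap.ker π)
    (h : ∀ z ∈ LinearMap.ker π, ∃ k : ℕ, g ^ k • z ∈ L₀) :
    Module.FinitePresentation (Localization.Away g) (LocalizedModule (Submonoid.powers g) M) := by
  haveI : Module.FinitePresentation S ((Fin r → S) ⧸ L₀) :=
    Module.finitePresentation_of_surjective L₀.mkQ L₀.mkQ_surjective (by rw [Submodule.ker_mkQ]; exact hfg)
  let φ : ((Fin r → S) ⧸ L₀) →ₗ[S] M := L₀.liftQ π hL₀
  let m := LocalizedModule.map (Submonoid.powers g) φ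
  have hbij : Function.Bijective m := by
    refine ⟨(injective_iff_map_eq_zero _).2 fun x hx => ?_,
      LocalizedModule.map_surjective _ φ fun y => (hπ y).elim fun a ha => ⟨L₀.mkQ a, ha⟩⟩
    induction x using LocalizedModule.induction_on with
    | h w t =>
      obtain ⟨w, rfl⟩ := L₀.mkQ_surjective w
      rw [show m (LocalizedModule.mk (L₀.mkQ w) t) = LocalizedModule.mk (π w) t from LocalizedModule.map_mk ..,
        IsLocalizedModule.mk_eq_mk', IsLocalizedModule.mk'_eq_zero'] at hx
      obtain ⟨⟨c, hc⟩, hcw⟩ := hx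
      obtain ⟨k, hk⟩ := h (c • w) (by rw [LinearMap.mem_ker, map_smul]; exact hcw)
      rw [IsLocalizedModule.mk_eq_mk', IsLocalizedModule.mk'_eq_zero']
      refine ⟨⟨g ^ k * c, mul_mem ⟨k, rfl⟩ hc⟩, ?_⟩
      rw [Submonoid.smul_def, ← map_smul, mul_smul]
      exact (Submodule.Quotient.mk_eq_zero _).2 hk
  exact Module.FinitePresentation.of_equiv (LinearEquiv.ofBijective m hbij)

end FlatInjLib

namespace FlatInjLib

variable {R S : Type u} [CommRing R] [CommRing S] [Algebra R S] {N : Type u} [AddCommGroup N] [Module S N]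
  [Module R N] [IsScalarTower R S N] [Module.Finite S N]

theorem isLocalizedModule_restrict_prime {P M M' : Type u} [CommRing P] [Algebra P S] [AddCommGroup M] [Module S M]
    [Module P M] [IsScalarTower P S M] [AddCommGroup M'] [Module S M'] [Module P M'] [IsScalarTower P S M']
    (hs : Function.Surjective (algebraMap P S)) (q : Ideal S) [q.IsPrime] (f : M →ₗ[S] M') [IsLocalizedModule q.primeCompl f] :
    IsLocalizedModule (q.comap (algebraMap P S)).primeCompl (f.restrictScalars P) := by
  haveI : IsLocalizedModule (Algebra.algebraMapSubmonoid S (q.comap (algebraMap P S)).primeCompl) f := by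
    rwa [show Algebra.algebraMapSubmonoid S (q.comap (algebraMap P S)).primeCompl = q.primeCompl from ?_]
    ext x
    refine ⟨fun ⟨t, ht, e⟩ => e ▸ ht, fun hx => ?_⟩
    obtain ⟨t, rfl⟩ := hs x
    exact ⟨t, hx, rfl⟩
  exact IsLocalizedModule.restrictScalars _ f

/-- Flat points have basic neighbourhoods of flatness and finite presentation. -/
theorem exists_away_fp_flat [Algebra.FinitePresentation R S] (hR : (FlatCA.weakAss R R).Finite) (q : Ideal S) [q.IsPrime]
    (h : FlatCA.FlatAt R q N) : ∃ g : S, g ∉ q ∧ (∀ (q' : Ideal S) [q'.IsPrime], g ∉ q' → FlatCA.FlatAt R q' N) ∧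
      Module.FinitePresentation (Localization.Away g) (LocalizedModule (Submonoid.powers g) N) ∧
      Module.Flat R (LocalizedModule (Submonoid.powers g) N) := by
  obtain ⟨r, π, hπ⟩ := Module.Finite.exists_fin' S N
  obtain ⟨g, hg, hflat, L₀, hfg, hL₀, hk⟩ := exists_nhd_of_flatAt hR π hπ q h
  exact ⟨g, hg, hflat, finitePresentation_away π hπ g L₀ hfg hL₀ hk, flat_away g hflat⟩

/-- On a basic open inside the flat locus the module is finitely presented. -/
theorem finitePresentation_away_of_flatAt [Algebra.FinitePresentation R S] (hR : (FlatCA.weakAss R R).Finite) (g : S)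
    (hg : ∀ (q : Ideal S) [q.IsPrime], g ∉ q → FlatCA.FlatAt R q N) :
    Module.FinitePresentation (Localization.Away g) (LocalizedModule (Submonoid.powers g) N) := by
  classical
  obtain ⟨r, π, hπ⟩ := Module.Finite.exists_fin' S N
  choose G hG hflat L hfg hL hk using fun q : {x : PrimeSpectrum S // g ∉ x.asIdeal} =>
    exists_nhd_of_flatAt hR π hπ q.1.asIdeal (hg _ q.2)
  obtain ⟨T, hT⟩ := (PrimeSpectrum.isCompact_basicOpen g).elim_finite_subcover
    (fun q => (PrimeSpectrum.basicOpen (G q) : Set (PrimeSpectrum S))) (fun q => (PrimeSpectrum.basicOpen _).2)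
    fun x hx => Set.mem_iUnion.2 ⟨⟨x, hx⟩, hG ⟨x, hx⟩⟩
  let L₀ := T.sup L
  refine finitePresentation_away π hπ g L₀ (Submodule.fg_finset_sup _ _ fun q _ => hfg q) (Finset.sup_le fun q _ => hL q)
    fun z hz => ?_
  let J : Ideal S := L₀.colon ({z} : Set (Fin r → S))
  have hrad : g ∈ J.radical := by
    rw [Ideal.radical_eq_sInf, Ideal.mem_sInf]
    rintro P ⟨hle, hP⟩
    by_contra hgP
    obtain ⟨q, hq, hPq⟩ := Set.mem_iUnion₂.1 (hT (show (⟨P, hP⟩ : PrimeSpectrum S) ∈ PrimeSpectrum.basicOpen g from hgP))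
    obtain ⟨k, hk'⟩ := hk q z hz
    exact hPq (hP.mem_of_pow_mem k (hle (Submodule.mem_colon_singleton.2 (Finset.le_sup (f := L) hq hk'))))
  obtain ⟨k, hk'⟩ := hrad
  exact ⟨k, Submodule.mem_colon_singleton.1 hk'⟩

theorem isOpen_flatAt [Algebra.FinitePresentation R S] (hR : (FlatCA.weakAss R R).Finite) :
    IsOpen {q : PrimeSpectrum S | FlatCA.FlatAt R q.asIdeal N} := by
  refine isOpen_iff_forall_mem_open.2 fun x hx => ?_
  obtain ⟨g, hg, hflat, -, -⟩ := exists_away_fp_flat hR x.asIdeal hx
  exact ⟨PrimeSpectrum.basicOpen g, fun y hy => hflat y.asIdeal hy, (PrimeSpectrum.basicOpen g).2, hg⟩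

end FlatInjLib
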