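import Mathlib

/-!
# A vanishing criterion over a complete Noetherian local ring
-/

set_option autoImplicit false

universe u v

open IsLocalRing

namespace FlatInjLib

/-- Ideals above the kernel of a surjection onto an Artinian ring satisfy the descending chain condition. -/
theorem exists_minimal_above {R B : Type u} [CommRing R] [CommRing B] [IsArtinianRing B] (π : R →+* B)
    (hπ : Function.Surjective π) (Q : Ideal R → Prop) (V : Ideal R) (hV : RingHom.ker π ≤ V) (hQV : Q V) :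
    ∃ W, RingHom.ker π ≤ W ∧ Q W ∧ ∀ W', RingHom.ker π ≤ W' → W' ≤ W → Q W' → W' = W := by
  have hker : ∀ W : Ideal R, RingHom.ker π ≤ W → (W.map π).comap π = W := fun W hW => by
    rw [Ideal.comap_map_of_surjective π hπ, ← RingHom.ker_eq_comap_bot, sup_eq_left.2 hW]
  obtain ⟨Z, hZ, hmin⟩ := IsArtinian.set_has_minimal {Z : Ideal B | Q (Z.comap π)}
    ⟨V.map π, show Q ((V.map π).comap π) from (hker V hV).symm ▸ hQV⟩
  refine ⟨Ideal.comap π Z, ?_, (hZ : Q (Ideal.comap π Z)), fun W' hW' hle hQ => ?_⟩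
  · exact fun z hz => Ideal.mem_comap.2 (by rw [RingHom.mem_ker.1 hz]; exact zero_mem Z)
  · by_contra hne
    refine hmin (W'.map π) (show Q ((W'.map π).comap π) from (hker W' hW').symm ▸ hQ) ?_
    refine lt_of_le_of_ne (Ideal.map_le_iff_le_comap.2 hle) fun e => hne ?_
    rw [← e, hker W' hW']

/-- The minimal ideal argument. -/
theorem exists_ideal_mem_smul {R P A : Type u} [CommRing R] [IsLocalRing R] [IsNoetherianRing R]
    [IsAdicComplete (maximalIdeal R) R] [CommRing P] [IsLocalRing P] [IsNoetherianRing P] [Algebra R P]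
    [IsLocalHom (algebraMap R P)] [CommRing A] [Algebra R A]
    {N : Type u} [AddCommGroup N] [Module P N] [Module R N] [IsScalarTower R P N] [Module.Finite P N]
    {M : Type v} [AddCommGroup M] [Module A M] [Module R M] [IsScalarTower R A M] (ψ : N →ₗ[R] M)
    (hind : ∀ (μ : ℕ) (n : Fin μ → N),
      (∀ c : Fin μ → R, ∑ i, c i • n i ∈ maximalIdeal R • (⊤ : Submodule R N) → ∀ i, c i ∈ maximalIdeal R) →
        LinearIndependent A (ψ ∘ n))
    (y : N) (hy : ψ y = 0) :
    ∃ W : Ideal R, y ∈ W • (⊤ : Submodule R N) ∧ W ≤ RingHom.ker (algebraMap R A) := by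
  classical
  let m : Ideal R := maximalIdeal R
  -- minimal ideals on each level
  have hmin : ∀ (k : ℕ) (V : Ideal R), m ^ k ≤ V → y ∈ V • (⊤ : Submodule R N) →
      ∃ W : Ideal R, m ^ (k + 1) ≤ W ∧ W ≤ V ∧ y ∈ W • (⊤ : Submodule R N) ∧
        ∀ W' : Ideal R, m ^ (k + 1) ≤ W' → W' ≤ W → y ∈ W' • (⊤ : Submodule R N) → W' = W := by
    intro k V hV hyV
    haveI : IsArtinianRing (R ⧸ m ^ (k + 1)) := by
      refine isArtinianRing_iff_isNoetherianRing_krullDimLE_zero.2 ⟨inferInstance, Ring.KrullDimLE.mk₀ fun P hP => ?_⟩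
      have h2 : P.comap (Ideal.Quotient.mk (m ^ (k + 1))) = m := by
        refine ((IsLocalRing.maximalIdeal.isMaximal R).eq_of_le (Ideal.IsPrime.ne_top (hP.comap _))
          fun z hz => (hP.comap _).mem_of_pow_mem (k + 1) ?_).symm
        rw [Ideal.mem_comap, Ideal.Quotient.eq_zero_iff_mem.2 (Ideal.pow_mem_pow hz (k + 1))]
        exact zero_mem _
      rw [← Ideal.map_comap_of_surjective (Ideal.Quotient.mk (m ^ (k + 1))) Ideal.Quotient.mk_surjective P, h2]
      refine Ideal.IsMaximal.map_of_surjective_of_ker_le Ideal.Quotient.mk_surjective ?_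
      rw [Ideal.mk_ker]
      exact Ideal.pow_le_self (Nat.succ_ne_zero k)
    obtain ⟨W, hW1, ⟨hW2, hW3⟩, hW4⟩ := exists_minimal_above (Ideal.Quotient.mk (m ^ (k + 1))) Ideal.Quotient.mk_surjective
      (fun W : Ideal R => W ≤ V ∧ y ∈ W • (⊤ : Submodule R N)) V
      (by rw [Ideal.mk_ker]; exact (Ideal.pow_le_pow_right k.le_succ).trans hV) ⟨le_rfl, hyV⟩
    rw [Ideal.mk_ker] at hW1 hW4
    exact ⟨W, hW1, hW2, hW3, fun W' h1 h2 h3 => hW4 W' h1 h2 ⟨h2.trans hW2, h3⟩⟩
  let step : ∀ k, {V : Ideal R // m ^ k ≤ V ∧ y ∈ V • (⊤ : Submodule R N)} →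
      {V : Ideal R // m ^ (k + 1) ≤ V ∧ y ∈ V • (⊤ : Submodule R N)} := fun k V =>
    ⟨(hmin k V.1 V.2.1 V.2.2).choose, (hmin k V.1 V.2.1 V.2.2).choose_spec.1,
      (hmin k V.1 V.2.1 V.2.2).choose_spec.2.2.1⟩
  let seq : ∀ k, {V : Ideal R // m ^ k ≤ V ∧ y ∈ V • (⊤ : Submodule R N)} := fun k =>
    Nat.rec ⟨⊤, le_top, by rw [Submodule.top_smul]; trivial⟩ step k
  let V : ℕ → Ideal R := fun k => (seq k).1
  have hVm : ∀ k, m ^ k ≤ V k := fun k => (seq k).2.1
  have hVy : ∀ k, y ∈ V k • (⊤ : Submodule R N) := fun k => (seq k).2.2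
  have hVle : ∀ k, V (k + 1) ≤ V k := fun k =>
    (hmin k (V k) (hVm k) (hVy k)).choose_spec.2.1
  have hVmin : ∀ k (W' : Ideal R), m ^ (k + 1) ≤ W' → W' ≤ V (k + 1) → y ∈ W' • (⊤ : Submodule R N) →
      W' = V (k + 1) := fun k =>
    (hmin k (V k) (hVm k) (hVy k)).choose_spec.2.2.2
  have hanti : Antitone V := antitone_nat_of_succ_le hVle
  -- truncations
  have htr : ∀ k l, k ≤ l → V k ≤ V l ⊔ m ^ k := by
    intro k l hkl
    rcases Nat.eq_zero_or_pos k with rfl | hk
    · simp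
    obtain ⟨k, rfl⟩ := Nat.exists_eq_succ_of_ne_zero (Nat.pos_iff_ne_zero.1 hk)
    exact (hVmin k (V l ⊔ m ^ (k + 1)) le_sup_right (sup_le (hanti hkl) (hVm _))
      (Submodule.smul_mono_left le_sup_left (hVy l))).ge
  let W : Ideal R := ⨅ k, V k
  have hW : ∀ k, V k ≤ W ⊔ m ^ k := by
    intro k v hv
    have hnext : ∀ j (x : R), x ∈ V (k + j) → ∃ x' ∈ V (k + (j + 1)), x' - x ∈ m ^ (k + j) := fun j x hx => by
      obtain ⟨x', hx', z, hz, hxz⟩ := Submodule.mem_sup.1 (htr (k + j) (k + (j + 1)) (by omega) hx)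
      exact ⟨x', hx', by rw [← hxz, sub_add_cancel_left]; exact neg_mem hz⟩
    choose next hnext hdiff using hnext
    let f : ∀ j : ℕ, {x : R // x ∈ V (k + j)} :=
      fun j => Nat.rec ⟨v, hv⟩ (fun j p => ⟨next j p.1 p.2, hnext j p.1 p.2⟩) j
    have hf : ∀ j, (f (j + 1)).1 - (f j).1 ∈ m ^ (k + j) := fun j => hdiff j _ _
    have hc : ∀ j l, j ≤ l → (f l).1 - (f j).1 ∈ m ^ (k + j) := by
      intro j l hjl
      induction l, hjl using Nat.le_induction with
      | base => rw [sub_self]; exact zero_mem _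
      | succ l hjl ih =>
        rw [← sub_add_sub_cancel (f (l + 1)).1 (f l).1 (f j).1]
        exact add_mem (Ideal.pow_le_pow_right (by omega) (hf l)) ih
    obtain ⟨L, hL⟩ := IsPrecomplete.prec (I := m) inferInstance (f := fun j => (f j).1) fun {a b} hab => by
      rw [SModEq.sub_mem, smul_eq_mul, Ideal.mul_top, ← neg_sub]
      exact neg_mem (Ideal.pow_le_pow_right (by omega) (hc a b hab))
    have hLf : ∀ l, (f l).1 - L ∈ m ^ l := fun l => by
      have h := hL l
      rwa [SModEq.sub_mem, smul_eq_mul, Ideal.mul_top] at h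
    have hLW : L ∈ W := Submodule.mem_iInf _ |>.2 fun l => by
      rw [← sub_sub_cancel (f l).1 L]
      exact sub_mem (hanti (by omega) (f l).2) (hVm l (hLf l))
    rw [← sub_add_cancel v L, add_comm]
    refine Submodule.add_mem_sup hLW ?_
    have h1 := hc 0 k (Nat.zero_le k)
    have e : v - L = ((f k).1 - L) - ((f k).1 - (f 0).1) := by rw [sub_sub_sub_cancel_left]; rfl
    rw [e]
    exact sub_mem (hLf k) h1
  -- Krull separatedness
  have hmem : ∀ (J : Ideal R) (x : N), x ∈ J • (⊤ : Submodule R N) ↔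
      x ∈ J.map (algebraMap R P) • (⊤ : Submodule P N) := fun J x => by
    rw [← Submodule.restrictScalars_mem R (J.map (algebraMap R P) • (⊤ : Submodule P N)) x,
      Ideal.smul_restrictScalars, Submodule.restrictScalars_top]
  have hyW : y ∈ W • (⊤ : Submodule R N) := by
    rw [hmem]
    let K : Submodule P N := W.map (algebraMap R P) • ⊤
    let mP : Ideal P := m.map (algebraMap R P)
    have hmP : mP ≠ ⊤ := fun h =>
      (maximalIdeal.isMaximal P).ne_top (top_le_iff.1 (h ▸ ((Ideal.map_le_iff_le_comap).2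
        fun z hz => map_nonunit (algebraMap R P) z hz)))
    have hq : ∀ k, K.mkQ y ∈ (mP ^ k • ⊤ : Submodule P (N ⧸ K)) := fun k => by
      have h1 : y ∈ (W ⊔ m ^ k).map (algebraMap R P) • (⊤ : Submodule P N) :=
        (hmem _ _).1 (Submodule.smul_mono_left (hW k) (hVy k))
      rw [Ideal.map_sup, Submodule.sup_smul, Ideal.map_pow] at h1
      obtain ⟨a, ha, b, hb, rfl⟩ := Submodule.mem_sup.1 h1
      rw [map_add, show K.mkQ a = 0 from (Submodule.Quotient.mk_eq_zero K).2 ha, zero_add]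
      have := Submodule.mem_map_of_mem (f := K.mkQ) hb
      rw [Submodule.map_smul''] at this
      exact Submodule.smul_mono le_rfl le_top this
    have h0 : K.mkQ y ∈ (⊥ : Submodule P (N ⧸ K)) :=
      (Ideal.iInf_pow_smul_eq_bot_of_isLocalRing (M := N ⧸ K) (I := mP) hmP).le ((Submodule.mem_iInf _).2 hq)
    exact (Submodule.Quotient.mk_eq_zero K).1 ((Submodule.mem_bot P).1 h0)
  have hWmin : ∀ W' : Ideal R, W' ≤ W → y ∈ W' • (⊤ : Submodule R N) → W ≤ W' := by
    intro W' hW' hy' v hv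
    have h1 : ∀ k, v ∈ W' ⊔ m ^ (k + 1) := fun k => by
      have e := hVmin k (W' ⊔ m ^ (k + 1)) le_sup_right
        (sup_le (hW'.trans (iInf_le V _)) (hVm _)) (Submodule.smul_mono_left le_sup_left hy')
      rw [e]
      exact iInf_le V (k + 1) hv
    have hmm : m ≠ ⊤ := (maximalIdeal.isMaximal R).ne_top
    have h2 : ∀ k, W'.mkQ v ∈ (m ^ k • ⊤ : Submodule R (R ⧸ W')) := fun k => by
      obtain ⟨a, ha, b, hb, hab⟩ := Submodule.mem_sup.1 (h1 k)
      rw [← hab, map_add, show W'.mkQ a = 0 from (Submodule.Quotient.mk_eq_zero W').2 ha, zero_add,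
        show W'.mkQ b = b • W'.mkQ 1 by rw [← map_smul, smul_eq_mul, mul_one]]
      exact Submodule.smul_mem_smul (Ideal.pow_le_pow_right k.le_succ hb) trivial
    have h0 : W'.mkQ v ∈ (⊥ : Submodule R (R ⧸ W')) :=
      (Ideal.iInf_pow_smul_eq_bot_of_isLocalRing (M := R ⧸ W') (I := m) hmm).le ((Submodule.mem_iInf _).2 h2)
    exact (Submodule.Quotient.mk_eq_zero W').1 ((Submodule.mem_bot R).1 h0)
  refine ⟨W, hyW, ?_⟩
  -- minimal generating family
  have hgen : ∃ μ, ∃ v : Fin μ → R, W = Ideal.span (Set.range v) :=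
    ⟨_, (Submodule.fg_iff_exists_fin_generating_family.1 (IsNoetherian.noetherian W)).choose_spec.imp fun v hv => hv.symm⟩
  obtain ⟨v, hv⟩ := Nat.find_spec hgen
  generalize hμ : Nat.find hgen = μ at v hv
  have hvW : ∀ i, v i ∈ W := fun i => hv ▸ Ideal.subset_span ⟨i, rfl⟩
  have hrep : ∀ x ∈ W • (⊤ : Submodule R N), ∃ n : Fin μ → N, ∑ i, v i • n i = x := by
    intro x hx
    refine Submodule.smul_induction_on hx (fun r hr z _ => ?_) fun a b ⟨n, hn⟩ ⟨n', hn'⟩ =>
      ⟨n + n', by simp [smul_add, Finset.sum_add_distrib, hn, hn']⟩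
    rw [hv] at hr
    obtain ⟨c, rfl⟩ := Ideal.mem_span_range_iff_exists_fun.1 hr
    exact ⟨fun i => c i • z, by rw [Finset.sum_smul]; simp [smul_smul, mul_comm]⟩
  obtain ⟨n, hn⟩ := hrep y hyW
  have hindep : ∀ c : Fin μ → R, ∑ i, c i • n i ∈ m • (⊤ : Submodule R N) → ∀ i, c i ∈ m := by
    intro c hc j
    by_contra hj
    obtain ⟨u, hu⟩ := (IsLocalRing.notMem_maximalIdeal.1 hj)
    let v' : Fin μ → R := fun i => v i - v j * (↑u⁻¹ * c i)
    let W' : Ideal R := Ideal.span (v' '' {i | i ≠ j}) ⊔ m * W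
    have hW'W : W' ≤ W := sup_le (Ideal.span_le.2 fun z ⟨i, _, hi⟩ => hi ▸ W.sub_mem (hvW i)
      (W.mul_mem_right _ (hvW j))) Ideal.mul_le_right
    have hyW' : y ∈ W' • (⊤ : Submodule R N) := by
      have e : y = (∑ i, v' i • n i) + (v j * ↑u⁻¹) • ∑ i, c i • n i := by
        rw [← hn, Finset.smul_sum, ← Finset.sum_add_distrib]
        refine Finset.sum_congr rfl fun i _ => ?_
        rw [smul_smul, ← add_smul]
        congr 1
        simp only [v']
        ring
      rw [e]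
      refine add_mem (sum_mem fun i _ => ?_) ?_
      · rcases eq_or_ne i j with rfl | hij
        · have : v' i = 0 := by simp [v', ← hu]
          rw [this, zero_smul]
          exact zero_mem _
        · exact Submodule.smul_mem_smul (Ideal.mem_sup_left (Ideal.subset_span ⟨i, hij, rfl⟩)) trivial
      · have hmem' := Submodule.smul_mem_smul (Ideal.mul_mem_right (↑u⁻¹) W (hvW j)) hc
        rw [← Submodule.smul_assoc, smul_eq_mul, mul_comm W m] at hmem'
        exact Submodule.smul_mono_left le_sup_right hmem'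
    have hle : W ≤ Ideal.span (v' '' {i | i ≠ j}) ⊔ m • W := (hWmin W' hW'W hyW').trans (by rw [smul_eq_mul])
    have hfin := Submodule.le_of_le_smul_of_le_jacobson_bot (IsNoetherian.noetherian W)
      (IsLocalRing.maximalIdeal_le_jacobson _) hle
    have hμ0 : 0 < μ := j.pos
    obtain ⟨μ', rfl⟩ := Nat.exists_eq_succ_of_ne_zero hμ0.ne'
    refine Nat.find_min hgen (m := μ') (hμ ▸ Nat.lt_succ_self μ') ⟨v' ∘ j.succAbove, le_antisymm (hfin.trans ?_) ?_⟩
    · refine Ideal.span_mono ?_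
      rintro _ ⟨i, hi, rfl⟩
      obtain ⟨i', rfl⟩ := Fin.exists_succAbove_eq hi
      exact ⟨i', rfl⟩
    · refine Ideal.span_le.2 ?_
      rintro _ ⟨i, rfl⟩
      exact hW'W (Ideal.mem_sup_left (Ideal.subset_span ⟨_, j.succAbove_ne i, rfl⟩))
  have hli := Fintype.linearIndependent_iff.1 (hind μ n hindep) (fun i => algebraMap R A (v i)) (by
    rw [← hy, ← hn, map_sum]
    refine Finset.sum_congr rfl fun i _ => ?_
    rw [Function.comp_apply, map_smul, algebraMap_smul])
  rw [hv, Ideal.span_le]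
  rintro _ ⟨i, rfl⟩
  exact hli i

end FlatInjLib
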