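import Groth.Agent.FlatInjLib.FinWeakAss
import Mathlib

/-!
# Finite presentation of flat modules over a schematically dense family
-/

set_option autoImplicit false
set_option linter.style.haveILetI false

universe u

open scoped TensorProduct

namespace FlatInjLib

variable {R S : Type u} [CommRing R] [CommRing S] [Algebra R S] {M : Type u} [AddCommGroup M] [Module S M]
  [Module R M] [IsScalarTower R S M]

/-- Relations of a module which is finitely presented after localisation are finitely generated up to the submonoid. -/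
theorem exists_fg_relations {r : ℕ} (π : (Fin r → S) →ₗ[S] M) (hπ : Function.Surjective π) (T : Submonoid S)
    [Module.FinitePresentation (Localization T) (LocalizedModule T M)] :
    ∃ L₀ : Submodule S (Fin r → S), L₀.FG ∧ L₀ ≤ LinearMap.ker π ∧ ∀ z ∈ LinearMap.ker π, ∃ t ∈ T, t • z ∈ L₀ := by
  classical
  let B := Localization T
  let f := LocalizedModule.mkLinearMap T (Fin r → S)
  let πq := LocalizedModule.map T π
  obtain ⟨G, hG⟩ := Module.FinitePresentation.fg_ker πq (LocalizedModule.map_surjective _ π hπ)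
  have hrep : ∀ x ∈ G, ∃ l ∈ LinearMap.ker π, ∃ t : T, x = LocalizedModule.mk l t := fun x hx => by
    have h1 : πq x = 0 := (hG ▸ Submodule.subset_span hx : x ∈ LinearMap.ker πq)
    induction x using LocalizedModule.induction_on with
    | h w t =>
      rw [show πq (LocalizedModule.mk w t) = LocalizedModule.mk (π w) t from LocalizedModule.map_mk ..] at h1
      rw [IsLocalizedModule.mk_eq_mk', IsLocalizedModule.mk'_eq_zero'] at h1
      obtain ⟨c, hc⟩ := h1
      refine ⟨(c : S) • w, by rw [LinearMap.mem_ker, map_smul]; exact hc, c * t, ?_⟩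
      rw [← Submonoid.smul_def, LocalizedModule.mk_cancel_common_left]
  choose l hl t ht using hrep
  let L₀ : Submodule S (Fin r → S) := Submodule.span S (Set.range fun x : G => l x.1 x.2)
  refine ⟨L₀, ⟨Finset.univ.image fun x : G => l x.1 x.2, by simp [L₀]⟩,
    Submodule.span_le.2 fun _ ⟨x, hx⟩ => hx ▸ hl x.1 x.2, fun z hz => ?_⟩
  have h1 : LocalizedModule.mk z (1 : T) ∈ L₀.localized' B T f := by
    refine (show LinearMap.ker πq ≤ L₀.localized' B T f from ?_) ?_
    · rw [← hG, Submodule.span_le]
      intro x hx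
      exact ⟨l x hx, Submodule.subset_span ⟨⟨x, hx⟩, rfl⟩, t x hx,
        ((IsLocalizedModule.mk_eq_mk' _ _).symm.trans (ht x hx).symm)⟩
    · rw [LinearMap.mem_ker, show πq (LocalizedModule.mk z 1) = LocalizedModule.mk (π z) 1 from LocalizedModule.map_mk ..,
        LinearMap.mem_ker.1 hz, LocalizedModule.zero_mk]
  obtain ⟨w, hw, s, hs⟩ := h1
  rw [IsLocalizedModule.mk_eq_mk', IsLocalizedModule.mk'_eq_mk'_iff] at hs
  obtain ⟨c, hc⟩ := hs
  simp only [Submonoid.smul_def, OneMemClass.coe_one, one_smul] at hc
  refine ⟨(c : S) * (s : S), mul_mem c.2 s.2, ?_⟩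
  rw [mul_smul]
  first
    | exact hc ▸ Submodule.smul_mem _ _ hw
    | exact hc.symm ▸ Submodule.smul_mem _ _ hw

/-- A flat finite module which is finitely presented over a schematically dense family is finitely presented. -/
theorem finitePresentation_of_dense [Algebra.FinitePresentation R S] [Module.Finite S M] [Module.Flat R M]
    {ι : Type u} [Fintype ι] (T : ι → Submonoid R)
    (hdense : ∀ x : R, (∀ i, ∃ t ∈ T i, t * x = 0) → x = 0)
    (hfp : ∀ i, Module.FinitePresentation (Localization (Algebra.algebraMapSubmonoid S (T i)))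
      (LocalizedModule (Algebra.algebraMapSubmonoid S (T i)) M)) :
    Module.FinitePresentation S M := by
  classical
  obtain ⟨r, π, hπ⟩ := Module.Finite.exists_fin' S M
  choose Li hLifg hLile hLi using fun i => haveI := hfp i; exists_fg_relations π hπ (Algebra.algebraMapSubmonoid S (T i))
  let L₁ := Finset.univ.sup Li
  have hloc : ∀ x : PrimeSpectrum S, ∃ g : S, g ∉ x.asIdeal ∧ ∃ L₀ : Submodule S (Fin r → S), L₀.FG ∧ L₀ ≤ LinearMap.ker π ∧
      ∀ z ∈ LinearMap.ker π, ∃ k : ℕ, g ^ k • z ∈ L₀ := by
    intro x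
    have hx : FlatCA.FlatAt R x.asIdeal M :=
      flat_of_isLocalizedModule x.asIdeal.primeCompl (LocalizedModule.mkLinearMap _ M)
    haveI := Groth.Agent.S1208.result M x.asIdeal hx
    obtain ⟨L₂, hL₂fg, hL₂le, hL₂⟩ := exists_fg_relations π hπ x.asIdeal.primeCompl
    let L₀ := L₂ ⊔ L₁
    have hfg : L₀.FG := hL₂fg.sup (Submodule.fg_finset_sup _ _ fun i _ => hLifg i)
    have hle : L₀ ≤ LinearMap.ker π := sup_le hL₂le (Finset.sup_le fun i _ => hLile i)
    let P := (Fin r → S) ⧸ L₀
    haveI : Module.FinitePresentation S P :=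
      Module.finitePresentation_of_surjective L₀.mkQ L₀.mkQ_surjective (by rw [Submodule.ker_mkQ]; exact hfg)
    let φ : P →ₗ[S] M := L₀.liftQ π hle
    have hPx : FlatCA.FlatAt R x.asIdeal P :=
      (flatAt_congr_of_surjective φ (fun m => (hπ m).elim fun a ha => ⟨L₀.mkQ a, ha⟩) x.asIdeal fun z hz => by
        obtain ⟨w, rfl⟩ := L₀.mkQ_surjective z
        obtain ⟨s, hs, hsw⟩ := hL₂ w hz
        exact ⟨s, hs, (map_smul L₀.mkQ s w).symm.trans ((Submodule.Quotient.mk_eq_zero _).2 (Submodule.mem_sup_left hsw))⟩).2 hx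
    obtain ⟨_, ⟨g, rfl⟩, hxg, hg⟩ := PrimeSpectrum.isTopologicalBasis_basic_opens.exists_subset_of_mem_open
      (show x ∈ {y : PrimeSpectrum S | Module.Flat R (LocalizedModule y.asIdeal.primeCompl P)} from hPx) FlatLib.isOpen_flatLocus_fp
    refine ⟨g, hxg, L₀, hfg, hle, fun z hz => ?_⟩
    have hrad : g ∈ (L₀.colon ({z} : Set (Fin r → S))).radical := by
      rw [Ideal.radical_eq_sInf, Ideal.mem_sInf]
      rintro Q ⟨hQle, hQ⟩
      by_contra hgQ
      haveI : Module.Flat R (LocalizedModule Q.primeCompl P) :=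
        hg (show (⟨Q, hQ⟩ : PrimeSpectrum S) ∈ PrimeSpectrum.basicOpen g from hgQ)
      let k := LocalizedModule.mkLinearMap Q.primeCompl P
      let w := k (L₀.mkQ z)
      let j : R →ₗ[R] (∀ i, Localization (T i)) := LinearMap.pi fun i => Algebra.linearMap R (Localization (T i))
      have hj : Function.Injective j := (injective_iff_map_eq_zero _).2 fun a ha => hdense a fun i => by
        obtain ⟨t, ht⟩ := (IsLocalization.map_eq_zero_iff (T i) (Localization (T i)) a).1 (congrFun ha i)
        exact ⟨t, t.2, ht⟩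
      have hw : w ⊗ₜ[R] (1 : R) = 0 := by
        apply Module.Flat.lTensor_preserves_injective_linearMap (M := LocalizedModule Q.primeCompl P) j hj
        rw [map_zero, LinearMap.lTensor_tmul]
        apply (TensorProduct.piRight R R (LocalizedModule Q.primeCompl P) fun i => Localization (T i)).injective
        rw [map_zero, TensorProduct.piRight_apply]
        funext i
        rw [TensorProduct.piRightHom_tmul, Pi.zero_apply]
        obtain ⟨_, ⟨t, ht, rfl⟩, htz⟩ := hLi i z hz
        have htw : t • w = 0 := by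
          show t • k (L₀.mkQ z) = 0
          rw [← algebraMap_smul S t, ← map_smul, ← map_smul,
            show L₀.mkQ (algebraMap R S t • z) = 0 from (Submodule.Quotient.mk_eq_zero _).2
              (Submodule.mem_sup_right (Finset.le_sup (f := Li) (Finset.mem_univ i) htz)), map_zero]
        show w ⊗ₜ[R] j 1 i = 0
        rw [show j 1 i = t • IsLocalization.mk' (Localization (T i)) (1 : R) (⟨t, ht⟩ : T i) by
          show algebraMap R (Localization (T i)) 1 = _
          rw [Algebra.smul_def]
          exact (IsLocalization.mk'_spec' (Localization (T i)) (1 : R) (⟨t, ht⟩ : T i)).symm, ← TensorProduct.smul_tmul, htw, TensorProduct.zero_tmul]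
      have hw0 : w = 0 := by
        have := congrArg (TensorProduct.rid R (LocalizedModule Q.primeCompl P)) hw
        rwa [map_zero, TensorProduct.rid_tmul, one_smul] at this
      obtain ⟨s, hs⟩ := (IsLocalizedModule.eq_zero_iff Q.primeCompl k).1 hw0
      exact s.2 (hQle (Submodule.mem_colon_singleton.2 ((Submodule.Quotient.mk_eq_zero _).1 ((map_smul L₀.mkQ _ z).trans hs))))
    obtain ⟨k, hk⟩ := hrad
    exact ⟨k, Submodule.mem_colon_singleton.1 hk⟩
  choose g hg L hfg hle hk using hloc
  obtain ⟨U, hU⟩ := CompactSpace.isCompact_univ.elim_finite_subcover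
    (fun x => (PrimeSpectrum.basicOpen (g x) : Set (PrimeSpectrum S))) (fun x => (PrimeSpectrum.basicOpen _).2)
    fun x _ => Set.mem_iUnion.2 ⟨x, hg x⟩
  refine Module.finitePresentation_of_surjective π hπ ?_
  have hker : LinearMap.ker π = U.sup L := by
    refine le_antisymm (fun z hz => ?_) (Finset.sup_le fun x _ => hle x)
    by_contra hno
    have hne : (U.sup L).colon ({z} : Set (Fin r → S)) ≠ ⊤ := fun h => hno (by
      have := Submodule.mem_colon_singleton.1 (h ▸ Submodule.mem_top : (1 : S) ∈ (U.sup L).colon ({z} : Set (Fin r → S)))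
      rwa [one_smul] at this)
    obtain ⟨m, hm, hle'⟩ := Ideal.exists_le_maximal _ hne
    haveI := hm.isPrime
    obtain ⟨x, hx, hmx⟩ := Set.mem_iUnion₂.1 (hU (Set.mem_univ (⟨m, inferInstance⟩ : PrimeSpectrum S)))
    obtain ⟨k, hk'⟩ := hk x z hz
    exact hmx (hm.isPrime.mem_of_pow_mem k (hle' (Submodule.mem_colon_singleton.2 (Finset.le_sup (f := L) hx hk'))))
  rw [hker]
  exact Submodule.fg_finset_sup _ _ fun x _ => hfg x

end FlatInjLib
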