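import Groth.Agent.FlatInjLib.EtaleTransfer
import Mathlib

/-!
# Transfer of finite presentation of localisations
-/

set_option autoImplicit false
set_option linter.style.haveILetI false

universe u

open scoped TensorProduct

namespace FlatInjLib

/-- Finite presentation of a finite module descends along faithfully flat maps. -/
theorem finitePresentation_descent {A B M : Type u} [CommRing A] [CommRing B] [Algebra A B]
    [Module.FaithfullyFlat A B] [AddCommGroup M] [Module A M] [Module.Finite A M]
    [Module.FinitePresentation B (B ⊗[A] M)] : Module.FinitePresentation A M := by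
  obtain ⟨r, π, hπ⟩ := Module.Finite.exists_fin' A M
  refine Module.finitePresentation_of_surjective π hπ ?_
  let K := LinearMap.ker π
  have hfg : (LinearMap.ker (π.baseChange B)).FG :=
    Module.FinitePresentation.fg_ker (π.baseChange B) (LinearMap.lTensor_surjective B hπ)
  have hinj : Function.Injective (K.subtype.baseChange B) :=
    Module.Flat.lTensor_preserves_injective_linearMap (M := B) K.subtype K.injective_subtype
  have hex : Function.Exact (K.subtype.baseChange B) (π.baseChange B) :=
    lTensor_exact B π.exact_subtype_ker_map hπ
  rw [LinearMap.exact_iff] at hex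
  rw [hex] at hfg
  haveI : Module.Finite B (LinearMap.range (K.subtype.baseChange B)) := Module.Finite.iff_fg.2 hfg
  haveI : Module.Finite B (B ⊗[A] K) := Module.Finite.equiv (LinearEquiv.ofInjective _ hinj).symm
  exact Module.Finite.iff_fg.1 (Module.Finite.of_finite_tensorProduct_of_faithfullyFlat (R := A) B)

variable {S S' : Type u} [CommRing S] [CommRing S'] [Algebra S S'] {N N' : Type u} [AddCommGroup N]
  [Module S N] [AddCommGroup N'] [Module S' N'] [Module S N'] [IsScalarTower S S' N']

/-- The localised base change, as a base change. -/
theorem exists_isBaseChange_localization (f : N →ₗ[S] N') (hf : IsBaseChange S' f) (T : Submonoid S)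
    (T' : Submonoid S') (g : Localization T →+* Localization T')
    (hg : ∀ x, g (algebraMap S _ x) = algebraMap S' _ (algebraMap S S' x)) :
    letI := g.toAlgebra
    letI : Module (Localization T) (LocalizedModule T' N') := Module.compHom _ g
    ∃ k : LocalizedModule T N →ₗ[Localization T] LocalizedModule T' N',
      ∀ [IsScalarTower (Localization T) (Localization T') (LocalizedModule T' N')],
        IsBaseChange (Localization T') k := by
  letI := g.toAlgebra
  letI : Module (Localization T) (LocalizedModule T' N') := Module.compHom _ g
  haveI : IsScalarTower S (Localization T) (Localization T') :=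
    IsScalarTower.of_algebraMap_eq fun x => by
      rw [RingHom.algebraMap_toAlgebra, hg, ← IsScalarTower.algebraMap_apply]
  haveI : IsScalarTower (Localization T) (Localization T') (LocalizedModule T' N') :=
    IsScalarTower.of_compHom _ _ _
  haveI : IsScalarTower S (Localization T) (LocalizedModule T' N') :=
    IsScalarTower.of_algebraMap_smul fun x y => by
      show g (algebraMap S _ x) • y = x • y
      rw [hg, algebraMap_smul, algebraMap_smul]
  have h1 : IsBaseChange (Localization T) (LocalizedModule.mkLinearMap T N) :=
    IsLocalizedModule.isBaseChange T _ _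
  have h2 : IsBaseChange (Localization T') (LocalizedModule.mkLinearMap T' N') :=
    IsLocalizedModule.isBaseChange T' _ _
  refine ⟨h1.lift (((LocalizedModule.mkLinearMap T' N').restrictScalars S).comp f), fun {_} => ?_⟩
  refine IsBaseChange.of_comp h1 ?_
  rw [h1.lift_comp]
  exact hf.comp h2

/-- Finite presentation of a localisation passes to a base change. -/
theorem fp_localization_of_le (f : N →ₗ[S] N') (hf : IsBaseChange S' f) (T : Submonoid S)
    (T' : Submonoid S') (hT : ∀ t ∈ T, IsUnit (algebraMap S' (Localization T') (algebraMap S S' t)))
    (h : Module.FinitePresentation (Localization T) (LocalizedModule T N)) :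
    Module.FinitePresentation (Localization T') (LocalizedModule T' N') := by
  let g : Localization T →+* Localization T' := IsLocalization.lift (M := T)
    (g := (algebraMap S' (Localization T')).comp (algebraMap S S')) fun t => hT t t.2
  obtain ⟨k, hk⟩ := exists_isBaseChange_localization f hf T T' g fun x => IsLocalization.lift_eq _ x
  letI := g.toAlgebra
  letI : Module (Localization T) (LocalizedModule T' N') := Module.compHom _ g
  haveI : IsScalarTower (Localization T) (Localization T') (LocalizedModule T' N') :=
    IsScalarTower.of_compHom _ _ _
  exact FinitePresentation.of_isBaseChange k hk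

/-- Finite presentation of a localisation descends when every prime is hit. -/
theorem fp_localization_descent [Module.Flat S S'] [Module.Finite S N] (f : N →ₗ[S] N')
    (hf : IsBaseChange S' f) (T : Submonoid S) (T' : Submonoid S')
    (hT : ∀ t ∈ T, IsUnit (algebraMap S' (Localization T') (algebraMap S S' t)))
    (hhit : ∀ (P : Ideal S) [P.IsPrime], Disjoint (T : Set S) P →
      ∃ P' : Ideal S', P'.IsPrime ∧ Disjoint (T' : Set S') P' ∧ P'.comap (algebraMap S S') = P)
    (h : Module.FinitePresentation (Localization T') (LocalizedModule T' N')) :
    Module.FinitePresentation (Localization T) (LocalizedModule T N) := by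
  let g : Localization T →+* Localization T' := IsLocalization.lift (M := T)
    (g := (algebraMap S' (Localization T')).comp (algebraMap S S')) fun t => hT t t.2
  have hg : ∀ x, g (algebraMap S _ x) = algebraMap S' _ (algebraMap S S' x) :=
    fun x => IsLocalization.lift_eq _ x
  obtain ⟨k, hk⟩ := exists_isBaseChange_localization f hf T T' g hg
  letI := g.toAlgebra
  letI : Module (Localization T) (LocalizedModule T' N') := Module.compHom _ g
  haveI : IsScalarTower (Localization T) (Localization T') (LocalizedModule T' N') :=
    IsScalarTower.of_compHom _ _ _
  haveI : IsScalarTower S (Localization T) (Localization T') :=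
    IsScalarTower.of_algebraMap_eq fun x => by
      rw [RingHom.algebraMap_toAlgebra, hg, ← IsScalarTower.algebraMap_apply]
  haveI : Module.Flat S (Localization T') := Module.Flat.trans S S' _
  haveI : Module.Flat (Localization T) (Localization T') :=
    (Module.flat_iff_of_isLocalization (Localization T) T _).2 ‹_›
  haveI : Module.FaithfullyFlat (Localization T) (Localization T') := by
    refine Module.FaithfullyFlat.of_comap_surjective fun Q => ?_
    obtain ⟨hp, hdis⟩ := (IsLocalization.isPrime_iff_isPrime_disjoint T _ Q.asIdeal).1 Q.2
    haveI := hp
    obtain ⟨P', hP', hd', hc⟩ := hhit _ hdis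
    refine ⟨⟨P'.map (algebraMap S' _), IsLocalization.isPrime_of_isPrime_disjoint T' _ P' hP' hd'⟩,
      PrimeSpectrum.ext ?_⟩
    have hback : (P'.map (algebraMap S' (Localization T'))).comap (algebraMap S' _) = P' :=
      IsLocalization.comap_map_of_isPrime_disjoint T' _ hP' hd'
    rw [PrimeSpectrum.comap_asIdeal, ← IsLocalization.map_comap T (Localization T)
      ((P'.map (algebraMap S' (Localization T'))).comap (algebraMap (Localization T) (Localization T'))),
      ← IsLocalization.map_comap T (Localization T) Q.asIdeal]
    congr 1
    simp only [Ideal.under_def]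
    rw [Ideal.comap_comap, ← IsScalarTower.algebraMap_eq,
      IsScalarTower.algebraMap_eq S S' (Localization T'), ← Ideal.comap_comap, hback, hc]
  haveI : Module.FinitePresentation (Localization T') (Localization T' ⊗[Localization T] LocalizedModule T N) :=
    Module.FinitePresentation.of_equiv (hk.equiv).symm
  exact finitePresentation_descent (B := Localization T')

omit [Algebra S S'] in
/-- Finite presentation of a localisation over a finite finitely presented algebra. -/
theorem fp_localization_iff_of_finite {D C G : Type u} [CommRing D] [CommRing C] [Algebra D C]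
    [Module.FinitePresentation D C] [AddCommGroup G] [Module C G] [Module D G] [IsScalarTower D C G]
    (T : Submonoid D) (T' : Submonoid C) (hle : ∀ t ∈ T, algebraMap D C t ∈ T')
    (hdiv : ∀ t' ∈ T', ∃ t ∈ T, ∃ c : C, algebraMap D C t = t' * c) :
    Module.FinitePresentation (Localization T') (LocalizedModule T' G) ↔
      Module.FinitePresentation (Localization T) (LocalizedModule T G) := by
  let CT := Localization T'
  let GT := LocalizedModule T' G
  haveI hC : IsLocalization (Algebra.algebraMapSubmonoid C T) CT :=
    (IsLocalization.iff_of_le_of_exists_dvd (Algebra.algebraMapSubmonoid C T) T'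
      (by rintro _ ⟨t, ht, rfl⟩; exact hle t ht)
      fun t' ht' => by
        obtain ⟨t, ht, c, hc⟩ := hdiv t' ht'
        exact ⟨_, ⟨t, ht, rfl⟩, ⟨c, hc⟩⟩).2 inferInstance
  let f : G →ₗ[D] GT := (LocalizedModule.mkLinearMap T' G).restrictScalars D
  haveI : IsLocalizedModule T f := by
    refine ⟨fun d => ?_, fun x => ?_, fun {m₁ m₂} hm => ?_⟩
    · have hu := IsLocalizedModule.map_units (LocalizedModule.mkLinearMap T' G)
        (⟨_, hle d d.2⟩ : T')
      rw [Module.End.isUnit_iff] at hu ⊢
      convert hu using 1
      funext v
      show (d : D) • v = algebraMap D C (d : D) • v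
      rw [algebraMap_smul]
    · obtain ⟨⟨m, c⟩, hmc⟩ := IsLocalizedModule.surj T' (LocalizedModule.mkLinearMap T' G) x
      obtain ⟨d, hd, c', hdc⟩ := hdiv c c.2
      refine ⟨(c' • m, ⟨d, hd⟩), ?_⟩
      show d • x = LocalizedModule.mkLinearMap T' G (c' • m)
      rw [← algebraMap_smul C d x, hdc, mul_comm, mul_smul, map_smul]
      exact congrArg (c' • ·) hmc
    · obtain ⟨c, hc⟩ := IsLocalizedModule.exists_of_eq (S := T')
        (f := LocalizedModule.mkLinearMap T' G) hm
      obtain ⟨d, hd, c', hdc⟩ := hdiv c c.2
      refine ⟨⟨d, hd⟩, ?_⟩
      show d • m₁ = d • m₂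
      rw [← algebraMap_smul C d m₁, ← algebraMap_smul C d m₂, hdc, mul_comm, mul_smul, mul_smul]
      exact congrArg (c' • ·) hc
  let g : Localization T →+* CT := IsLocalization.lift (M := T)
    (g := (algebraMap C CT).comp (algebraMap D C))
    fun t => IsLocalization.map_units _ (⟨_, hle t t.2⟩ : T')
  have hg : ∀ x, g (algebraMap D _ x) = algebraMap C CT (algebraMap D C x) :=
    fun x => IsLocalization.lift_eq _ x
  letI := g.toAlgebra
  letI : Module (Localization T) GT := Module.compHom _ g
  haveI : IsScalarTower (Localization T) CT GT := IsScalarTower.of_compHom _ _ _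
  haveI : IsScalarTower D (Localization T) CT := IsScalarTower.of_algebraMap_eq fun x => by
    rw [RingHom.algebraMap_toAlgebra, hg, ← IsScalarTower.algebraMap_apply]
  haveI : IsScalarTower D (Localization T) GT :=
    IsScalarTower.of_algebraMap_smul fun x y => by
      show g (algebraMap D _ x) • y = x • y
      rw [hg, algebraMap_smul, algebraMap_smul]
  haveI : IsLocalizedModule T (IsScalarTower.toAlgHom D C CT).toLinearMap :=
    isLocalizedModule_iff_isLocalization.2 hC
  haveI : Module.FinitePresentation (Localization T) CT :=
    FinitePresentation.of_isBaseChange (IsScalarTower.toAlgHom D C CT).toLinearMap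
      (IsLocalizedModule.isBaseChange T (Localization T) _)
  let e : LocalizedModule T G ≃ₗ[Localization T] GT :=
    (IsLocalizedModule.iso T f).extendScalarsOfIsLocalization T (Localization T)
  rw [e.finitePresentation_iff]
  refine ⟨fun h => Module.FinitePresentation.trans (Localization T) GT CT, fun h => ?_⟩
  haveI := h
  haveI : Module.Finite CT GT := Module.Finite.of_restrictScalars_finite (Localization T) CT GT
  obtain ⟨r, π, hπ⟩ := Module.Finite.exists_fin' CT GT
  refine Module.finitePresentation_of_surjective π hπ ?_
  have h1 : ((LinearMap.ker π).restrictScalars (Localization T)).FG :=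
    Module.FinitePresentation.fg_ker (π.restrictScalars (Localization T)) hπ
  exact Submodule.FG.of_restrictScalars (Localization T) h1

end FlatInjLib
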