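import Groth.Agent.FlatInjLib.Inj
import Groth.Agent.FlatLib.SectionsFP
import Groth.Agent.FlatLib.QStalk
import Mathlib.RingTheory.Flat.Equalizer
import Mathlib

/-!
# Freeness from flatness over the base and flatness on the fibre
-/

set_option autoImplicit false

universe u

open IsLocalRing
open scoped TensorProduct

namespace FlatInjLib

theorem free_of_flat_of_flat_fibre {A B N : Type u} [CommRing A] [CommRing B] [IsLocalRing A]
    [IsLocalRing B] [Algebra A B] [IsLocalHom (algebraMap A B)] [AddCommGroup N] [Module B N]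
    [Module A N] [IsScalarTower A B N] [Module.FinitePresentation B N] [Module.Flat A N]
    (h : Module.Flat (B ⧸ (maximalIdeal A).map (algebraMap A B))
      (N ⧸ ((maximalIdeal A).map (algebraMap A B) • (⊤ : Submodule B N)))) : Module.Free B N := by
  classical
  set I := (maximalIdeal A).map (algebraMap A B)
  have hIle : I ≤ maximalIdeal B := Ideal.map_le_iff_le_comap.2 fun a ha hu =>
    ha (IsUnit.of_map (algebraMap A B) a hu)
  haveI : Nontrivial (B ⧸ I) :=
    Ideal.Quotient.nontrivial_iff.2 fun h => maximalIdeal.isMaximal B |>.ne_top (top_le_iff.1 (h ▸ hIle))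
  haveI : IsLocalRing (B ⧸ I) := IsLocalRing.of_surjective' _ Ideal.Quotient.mk_surjective
  let q := Submodule.mkQ (I • (⊤ : Submodule B N))
  haveI : Module.Finite (B ⧸ I) (N ⧸ I • (⊤ : Submodule B N)) :=
    Module.Finite.of_restrictScalars_finite B _ _
  haveI : Module.Flat (B ⧸ I) (N ⧸ I • (⊤ : Submodule B N)) := h
  haveI : Module.Free (B ⧸ I) (N ⧸ I • (⊤ : Submodule B N)) := Module.free_of_flat_of_isLocalRing
  let b := Module.Free.chooseBasis (B ⧸ I) (N ⧸ I • (⊤ : Submodule B N))
  let ι := Module.Free.ChooseBasisIndex (B ⧸ I) (N ⧸ I • (⊤ : Submodule B N))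
  choose v hv using fun i : ι => Submodule.mkQ_surjective (I • (⊤ : Submodule B N)) (b i)
  let π : (ι → B) →ₗ[B] N := Fintype.linearCombination B v
  have hq : ∀ c : ι → B, q (π c) = ∑ i, Ideal.Quotient.mk I (c i) • b i := fun c => by
    rw [Fintype.linearCombination_apply, map_sum]
    refine Finset.sum_congr rfl fun i _ => ?_
    rw [map_smul, hv]
    rfl
  have hπ : Function.Surjective π := by
    rw [← LinearMap.range_eq_top]
    refine top_le_iff.1 (Submodule.le_of_le_smul_of_le_jacobson_bot (Module.Finite.fg_top (R := B) (M := N))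
      (hIle.trans (IsLocalRing.maximalIdeal_le_jacobson _)) fun x _ => ?_)
    choose c hc using fun i => Ideal.Quotient.mk_surjective (b.repr (q x) i)
    refine Submodule.mem_sup.2 ⟨π c, LinearMap.mem_range_self π c, x - π c, ?_, add_sub_cancel _ _⟩
    refine (Submodule.Quotient.mk_eq_zero _).1 ?_
    show q (x - π c) = 0
    rw [map_sub, hq, sub_eq_zero]
    simp_rw [hc]
    exact (b.sum_repr (q x)).symm
  let K := LinearMap.ker π
  have hKfg : K.FG := Module.FinitePresentation.fg_ker π hπ
  have hK : K = ⊥ := by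
    refine Submodule.eq_bot_of_le_smul_of_le_jacobson_bot I K hKfg (fun k hk => ?_)
      (hIle.trans (IsLocalRing.maximalIdeal_le_jacobson _))
    have hcoord : ∀ i, k i ∈ I := by
      have h0 : ∑ i, Ideal.Quotient.mk I (k i) • b i = 0 := by
        rw [← hq, show π k = 0 from hk, map_zero]
      intro i
      exact Ideal.Quotient.eq_zero_iff_mem.1 (Fintype.linearIndependent_iff.1 b.linearIndependent _ h0 i)
    have hmem : k ∈ maximalIdeal A • (⊤ : Submodule A (ι → B)) := by
      rw [mem_smul_top_iff_map (B := B)]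
      rw [pi_eq_sum_univ k]
      exact Submodule.sum_mem _ fun i _ => Submodule.smul_mem_smul (hcoord i) Submodule.mem_top
    have hinj := LinearMap.lTensor_injective_of_exact_of_flat (π.restrictScalars A) hπ
      (K.subtype.restrictScalars A) K.injective_subtype (LinearMap.exact_subtype_ker_map π)
      (A ⧸ maximalIdeal A)
    have h1 : k ∈ LinearMap.ker (TensorProduct.mk A (A ⧸ maximalIdeal A) (ι → B) 1) :=
      (LinearMap.ker_tensorProductMk (R := A) (Q := ι → B) (I := maximalIdeal A)).ge hmem
    have h2 : (⟨k, hk⟩ : K) ∈ maximalIdeal A • (⊤ : Submodule A K) := by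
      refine (LinearMap.ker_tensorProductMk (R := A) (Q := K) (I := maximalIdeal A)).le
        (LinearMap.mem_ker.2 (hinj ?_))
      rw [map_zero]
      exact (LinearMap.lTensor_tmul _ _ _ _).trans (LinearMap.mem_ker.1 h1)
    rw [mem_smul_top_iff_map (B := B)] at h2
    exact (Submodule.mem_smul_top_iff I K ⟨k, hk⟩).1 h2
  exact Module.Free.of_equiv (LinearEquiv.ofBijective π ⟨LinearMap.ker_eq_bot.1 hK, hπ⟩)

end FlatInjLib

open AlgebraicGeometry in
theorem FlatInjLib.finitePresentation_stalk {X : Scheme.{u}} {M : X.Modules} [Coh.IsQCoh M]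
    (h : CohB1.IsFP M) (x : X) :
    Module.FinitePresentation (X.presheaf.stalk x) (M.presheaf.stalk x) := by
  obtain ⟨W, hW, -, hxW, hfp⟩ := FlatLib.exists_finitePresentation_nhd h (x := x) (U := ⊤) trivial
  letI := Module.compHom (M.presheaf.stalk x) (X.presheaf.germ W x hxW).hom
  letI : Algebra Γ(X, W) (X.presheaf.stalk x) := (X.presheaf.germ W x hxW).hom.toAlgebra
  haveI : IsScalarTower Γ(X, W) (X.presheaf.stalk x) (M.presheaf.stalk x) :=
    IsScalarTower.of_algebraMap_smul fun _ _ ↦ rfl
  haveI : IsLocalization.AtPrime (X.presheaf.stalk x) (hW.primeIdealOf ⟨x, hxW⟩).asIdeal :=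
    hW.isLocalization_stalk ⟨x, hxW⟩
  haveI := FlatLib.isLocalizedModule_germLin M hW hxW
  haveI := hfp
  exact FinitePresentation.of_isBaseChange (FlatLib.germLin M hxW)
    (IsLocalizedModule.isBaseChange (hW.primeIdealOf ⟨x, hxW⟩).asIdeal.primeCompl _ _)
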